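import Mathlib
import Cfsg.Agent.Lib.Offender.Replace

/-!
A `p`-minimal group generated by an offender and each of its conjugates outside the maximal
subgroup: the module modulo fixed points is the sum of two fixed spaces of the offender's size,
and the images of the fixed space form a partition.
-/

set_option autoImplicit false
set_option linter.style.longLine false

namespace Cfsg.Agent.FFNatural

open Cfsg.Lib.Offender

variable {p : ℕ} {P V : Type*} [Group P] [AddCommGroup V] [Module (ZMod p) V]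
variable {f : Representation (ZMod p) P V}

theorem inv_app (g : P) (v : V) : f g⁻¹ (f g v) = v := by
  rw [← Module.End.mul_apply, ← map_mul, inv_mul_cancel, map_one, Module.End.one_apply]

theorem app_inv (g : P) (v : V) : f g (f g⁻¹ v) = v := by
  rw [← Module.End.mul_apply, ← map_mul, mul_inv_cancel, map_one, Module.End.one_apply]

theorem mul_app (g h : P) (v : V) : f (g * h) v = f g (f h v) := by
  rw [map_mul, Module.End.mul_apply]

theorem f_injective (g : P) : Function.Injective (f g) :=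
  Function.LeftInverse.injective (inv_app g)

/-- The group elements fixing a vector. -/
def vecStab (f : Representation (ZMod p) P V) (v : V) : Subgroup P where
  carrier := {g | f g v = v}
  one_mem' := by simp
  mul_mem' {g h} (hg : f g v = v) (hh : f h v = v) := by
    show f (g * h) v = v
    rw [mul_app, hh, hg]
  inv_mem' {g} (hg : f g v = v) := by
    show f g⁻¹ v = v
    conv_lhs => rw [← hg]
    rw [inv_app]

theorem fixed_anti {A B : Subgroup P} (h : A ≤ B) : fixed f B ≤ fixed f A :=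
  fun _ hv b hb => hv b (h hb)

theorem mem_fixed_sup {A B : Subgroup P} {v : V} (hA : v ∈ fixed f A) (hB : v ∈ fixed f B) :
    v ∈ fixed f (A ⊔ B) := fun g hg =>
  (sup_le (fun a ha => hA a ha) (fun b hb => hB b hb) : A ⊔ B ≤ vecStab f v) hg

theorem mem_fixed_conj {A : Subgroup P} {g : P} {v : V} :
    v ∈ fixed f (A.map (MulAut.conj g).toMonoidHom) ↔ v ∈ (fixed f A).map (f g) := by
  constructor
  · intro h
    refine ⟨f g⁻¹ v, fun a ha => ?_, app_inv g v⟩
    have := h (g * a * g⁻¹) ⟨a, ha, by simp⟩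
    rw [mul_app, mul_app] at this
    exact f_injective g (this.trans (app_inv g v).symm)
  · rintro ⟨u, hu, rfl⟩ b hb
    obtain ⟨a, ha, rfl⟩ := hb
    rw [MulEquiv.coe_toMonoidHom, MulAut.conj_apply, mul_app, mul_app, inv_app, hu a ha]


theorem map_fixed_top (g : P) : (fixed f ⊤).map (f g) = fixed f ⊤ := by
  refine le_antisymm ?_ fun v hv => ⟨v, hv, hv g trivial⟩
  rintro _ ⟨v, hv, rfl⟩
  rw [hv g trivial]; exact hv

theorem card_sup_inf [Fact p.Prime] [Finite V] (A B : Submodule (ZMod p) V) :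
    Nat.card ↥(A ⊔ B) * Nat.card ↥(A ⊓ B) = Nat.card ↥A * Nat.card ↥B := by
  have e : ∀ C : Submodule (ZMod p) V, Nat.card ↥C = p ^ Module.finrank (ZMod p) ↥C := fun C => by
    rw [Module.natCard_eq_pow_finrank (K := ZMod p), Nat.card_zmod]
  rw [e, e, e, e, ← pow_add, ← pow_add, Submodule.finrank_sup_add_finrank_inf_eq]

theorem card_map (g : P) (A : Submodule (ZMod p) V) : Nat.card ↥(A.map (f g)) = Nat.card ↥A :=
  Nat.card_congr (Submodule.equivMapOfInjective (f g) (f_injective g) A).toEquiv.symm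

theorem eq_of_le_of_card [Finite V] {A B : Submodule (ZMod p) V} (h : A ≤ B)
    (hc : Nat.card ↥B ≤ Nat.card ↥A) : A = B :=
  SetLike.coe_injective (Set.eq_of_subset_of_ncard_le h
    (by rwa [← Nat.card_coe_set_eq, ← Nat.card_coe_set_eq]) (Set.toFinite _))

/-- A submodule containing all `g v - v` is invariant. -/
theorem map_le_of_move {U : Submodule (ZMod p) V} {g : P} (h : ∀ v, f g v - v ∈ U) :
    U.map (f g) ≤ U := by
  rintro _ ⟨u, hu, rfl⟩
  simpa using add_mem (h u) hu

/-- The hypotheses. -/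
structure Setting (f : Representation (ZMod p) P V) (T : Sylow p P) (M : Subgroup P)
    (A : Subgroup P) : Prop where
  inj : ∀ g, f g = 1 → g = 1
  coatom : IsCoatom M
  le : (T : Subgroup P) ≤ M
  uniq : ∀ K : Subgroup P, IsCoatom K → (T : Subgroup P) ≤ K → K = M
  sub : A ≤ (T : Subgroup P)
  comm : ∀ a ∈ A, ∀ b ∈ A, a * b = b * a
  exp : ∀ a ∈ A, a ^ p = 1
  off : Nat.card V ≤ Nat.card ↥A * Nat.card ↥(fixed f A)
  strict : ∀ B ≤ A, B ≠ ⊥ → B ≠ A →
    Nat.card ↥B * Nat.card ↥(fixed f B) < Nat.card ↥A * Nat.card ↥(fixed f A)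
  move : ¬ fixed f (T : Subgroup P) ≤ fixed f ⊤
  gen : ∀ x, x ∉ M → A ⊔ A.map (MulAut.conj x).toMonoidHom = ⊤

namespace Setting

variable {T : Sylow p P} {M A : Subgroup P} (h : Setting f T M A)
include h

theorem ne_bot : A ≠ ⊥ := by
  intro e
  obtain ⟨x, hx⟩ := SetLike.exists_not_mem_of_ne_top M h.coatom.1
  have := h.gen x hx
  rw [e, Subgroup.map_bot, sup_bot_eq] at this
  have hP : ∀ g : P, g = 1 := fun g => Subgroup.mem_bot.1 (this ▸ Subgroup.mem_top g)
  exact hx (hP x ▸ M.one_mem)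

theorem quad [Fact p.Prime] [Finite P] [Finite V] :
    ∀ b ∈ A, ∀ a ∈ A, ∀ v, f b (f a v - v) = f a v - v := by
  have hO : Offends f A := by
    intro B hB
    rcases eq_or_ne B A with rfl | hne
    · exact le_rfl
    rcases eq_or_ne B ⊥ with rfl | hne'
    · rw [Subgroup.card_bot, one_mul]
      exact le_trans (Nat.card_le_card_of_injective _ Subtype.val_injective) h.off
    · exact (h.strict B hB hne' hne).le
  obtain ⟨B, hBA, hB, hq, hspan⟩ := replacement h.comm hO
  rcases eq_or_ne B A with rfl | hne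
  · exact hq
  rcases eq_or_ne B ⊥ with rfl | hne'
  · exfalso
    have htop : fixed f (⊥ : Subgroup P) = ⊤ := by
      refine eq_top_iff.2 fun v _ b hb => ?_
      rw [Subgroup.mem_bot.1 hb, map_one, Module.End.one_apply]
    rw [htop, top_le_iff] at hspan
    exact h.ne_bot ((Subgroup.eq_bot_iff_forall _).2 fun a ha =>
      h.inj a (eq_one_of_span_eq_top h.comm h.exp hspan a ha))
  · exact absurd hB (not_le.2 (h.strict B hBA hne' hne))

theorem sub_mem_fixed [Fact p.Prime] [Finite P] [Finite V] {a : P} (ha : a ∈ A) (v : V) :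
    f a v - v ∈ fixed f A := fun b hb => h.quad b hb a ha v

theorem fixed_T_le : fixed f (T : Subgroup P) ≤ fixed f A := fixed_anti h.sub

theorem inf_map {x : P} (hx : x ∉ M) : fixed f A ⊓ (fixed f A).map (f x) = fixed f ⊤ := by
  refine le_antisymm (fun v hv => ?_) (le_inf (fixed_anti le_top) ?_)
  · rw [← h.gen x hx]
    exact mem_fixed_sup hv.1 (mem_fixed_conj.2 hv.2)
  · conv_lhs => rw [← map_fixed_top x]
    exact Submodule.map_mono (fixed_anti le_top)

theorem not_mem_fixed {z : V} (hz : z ∈ fixed f (T : Subgroup P)) (hzW : z ∉ fixed f ⊤) {g : P}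
    (hg : g ∉ M) : f g z ∉ fixed f A := by
  intro hc
  have h1 : f g z ∈ fixed f ⊤ := (h.inf_map hg).le ⟨hc, z, h.fixed_T_le hz, rfl⟩
  rw [← map_fixed_top g] at h1
  obtain ⟨w, hw, e⟩ := h1
  exact hzW (f_injective g e ▸ hw)

/-- The part of the core of `M` in `T` is normal. -/
theorem inf_core_le [Fact p.Prime] [Finite P] : (T : Subgroup P) ⊓ M.normalCore ≤ (T : Subgroup P).normalCore := by
  set N := M.normalCore
  set S := (T : Subgroup P) ⊓ N with hS
  have hn : Subgroup.normalizer (S : Set P) = ⊤ := by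
    by_contra hne
    obtain ⟨K, hK, hle⟩ := (eq_top_or_exists_le_coatom (Subgroup.normalizer (S : Set P))).resolve_left hne
    have hTK : (T : Subgroup P) ≤ Subgroup.normalizer (S : Set P) := by
      intro t ht
      rw [Subgroup.mem_normalizer_iff]
      intro x
      have h1 : x ∈ (T : Subgroup P) ↔ t * x * t⁻¹ ∈ (T : Subgroup P) := by
        constructor
        · exact fun hx => mul_mem (mul_mem ht hx) (inv_mem ht)
        · intro hx
          simpa [mul_assoc] using mul_mem (mul_mem (inv_mem ht) hx) ht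
      have h2 : x ∈ N ↔ t * x * t⁻¹ ∈ N := by
        constructor
        · exact fun hx => Subgroup.normalCore_normal M |>.conj_mem x hx t
        · intro hx
          simpa [mul_assoc] using (Subgroup.normalCore_normal M).conj_mem _ hx t⁻¹
      exact and_congr h1 h2
    have hKM : K = M := h.uniq K hK (hTK.trans hle)
    have hSp : IsPGroup p (S.subgroupOf N) := by
      exact (T.isPGroup'.to_le inf_le_left).comap_of_injective _ Subtype.val_injective
    obtain ⟨R, hR⟩ := hSp.exists_le_sylow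
    have hR'p : IsPGroup p ((R : Subgroup N).map N.subtype) := R.isPGroup'.map _
    obtain ⟨T', hT'⟩ := hR'p.exists_le_sylow
    obtain ⟨g, hg⟩ := MulAction.exists_smul_eq P T T'
    have hSR : S ≤ (R : Subgroup N).map N.subtype := fun x hx =>
      ⟨⟨x, hx.2⟩, hR hx, rfl⟩
    have hcard : Nat.card ↥((R : Subgroup N).map N.subtype) ≤ Nat.card ↥S := by
      rw [← Subgroup.card_map_of_injective (f := (MulAut.conj g).toMonoidHom) (K := S) (MulAut.conj g).injective]
      refine Subgroup.card_le_of_le ?_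
      rintro x hx
      have h1 : x ∈ (T' : Subgroup P) := hT' hx
      rw [← hg, Sylow.coe_subgroup_smul] at h1
      obtain ⟨t, ht, rfl⟩ := h1
      obtain ⟨n, -, hn⟩ := hx
      refine ⟨t, ⟨ht, ?_⟩, rfl⟩
      have h2 : g * t * g⁻¹ ∈ N := by
        have e : (n : P) = g * t * g⁻¹ := hn
        exact e ▸ n.2
      simpa [mul_assoc] using (Subgroup.normalCore_normal M).conj_mem _ h2 g⁻¹
    have hRS : S = (R : Subgroup N).map N.subtype := Subgroup.eq_of_le_of_card_ge hSR hcard
    have hfr := R.normalizer_sup_eq_top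
    rw [← hRS] at hfr
    exact h.coatom.1 (top_le_iff.1 (hfr ▸ sup_le (hle.trans hKM.le) (Subgroup.normalCore_le M)))
  have : S.Normal := Subgroup.normalizer_eq_top_iff.1 hn
  exact Subgroup.normal_le_normalCore.2 inf_le_left

theorem map_sup_invariant [Fact p.Prime] [Finite P] [Finite V] {x : P} (hx : x ∉ M) (g : P) :
    (fixed f A ⊔ (fixed f A).map (f x)).map (f g) ≤ fixed f A ⊔ (fixed f A).map (f x) := by
  set U := fixed f A ⊔ (fixed f A).map (f x) with hU
  let K : Subgroup P :=
    { carrier := {g | ∀ v, f g v - v ∈ U}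
      one_mem' := fun v => by simp
      mul_mem' := fun {g k} hg hk v => by
        have e : f (g * k) v - v = (f g (f k v) - f k v) + (f k v - v) := by rw [mul_app]; abel
        rw [e]
        exact add_mem (hg _) (hk v)
      inv_mem' := fun {g} hg v => by
        have := hg (f g⁻¹ v)
        rw [app_inv] at this
        simpa using neg_mem this }
  have hK : K = ⊤ := by
    rw [← top_le_iff, ← h.gen x hx]
    refine sup_le (fun a ha v => Submodule.mem_sup_left (h.sub_mem_fixed ha v)) ?_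
    rintro _ ⟨a, ha, rfl⟩ v
    refine Submodule.mem_sup_right ⟨f a (f x⁻¹ v) - f x⁻¹ v, h.sub_mem_fixed ha _, ?_⟩
    rw [MulEquiv.coe_toMonoidHom, MulAut.conj_apply, map_sub, app_inv, mul_app, mul_app]
  exact map_le_of_move (hK.ge (Subgroup.mem_top g))

/-- In a small invariant submodule only the fixed space of `A` is fixed by an element of `A` outside
the core. -/
theorem fix_in [Fact p.Prime] [Finite P] [Finite V] {U : Submodule (ZMod p) V}
    (hU : ∀ g, U.map (f g) ≤ U) (hXU : fixed f A ≤ U)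
    (hc : Nat.card ↥U * Nat.card ↥(fixed f ⊤) = Nat.card ↥(fixed f A) * Nat.card ↥(fixed f A))
    {a : P} (ha : a ∈ A) (haQ : a ∉ (T : Subgroup P).normalCore) {v : V} (hvU : v ∈ U)
    (hv : f a v = v) : v ∈ fixed f A := by
  have hnc : a ∉ M.normalCore := fun hc => haQ (h.inf_core_le ⟨h.sub ha, hc⟩)
  obtain ⟨g, hg⟩ : ∃ g, g * a * g⁻¹ ∉ M := by
    by_contra hall
    exact hnc fun g => by_contra fun hg => hall ⟨g, hg⟩
  set Fa := fixed f (Subgroup.zpowers a) ⊓ U with hFa
  have hXF : fixed f A ≤ Fa := le_inf (fixed_anti (Subgroup.zpowers_le.2 ha)) hXU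
  have hinf : fixed f A ⊓ Fa.map (f g) ≤ fixed f ⊤ := by
    rintro w ⟨hwX, u, ⟨hu, -⟩, rfl⟩
    rw [← h.inf_map hg]
    refine ⟨hwX, f g u, hwX, ?_⟩
    rw [mul_app, mul_app, inv_app, hu a (Subgroup.mem_zpowers a)]
  have h1 := card_sup_inf (fixed f A) (Fa.map (f g))
  rw [card_map] at h1
  have h2 : Nat.card ↥(fixed f A ⊔ Fa.map (f g)) ≤ Nat.card ↥U :=
    Nat.card_mono (Set.toFinite _) (SetLike.coe_subset_coe.2
      (sup_le hXU ((Submodule.map_mono inf_le_right).trans (hU g))))
  have h3 : Nat.card ↥(fixed f A ⊓ Fa.map (f g)) ≤ Nat.card ↥(fixed f (⊤ : Subgroup P)) :=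
    Nat.card_mono (Set.toFinite _) (SetLike.coe_subset_coe.2 hinf)
  have h4 : Nat.card ↥(fixed f A) * Nat.card ↥Fa ≤ Nat.card ↥(fixed f A) * Nat.card ↥(fixed f A) :=
    h1 ▸ (Nat.mul_le_mul h2 h3).trans_eq hc
  rw [eq_of_le_of_card hXF (Nat.le_of_mul_le_mul_left h4 Nat.card_pos)]
  refine ⟨fun b hb => ?_, hvU⟩
  exact (Subgroup.zpowers_le.2 (show a ∈ vecStab f v from hv)) hb

/-- What the hypotheses give. -/
theorem main [Fact p.Prime] [Finite P] [Finite V] {y : P} (hy : y ∉ M) :
    (∀ a ∈ A, a ≠ 1 → ∀ v, f a v = v → v ∈ fixed f A) ∧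
    fixed f A ⊔ (fixed f A).map (f y) = ⊤ ∧
    Nat.card ↥(fixed f A) = Nat.card ↥A * Nat.card ↥(fixed f (⊤ : Subgroup P)) ∧
    (∀ a ∈ A, ∀ v ∈ (fixed f A).map (f y), v ∉ fixed f ⊤ → f a v - v ∈ fixed f ⊤ → a = 1) ∧
    (∀ g, (∀ v, f g v - v ∈ fixed f ⊤) → g = 1) := by
  set X := fixed f A with hX
  set W := fixed f (⊤ : Subgroup P) with hW
  set Y := X.map (f y) with hY
  set U := X ⊔ Y with hU
  set Q := (T : Subgroup P).normalCore with hQ
  obtain ⟨z, hz, hzW⟩ := SetLike.not_le_iff_exists.1 h.move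
  have hUi : ∀ g, U.map (f g) ≤ U := h.map_sup_invariant hy
  have hUc : Nat.card ↥U * Nat.card ↥W = Nat.card ↥X * Nat.card ↥X := by
    have := card_sup_inf X Y
    rwa [h.inf_map hy, card_map] at this
  set S := Submodule.span (ZMod p) (Set.range fun g => f g z) ⊔ W with hS
  have hSi : ∀ g, S.map (f g) ≤ S := fun g => by
    rw [hS, Submodule.map_sup, map_fixed_top, Submodule.map_span]
    refine sup_le_sup_right (Submodule.span_mono ?_) _
    rintro _ ⟨_, ⟨k, rfl⟩, rfl⟩
    exact ⟨g * k, mul_app g k z⟩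
  have hWX : W ≤ X := fixed_anti le_top
  have hSU : S ≤ U := sup_le (Submodule.span_le.2 (by
    rintro _ ⟨g, rfl⟩
    exact hUi g ⟨z, Submodule.mem_sup_left (h.fixed_T_le hz), rfl⟩)) (hWX.trans le_sup_left)
  have hQS : ∀ g ∈ Q, ∀ v ∈ S, f g v = v := by
    intro g hg v hv
    have : S ≤ fixed f Q := sup_le (Submodule.span_le.2 (by
      rintro _ ⟨k, rfl⟩ c hc
      have h1 : k⁻¹ * c * k ∈ (T : Subgroup P) := by
        have := Subgroup.normalCore_normal (T : Subgroup P) |>.conj_mem c hc k⁻¹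
        rw [inv_inv] at this
        exact Subgroup.normalCore_le _ this
      have h2 := congrArg (f k) (hz _ h1)
      rw [← mul_app, show k * (k⁻¹ * c * k) = c * k by group, mul_app] at h2
      exact h2)) (fixed_anti le_top)
    exact this hv g hg
  set D := A ⊓ { carrier := {g | ∀ v ∈ S, f g v = v}
                 one_mem' := fun v _ => by simp
                 mul_mem' := fun {g k} hg hk v hv => by rw [mul_app, hk v hv, hg v hv]
                 inv_mem' := fun {g} hg v hv => by
                   conv_lhs => rw [← hg v hv]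
                   rw [inv_app] : Subgroup P } with hD
  -- an element moving some vector only by fixed points lies in `D`
  have claim : ∀ a ∈ A, ∀ v ∈ Y, v ∉ W → f a v - v ∈ W → a ∈ D := by
    intro a ha v hvY hvW hav
    by_cases haQ : a ∈ Q
    · exact ⟨ha, hQS a haQ⟩
    exfalso
    by_cases hm : y⁻¹ * a * y ∈ M
    · have hpw : (⟨_, hm⟩ : M) ^ p = 1 := by
        refine Subtype.ext ?_
        show (y⁻¹ * a * y) ^ p = 1
        have := conj_pow (a := y⁻¹) (b := a) (i := p)
        rw [inv_inv] at this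
        rw [this, h.exp a ha]
        group
      have hpg : IsPGroup p (Subgroup.zpowers (⟨_, hm⟩ : M)) := by
        rintro ⟨g, i, rfl⟩
        exact ⟨1, Subtype.ext (by
          rw [pow_one]
          show ((⟨_, hm⟩ : M) ^ i) ^ p = 1
          rw [← zpow_natCast, ← zpow_mul, mul_comm, zpow_mul, zpow_natCast, hpw, one_zpow])⟩
      obtain ⟨R, hR⟩ := hpg.exists_le_sylow
      obtain ⟨k, hk⟩ := MulAction.exists_smul_eq M (T.subtype h.le) R
      have hmR := hR (Subgroup.mem_zpowers _)
      rw [← hk, Sylow.coe_subgroup_smul] at hmR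
      obtain ⟨t, ht, hkt⟩ := hmR
      have ht' : (t : P) ∈ (T : Subgroup P) := ht
      have hkt' : (k : P) * t * (k : P)⁻¹ = y⁻¹ * a * y := congrArg Subtype.val hkt
      have hfix : f a (f (y * k) z) = f (y * k) z := by
        rw [← mul_app, show a * (y * k) = (y * k) * t by
          rw [show a = y * (y⁻¹ * a * y) * y⁻¹ by group, ← hkt']; group, mul_app, hz _ ht']
      have hnot : f (y * k) z ∉ X := h.not_mem_fixed hz hzW fun hc => hy
        ((M.mul_mem_cancel_right k.2).1 hc)
      exact hnot (h.fix_in hUi le_sup_left hUc ha haQ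
        (hUi _ ⟨z, Submodule.mem_sup_left (h.fixed_T_le hz), rfl⟩) hfix)
    · apply hvW
      have hgen := h.gen _ hm
      obtain ⟨u, hu, rfl⟩ := hvY
      have e : f (y⁻¹ * a * y) u = u + (f a (f y u) - f y u) := by
        rw [mul_app, mul_app]
        have hw : f y⁻¹ (f a (f y u) - f y u) = f a (f y u) - f y u := hav _ trivial
        rw [map_sub, inv_app] at hw
        rw [← hw]; abel
      have hmem : u ∈ (fixed f A).map (f (y⁻¹ * a * y)) :=
        ⟨u - (f a (f y u) - f y u), sub_mem hu (hWX hav), by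
          rw [map_sub, hav (y⁻¹ * a * y) trivial, e]; abel⟩
      have : u ∈ W := (h.inf_map hm).le ⟨hu, hmem⟩
      exact (map_fixed_top y).le ⟨u, this, rfl⟩
  -- counting
  have hyz : f y z ∈ Y := ⟨z, h.fixed_T_le hz, rfl⟩
  have hyzW : f y z ∉ W := fun hc => h.not_mem_fixed hz hzW hy (hWX hc)
  have hyzS : f y z ∈ S := Submodule.mem_sup_left (Submodule.subset_span ⟨y, rfl⟩)
  have hDA : D ≤ A := inf_le_left
  have hinj : Nat.card ↥A * Nat.card ↥W ≤ Nat.card ↥D * Nat.card ↥(S ⊓ X) := by
    have hQ : Nat.card ↥A = Nat.card (↥A ⧸ D.subgroupOf A) * Nat.card ↥D := by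
      rw [Subgroup.card_eq_card_quotient_mul_card_subgroup (D.subgroupOf A),
        Nat.card_congr (Subgroup.subgroupOfEquivOfLe hDA).toEquiv]
    have hin : Nat.card (↥A ⧸ D.subgroupOf A) * Nat.card ↥W ≤ Nat.card ↥(S ⊓ X) := by
      rw [← Nat.card_prod]
      let φ : (↥A ⧸ D.subgroupOf A) × ↥W → ↥(S ⊓ X) := fun q =>
        ⟨(f (q.1.out : P) (f y z) - f y z) + q.2,
          add_mem ⟨sub_mem (hSi _ ⟨_, hyzS, rfl⟩) hyzS, h.sub_mem_fixed q.1.out.2 _⟩
            ⟨Submodule.mem_sup_right q.2.2, hWX q.2.2⟩⟩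
      refine Nat.card_le_card_of_injective φ ?_
      intro q r hqr
      have h0 := congrArg Subtype.val hqr
      change (f (q.1.out : P) (f y z) - f y z) + (q.2 : V) = (f (r.1.out : P) (f y z) - f y z) + r.2 at h0
      have hd : f (r.1.out : P) (f y z) - f (q.1.out : P) (f y z) = (q.2 : V) - r.2 := by
        rw [sub_eq_sub_iff_add_eq_add]
        rw [← sub_eq_zero] at h0 ⊢
        rw [← neg_eq_zero, ← h0]; abel
      have h1 : q.1 = r.1 := by
        rw [← QuotientGroup.out_eq' q.1, ← QuotientGroup.out_eq' r.1]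
        apply QuotientGroup.eq.2
        rw [Subgroup.mem_subgroupOf]
        push_cast
        refine claim _ (A.mul_mem (A.inv_mem q.1.out.2) r.1.out.2) _ hyz hyzW ?_
        have hw : (q.2 : V) - r.2 ∈ W := sub_mem q.2.2 r.2.2
        have := congrArg (f (q.1.out : P)⁻¹) hd
        rw [map_sub, inv_app, ← mul_app, hw _ trivial] at this
        rw [this]; exact hw
      rw [h1, add_right_inj] at h0
      exact Prod.ext h1 (Subtype.ext h0)
    calc Nat.card ↥A * Nat.card ↥W
        = Nat.card ↥D * (Nat.card (↥A ⧸ D.subgroupOf A) * Nat.card ↥W) := by rw [hQ]; ring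
      _ ≤ _ := Nat.mul_le_mul_left _ hin
  have hXS : Nat.card ↥(S ⊓ X) * Nat.card ↥(S ⊓ X) ≤ Nat.card ↥S * Nat.card ↥W := by
    have h1 := card_sup_inf (S ⊓ X) ((S ⊓ X).map (f y))
    rw [card_map] at h1
    rw [← h1]
    refine Nat.mul_le_mul (Nat.card_mono (Set.toFinite _) ?_) (Nat.card_mono (Set.toFinite _) ?_)
    · exact SetLike.coe_subset_coe.2 (sup_le inf_le_left
        ((Submodule.map_mono inf_le_left).trans (hSi y)))
    · refine SetLike.coe_subset_coe.2 ?_
      rw [hW, ← h.inf_map hy]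
      exact inf_le_inf inf_le_right (Submodule.map_mono inf_le_right)
  have hDbot : D = ⊥ := by
    by_contra hne
    rcases eq_or_ne D A with e | hne'
    · exact hyzW ((h.inf_map hy).le ⟨fun a ha => (e.ge ha).2 _ hyzS, hyz⟩)
    have hs := h.strict D hDA hne hne'
    have hle : X ⊔ S ≤ fixed f D := sup_le (fixed_anti hDA) fun v hv d hd => hd.2 v hv
    have h1 := card_sup_inf X S
    rw [inf_comm] at h1
    have h2 : Nat.card ↥(X ⊔ S) ≤ Nat.card ↥(fixed f D) :=
      Nat.card_mono (Set.toFinite _) (SetLike.coe_subset_coe.2 hle)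
    have hi0 : 0 < Nat.card ↥(S ⊓ X) := Nat.card_pos
    have hX0 : 0 < Nat.card ↥X := Nat.card_pos
    have hW0 : 0 < Nat.card ↥W := Nat.card_pos
    have h3 : Nat.card ↥D * Nat.card ↥S < Nat.card ↥A * Nat.card ↥(S ⊓ X) := by
      refine Nat.lt_of_mul_lt_mul_left (a := Nat.card ↥X) ?_
      calc Nat.card ↥X * (Nat.card ↥D * Nat.card ↥S)
          = Nat.card ↥D * Nat.card ↥(X ⊔ S) * Nat.card ↥(S ⊓ X) := by rw [mul_assoc (Nat.card ↥D), h1]; ring
        _ ≤ Nat.card ↥D * Nat.card ↥(fixed f D) * Nat.card ↥(S ⊓ X) :=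
          Nat.mul_le_mul_right _ (Nat.mul_le_mul_left _ h2)
        _ < Nat.card ↥A * Nat.card ↥X * Nat.card ↥(S ⊓ X) := Nat.mul_lt_mul_of_pos_right hs hi0
        _ = _ := by ring
    have h4 : Nat.card ↥D * Nat.card ↥S * Nat.card ↥W < Nat.card ↥D * Nat.card ↥S * Nat.card ↥W :=
      calc Nat.card ↥D * Nat.card ↥S * Nat.card ↥W
          < Nat.card ↥A * Nat.card ↥(S ⊓ X) * Nat.card ↥W := Nat.mul_lt_mul_of_pos_right h3 hW0
        _ = Nat.card ↥(S ⊓ X) * (Nat.card ↥A * Nat.card ↥W) := by ring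
        _ ≤ Nat.card ↥(S ⊓ X) * (Nat.card ↥D * Nat.card ↥(S ⊓ X)) := Nat.mul_le_mul_left _ hinj
        _ = Nat.card ↥D * (Nat.card ↥(S ⊓ X) * Nat.card ↥(S ⊓ X)) := by ring
        _ ≤ Nat.card ↥D * (Nat.card ↥S * Nat.card ↥W) := Nat.mul_le_mul_left _ hXS
        _ = _ := by ring
    exact lt_irrefl _ h4
  rw [hDbot, Subgroup.card_bot, one_mul] at hinj
  have hW0 : 0 < Nat.card ↥W := Nat.card_pos
  have hX0 : 0 < Nat.card ↥X := Nat.card_pos
  have hq1 : Nat.card ↥(S ⊓ X) ≤ Nat.card ↥X :=
    Nat.card_mono (Set.toFinite _) (SetLike.coe_subset_coe.2 inf_le_right)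
  have hoff : Nat.card V ≤ Nat.card ↥A * Nat.card ↥X := h.off
  have hUV : Nat.card ↥U ≤ Nat.card V := Nat.card_le_card_of_injective _ Subtype.val_injective
  -- `|A| |W| = |X|` and everything is `U`
  have hXle : Nat.card ↥X ≤ Nat.card ↥A * Nat.card ↥W := by
    refine Nat.le_of_mul_le_mul_left ?_ hX0
    calc Nat.card ↥X * Nat.card ↥X = Nat.card ↥U * Nat.card ↥W := hUc.symm
      _ ≤ Nat.card ↥A * Nat.card ↥X * Nat.card ↥W := Nat.mul_le_mul_right _ (hUV.trans hoff)
      _ = _ := by ring
  have hcardX : Nat.card ↥X = Nat.card ↥A * Nat.card ↥W := le_antisymm hXle (hinj.trans hq1)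
  have hUtop : U = ⊤ := by
    refine eq_of_le_of_card le_top ?_
    rw [Nat.card_congr (Submodule.topEquiv (R := ZMod p) (M := V)).toEquiv]
    refine Nat.le_of_mul_le_mul_right ?_ hW0
    calc Nat.card V * Nat.card ↥W ≤ Nat.card ↥A * Nat.card ↥X * Nat.card ↥W :=
          Nat.mul_le_mul_right _ hoff
      _ = _ := by rw [hUc, hcardX]; ring
  have hXleS : X ≤ S := by
    rw [← eq_of_le_of_card (inf_le_right : S ⊓ X ≤ X) (hcardX ▸ hinj)]
    exact inf_le_left
  have hStop : S = ⊤ := top_le_iff.1 (hUtop ▸ sup_le hXleS ((Submodule.map_mono hXleS).trans (hSi y)))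
  have hQbot : ∀ a ∈ Q, a = 1 := fun a ha => h.inj a (LinearMap.ext fun v =>
    hQS a ha v (hStop ▸ Submodule.mem_top))
  refine ⟨fun a ha ha1 v hv => ?_, hUtop, hcardX, fun a ha v hv hvW hav => ?_, fun g hg => ?_⟩
  · exact h.fix_in hUi le_sup_left hUc ha (fun hc => ha1 (hQbot a hc)) (hUtop ▸ Submodule.mem_top) hv
  · exact Subgroup.mem_bot.1 (hDbot ▸ claim a ha v hv hvW hav)
  · let K : Subgroup P :=
      { carrier := {g | ∀ v, f g v - v ∈ W}
        one_mem' := fun v => by simp
        mul_mem' := fun {g k} hg hk v => by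
          have e : f (g * k) v - v = (f g (f k v) - f k v) + (f k v - v) := by rw [mul_app]; abel
          rw [e]
          exact add_mem (hg _) (hk v)
        inv_mem' := fun {g} hg v => by
          have := hg (f g⁻¹ v)
          rw [app_inv] at this
          simpa using neg_mem this }
    have hKn : K.Normal := ⟨fun k hk c v => by
      have h1 := hk (f c⁻¹ v)
      have h2 := h1 c trivial
      rw [map_sub, app_inv] at h2
      rw [mul_app, mul_app]
      show f c (f k (f c⁻¹ v)) - v ∈ W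
      rw [h2]; exact h1⟩
    have hKp : IsPGroup p K := fun k => ⟨1, by
      refine Subtype.ext (h.inj _ (LinearMap.ext fun v => ?_))
      rw [pow_one, Subgroup.coe_pow, Module.End.one_apply]
      have hit : ∀ n : ℕ, f ((k : P) ^ n) v = v + n • (f (k : P) v - v) := by
        intro n
        induction n with
        | zero => simp
        | succ n ih =>
          rw [pow_succ', mul_app, ih, map_add, map_nsmul, (k.2 v) (k : P) trivial, succ_nsmul]
          abel
      rw [hit, ← Nat.cast_smul_eq_nsmul (ZMod p), ZMod.natCast_self, zero_smul, add_zero]⟩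
    have hKT : K ≤ (T : Subgroup P) := by
      have hTK : IsPGroup p ((T : Subgroup P) ⊔ K : Subgroup P) := T.isPGroup'.to_sup_of_normal_right hKp
      exact (T.is_maximal' hTK le_sup_left) ▸ le_sup_right
    exact hQbot g (Subgroup.normal_le_normalCore.2 hKT (show g ∈ K from hg))

end Setting

end Cfsg.Agent.FFNatural
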