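import Mathlib

/-!
A finite space of matrices which contains `1`, is closed under `(a, b) ↦ a * b * a` and has no
singular member other than `0` is commutative.  Proof: the minimal polynomial of the generic member
has degree at most the dimension; if the degree is smaller, its constant term has a nontrivial zero
by Chevalley–Warning, and if not, the generic member generates everything.
-/

set_option autoImplicit false
set_option linter.style.longLine false

namespace Cfsg.Agent.FFNatural

open MvPolynomial

section joint

variable {p : ℕ} [Fact p.Prime] {σ : Type*} {ι : Type*} [Fintype ι] [DecidableEq ι]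

/-- A polynomial over `k[t]` seen as a polynomial in all the variables. -/
noncomputable def joint :
    Polynomial (MvPolynomial σ (ZMod p)) ≃ₐ[ZMod p] MvPolynomial (Option σ) (ZMod p) :=
  (optionEquivLeft (ZMod p) σ).symm

theorem totalDegree_charpoly_le (x : Matrix ι ι (MvPolynomial σ (ZMod p)))
    (hx : ∀ i j, (joint (Polynomial.C (x i j))).totalDegree ≤ 1) :
    (joint x.charpoly).totalDegree ≤ Fintype.card ι := by
  rw [Matrix.charpoly, Matrix.det_apply, map_sum]
  refine totalDegree_finsetSum_le fun s _ => ?_
  rw [Units.smul_def, map_zsmul]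
  refine (totalDegree_smul_le _ _).trans ?_
  rw [map_prod]
  refine (totalDegree_finsetProd _ _).trans ((Finset.sum_le_sum fun i _ => ?_).trans_eq
    (by simp : ∑ _i : ι, 1 = Fintype.card ι))
  by_cases h : s i = i
  · rw [h, Matrix.charmatrix_apply_eq, map_sub]
    refine (totalDegree_sub _ _).trans (max_le ?_ (hx _ _))
    simp [joint]
  · rw [Matrix.charmatrix_apply_ne _ _ _ h, map_neg, totalDegree_neg]
    exact hx _ _

theorem natDegree_le_totalDegree (h : Polynomial (MvPolynomial σ (ZMod p))) :
    h.natDegree ≤ (joint h).totalDegree := by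
  have e := natDegree_optionEquivLeft (ZMod p) (joint h)
  rw [joint, AlgEquiv.apply_symm_apply] at e
  rw [e]
  exact degreeOf_le_totalDegree _ _

theorem totalDegree_coeff_le (h : Polynomial (MvPolynomial σ (ZMod p))) (i : ℕ) :
    (h.coeff i).totalDegree ≤ (joint h).totalDegree := by
  have e := totalDegree_coeff_optionEquivLeft_le (R := ZMod p) (S₁ := σ) (joint h) i
  rwa [joint, AlgEquiv.apply_symm_apply] at e

end joint

variable {p : ℕ} [Fact p.Prime] {ι : Type*} [Fintype ι] [DecidableEq ι]

/-- The field of rational functions. -/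
local notation "k[" σ "]" => MvPolynomial σ (ZMod p)

theorem jordan_commute_matrix (B : Submodule (ZMod p) (Matrix ι ι (ZMod p)))
    (h1 : (1 : Matrix ι ι (ZMod p)) ∈ B) (htri : ∀ a ∈ B, ∀ b ∈ B, a * b * a ∈ B)
    (hunit : ∀ a ∈ B, a ≠ 0 → IsUnit a) : ∀ a ∈ B, ∀ b ∈ B, Commute a b := by
  classical
  rcases isEmpty_or_nonempty ι with hι | hι
  · intro a _ b _
    exact Matrix.ext fun i => hι.elim i
  set N := Module.finrank (ZMod p) B with hN
  set bas := Module.finBasis (ZMod p) B with hbas
  let e : Fin N → Matrix ι ι (ZMod p) := fun i => (bas i : Matrix ι ι (ZMod p))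
  have he : ∀ i, e i ∈ B := fun i => (bas i).2
  let σ := Fin N
  let x : Matrix ι ι k[σ] := ∑ i, (X i : k[σ]) • (e i).map C
  let K := FractionRing k[σ]
  let emb : Matrix ι ι k[σ] →+* Matrix ι ι K := (algebraMap k[σ] K).mapMatrix
  let eK : Fin N → Matrix ι ι K := fun i => (e i).map ((algebraMap k[σ] K).comp C)
  let BK : Submodule K (Matrix ι ι K) := Submodule.span K (Set.range eK)
  let ψ : Matrix ι ι (ZMod p) →+* Matrix ι ι K := ((algebraMap k[σ] K).comp C).mapMatrix
  have hψB : ∀ b ∈ B, ψ b ∈ BK := by
    intro b hb
    have := congrArg (fun z : B => ψ (z : Matrix ι ι (ZMod p))) (bas.sum_repr ⟨b, hb⟩)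
    simp only [Submodule.coe_sum, Submodule.coe_smul, map_sum] at this
    rw [← this]
    refine Submodule.sum_mem _ fun i _ => ?_
    have hs : ∀ c : ZMod p, ψ (c • e i) = ((algebraMap k[σ] K) (C c)) • eK i := by
      intro c; ext a b; simp [ψ, eK, Matrix.smul_apply]
    rw [hs]
    exact Submodule.smul_mem _ _ (Submodule.subset_span ⟨i, rfl⟩)
  -- the linearization of `a * b * a`
  have hlin : ∀ a ∈ B, ∀ c ∈ B, ∀ b ∈ B, a * b * c + c * b * a ∈ B := by
    intro a ha c hc b hb
    have := sub_mem (sub_mem (htri (a + c) (add_mem ha hc) b hb) (htri a ha b hb)) (htri c hc b hb)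
    convert this using 1
    simp only [add_mul, mul_add]; abel
  have hBKlin : ∀ u ∈ BK, ∀ w ∈ BK, ∀ v ∈ BK, u * v * w + w * v * u ∈ BK := by
    intro u hu w hw v hv
    induction hu using Submodule.span_induction with
    | mem u hu =>
      obtain ⟨i, rfl⟩ := hu
      induction hw using Submodule.span_induction with
      | mem w hw =>
        obtain ⟨j, rfl⟩ := hw
        induction hv using Submodule.span_induction with
        | mem v hv =>
          obtain ⟨l, rfl⟩ := hv
          have := hψB _ (hlin _ (he i) _ (he j) _ (he l))
          simp only [map_add, map_mul] at this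
          exact this
        | zero => simp
        | add v v' _ _ ih ih' =>
          convert add_mem ih ih' using 1; simp only [add_mul, mul_add]; abel
        | smul c v _ ih =>
          convert Submodule.smul_mem _ c ih using 1; simp [smul_add, mul_assoc]
      | zero => simp
      | add w w' _ _ ih ih' =>
        convert add_mem ih ih' using 1; simp only [add_mul, mul_add]; abel
      | smul c w _ ih =>
        convert Submodule.smul_mem _ c ih using 1; simp [smul_add, mul_assoc]
    | zero => simp
    | add u u' _ _ ih ih' =>
      convert add_mem ih ih' using 1; simp only [add_mul, mul_add]; abel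
    | smul c u _ ih =>
      convert Submodule.smul_mem _ c ih using 1; simp [smul_add, mul_assoc]
  have hsq : ∀ i j, ψ (e i) * ψ (e j) * ψ (e i) ∈ BK := fun i j => by
    rw [← map_mul, ← map_mul]; exact hψB _ (htri _ (he i) _ (he j))
  let xK : Matrix ι ι K := emb x
  let t : Fin N → K := fun i => algebraMap k[σ] K (X i)
  have hxK : xK = ∑ i, t i • eK i := by
    simp only [xK, x, map_sum]
    refine Finset.sum_congr rfl fun i _ => ?_
    ext a b
    simp [emb, eK, t, Matrix.smul_apply]
  have hquad : ∀ (S : Finset (Fin N)), ∀ v ∈ BK,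
      (∑ i ∈ S, t i • eK i) * v * (∑ i ∈ S, t i • eK i) ∈ BK := by
    intro S
    induction S using Finset.induction_on with
    | empty => simp
    | @insert i S hi ih =>
      intro v hv
      rw [Finset.sum_insert hi]
      set w := ∑ i ∈ S, t i • eK i with hw
      have hwm : w ∈ BK := Submodule.sum_mem _ fun j _ => Submodule.smul_mem _ _ (Submodule.subset_span ⟨j, rfl⟩)
      have hu : t i • eK i ∈ BK := Submodule.smul_mem _ _ (Submodule.subset_span ⟨i, rfl⟩)
      have hi' : eK i * v * eK i ∈ BK := by
        induction hv using Submodule.span_induction with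
        | mem v hv => obtain ⟨j, rfl⟩ := hv; exact hsq i j
        | zero => simp
        | add v v' _ _ ih ih' => rw [mul_add, add_mul]; exact add_mem ih ih'
        | smul c v _ ih => rw [mul_smul_comm, smul_mul_assoc]; exact Submodule.smul_mem _ _ ih
      have h2 : (t i • eK i) * v * (t i • eK i) ∈ BK := by
        rw [smul_mul_assoc, smul_mul_assoc, mul_smul_comm]
        exact Submodule.smul_mem _ _ (Submodule.smul_mem _ _ hi')
      convert add_mem (add_mem h2 (ih v hv)) (hBKlin _ hu _ hwm v hv) using 1
      simp only [add_mul, mul_add]; abel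
  have hpow : ∀ n : ℕ, xK ^ n ∈ BK := by
    intro n
    induction n using Nat.twoStepInduction with
    | zero => simpa using hψB 1 h1
    | one =>
      rw [pow_one, hxK]
      exact Submodule.sum_mem _ fun j _ => Submodule.smul_mem _ _ (Submodule.subset_span ⟨j, rfl⟩)
    | more n ih _ =>
      rw [pow_succ, pow_succ', hxK]
      rw [hxK] at ih
      exact hquad Finset.univ _ ih
  set f := minpoly K xK with hf
  have hint : IsIntegral K xK := Algebra.IsIntegral.isIntegral xK
  have hfm : f.Monic := minpoly.monic hint
  set n := f.natDegree with hn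
  let pw : Fin n → BK := fun i => ⟨xK ^ (i : ℕ), hpow i⟩
  have hind : LinearIndependent K pw := by
    refine LinearIndependent.of_comp BK.subtype ?_
    exact linearIndependent_pow xK
  have hBKdim : Module.finrank K BK ≤ N := (finrank_range_le_card eK).trans_eq (Fintype.card_fin N)
  have hnN : n ≤ N := by
    have := hind.fintype_card_le_finrank
    rw [Fintype.card_fin] at this
    exact this.trans hBKdim
  rcases lt_or_eq_of_le hnN with hlt | heq
  · exfalso
    obtain ⟨g, hg⟩ := IsIntegrallyClosed.eq_map_mul_C_of_dvd K (Matrix.charpoly_monic x) (g := f) (by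
      rw [← Matrix.charpoly_map]
      exact minpoly.dvd K xK (Matrix.aeval_self_charpoly xK))
    rw [hfm.leadingCoeff, map_one, mul_one] at hg
    have hinj : Function.Injective (algebraMap k[σ] K) := IsFractionRing.injective _ _
    have hgm : g.Monic := Polynomial.monic_of_injective hinj (by rw [hg]; exact hfm)
    have hgn : g.natDegree = n := by rw [hn, ← hg, Polynomial.natDegree_map_eq_of_injective hinj]
    obtain ⟨h, hh⟩ : g ∣ x.charpoly := (Polynomial.map_dvd_map _ hinj hgm).1 (by
      rw [hg, ← Matrix.charpoly_map]
      exact minpoly.dvd K xK (Matrix.aeval_self_charpoly xK))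
    have hh0 : h ≠ 0 := fun e => (Matrix.charpoly_monic x).ne_zero (by rw [hh, e, mul_zero])
    have hdeg : g.natDegree + h.natDegree = Fintype.card ι := by
      rw [← Polynomial.natDegree_mul hgm.ne_zero hh0, ← hh, Matrix.charpoly_natDegree_eq_dim]
    have htd : (joint x.charpoly).totalDegree ≤ Fintype.card ι := by
      refine totalDegree_charpoly_le x fun i j => ?_
      have hxij : x i j = ∑ l, X l * C (e l i j) := by
        simp [x, Matrix.sum_apply, Matrix.smul_apply]
        rfl
      rw [hxij, map_sum, map_sum]
      refine totalDegree_finsetSum_le fun l _ => ?_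
      rw [map_mul, map_mul]
      refine (totalDegree_mul _ _).trans ?_
      simp [joint]
    rw [hh, map_mul, totalDegree_mul_of_isDomain (by simpa using hgm.ne_zero) (by simpa using hh0)] at htd
    have hc : (g.coeff 0).totalDegree < N := by
      have h1 := natDegree_le_totalDegree h
      have h2 := totalDegree_coeff_le g 0
      omega
    have hcharev : ∀ s : Fin N → ZMod p, g.map (eval s) ∣ (∑ i, s i • e i).charpoly := by
      intro s
      have hxs : (eval s).mapMatrix x = ∑ i, s i • e i := by
        ext a b
        simp [x, Matrix.sum_apply, Matrix.smul_apply]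
        rfl
      rw [← hxs, RingHom.mapMatrix_apply, Matrix.charpoly_map, hh, Polynomial.map_mul]
      exact dvd_mul_right _ _
    have hzero : ∀ s : Fin N → ZMod p, eval s (g.coeff 0) = 0 → s = 0 := by
      intro s hs
      obtain ⟨r, hr⟩ := hcharev s
      have hdet : (∑ i, s i • e i).det = 0 := by
        rw [Matrix.det_eq_sign_charpoly_coeff, hr, Polynomial.mul_coeff_zero, Polynomial.coeff_map, hs,
          zero_mul, mul_zero]
      have hm : (∑ i, s i • e i) = 0 := by
        by_contra hne
        have := (Matrix.isUnit_iff_isUnit_det _).1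
          (hunit _ (Submodule.sum_mem _ fun i _ => B.smul_mem _ (he i)) hne)
        rw [hdet] at this
        exact not_isUnit_zero this
      have hb : ∑ i, s i • bas i = 0 := Subtype.ext (by simpa [Submodule.coe_sum] using hm)
      funext i
      exact Fintype.linearIndependent_iff.1 bas.linearIndependent s hb i
    have hc0 : eval (0 : Fin N → ZMod p) (g.coeff 0) = 0 := by
      have hnpos : 0 < n := minpoly.natDegree_pos (by
        exact Algebra.IsIntegral.isIntegral (R := K) xK)
      have h0 : g.map (eval 0) ∣ (Polynomial.X : Polynomial (ZMod p)) ^ Fintype.card ι := by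
        have := hcharev 0
        simpa [Matrix.charpoly_zero] using this
      obtain ⟨i, -, hi⟩ := (dvd_prime_pow Polynomial.prime_X _).1 h0
      have hmon : (g.map (eval (0 : Fin N → ZMod p))).Monic := hgm.map _
      have hgi := Polynomial.eq_of_monic_of_associated hmon (Polynomial.monic_X_pow i) hi
      have hin : i = n := by
        rw [← hgn, ← hgm.natDegree_map (eval (0 : Fin N → ZMod p)), hgi, Polynomial.natDegree_X_pow]
      have := congrArg (fun q => Polynomial.coeff q 0) hgi
      simpa [hin, Polynomial.coeff_X_pow, hnpos.ne] using this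
    have hdvd := char_dvd_card_solutions p (K := ZMod p) (f := g.coeff 0) (by rw [Fintype.card_fin]; exact hc)
    have hcard : Fintype.card {s : Fin N → ZMod p // eval s (g.coeff 0) = 0} = 1 :=
      Fintype.card_eq_one_iff.2 ⟨⟨0, hc0⟩, fun s => Subtype.ext (hzero s s.2)⟩
    rw [hcard, Nat.dvd_one] at hdvd
    exact (Fact.out : p.Prime).ne_one hdvd
  · -- everything is a polynomial in the generic member
    have hspan : Submodule.span K (Set.range fun i : Fin n => xK ^ (i : ℕ)) = BK := by
      refine Submodule.eq_of_le_of_finrank_le (Submodule.span_le.2 ?_) ?_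
      · rintro _ ⟨i, rfl⟩; exact hpow i
      · rw [finrank_span_eq_card (linearIndependent_pow xK), Fintype.card_fin, ← hn, heq]
        exact hBKdim
    have hcx : ∀ v ∈ BK, Commute v xK := by
      intro v hv
      rw [← hspan] at hv
      induction hv using Submodule.span_induction with
      | mem v hv => obtain ⟨i, rfl⟩ := hv; exact (Commute.refl xK).pow_left i
      | zero => exact Commute.zero_left _
      | add v v' _ _ ih ih' => exact ih.add_left ih'
      | smul c v _ ih => exact ih.smul_left c
    intro a ha b hb
    have hb' := hψB b hb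
    have hcomm : Commute (ψ a) (ψ b) := by
      rw [← hspan] at hb'
      generalize ψ b = w at hb' ⊢
      induction hb' using Submodule.span_induction with
      | mem v hv => obtain ⟨i, rfl⟩ := hv; exact (hcx _ (hψB a ha)).pow_right i
      | zero => exact Commute.zero_right _
      | add v v' _ _ ih ih' => exact ih.add_right ih'
      | smul c v _ ih => exact ih.smul_right c
    refine Matrix.map_injective (f := (algebraMap k[σ] K).comp C) ?_ ?_
    · exact (IsFractionRing.injective k[σ] K).comp (C_injective _ _)
    · exact ((map_mul ψ a b).trans hcomm.eq).trans (map_mul ψ b a).symm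

/-- The same for endomorphisms. -/
theorem jordan_commute {Y : Type*} [AddCommGroup Y] [Module (ZMod p) Y] [Finite Y]
    (B : Submodule (ZMod p) (Module.End (ZMod p) Y))
    (h1 : (1 : Module.End (ZMod p) Y) ∈ B) (htri : ∀ a ∈ B, ∀ b ∈ B, a * b * a ∈ B)
    (hunit : ∀ a ∈ B, a ≠ 0 → IsUnit a) : ∀ a ∈ B, ∀ b ∈ B, Commute a b := by
  classical
  have : Module.Finite (ZMod p) Y := Module.Finite.of_finite
  let φ := algEquivMatrix (Module.finBasis (ZMod p) Y)
  have key := jordan_commute_matrix (B.map φ.toLinearMap) ⟨1, h1, map_one φ⟩ (by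
    rintro _ ⟨a, ha, rfl⟩ _ ⟨b, hb, rfl⟩
    exact ⟨a * b * a, htri a ha b hb, by simp [map_mul]⟩) (by
    rintro _ ⟨a, ha, rfl⟩ hne
    exact (hunit a ha fun e => hne (by simp [e])).map φ)
  intro a ha b hb
  refine φ.injective ?_
  rw [map_mul, map_mul]
  exact key _ ⟨a, ha, rfl⟩ _ ⟨b, hb, rfl⟩

end Cfsg.Agent.FFNatural
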