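import Mathlib
import Cfsg.Agent.Lib.PLocal.Natural.Jordan
import Cfsg.Agent.Lib.Forms.DicksonField

/-!
Two groups of the size of the spaces they fix, with images forming a partition: the space is the
natural module of `SL₂` over a finite field and the generated group is `SL₂`.
-/

set_option autoImplicit false
set_option linter.style.longLine false

namespace Cfsg.Agent.FFNatural

section Hua

variable {R : Type*} [Ring R] [Nontrivial R]

/-- Hua's identity: two additive groups exchanged by inversion are closed under `a b a`, as soon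
as `1` lies in the first. -/
theorem hua (L L' : AddSubgroup R) (h1 : (1 : R) ∈ L)
    (hL : ∀ a ∈ L, a ≠ 0 → IsUnit a ∧ Ring.inverse a ∈ L')
    (hL' : ∀ a ∈ L', a ≠ 0 → IsUnit a ∧ Ring.inverse a ∈ L) :
    L = L' ∧ ∀ a ∈ L, ∀ b ∈ L, a * b * a ∈ L := by
  have key : ∀ a ∈ L, ∀ b ∈ L', a * b * a ∈ L := by
    intro a ha b hb
    rcases eq_or_ne a 0 with rfl | ha0
    · simp
    rcases eq_or_ne b 0 with rfl | hb0
    · simp
    obtain ⟨⟨u, rfl⟩, hu⟩ := hL a ha ha0
    obtain ⟨⟨v, rfl⟩, hv⟩ := hL' b hb hb0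
    rw [Ring.inverse_unit] at hu hv
    rcases eq_or_ne ((↑v⁻¹ : R)) (u : R) with e | hne
    · have : (u : R) * v * u = u := by rw [← e, Units.inv_mul, one_mul]
      rwa [this]
    have hc0 : (↑v⁻¹ : R) - u ≠ 0 := sub_ne_zero.2 hne
    obtain ⟨⟨w, hw⟩, hwi⟩ := hL _ (sub_mem hv ha) hc0
    rw [← hw, Ring.inverse_unit] at hwi
    -- `a⁻¹ + (b⁻¹ - a)⁻¹ = a⁻¹ b⁻¹ (b⁻¹ - a)⁻¹`
    have hd : (↑u⁻¹ : R) + ↑w⁻¹ = ((u⁻¹ * v⁻¹ * w⁻¹ : Rˣ) : R) := by
      have e1 : (↑v⁻¹ : R) = (w : R) + u := by rw [hw, sub_add_cancel]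
      rw [Units.val_mul, Units.val_mul, e1, mul_add, add_mul, Units.inv_mul, one_mul, mul_assoc,
        Units.mul_inv, mul_one]
    have hd0 : ((u⁻¹ * v⁻¹ * w⁻¹ : Rˣ) : R) ≠ 0 := Units.ne_zero _
    obtain ⟨-, hdi⟩ := hL' _ (hd ▸ add_mem hu hwi) hd0
    rw [Ring.inverse_unit] at hdi
    have := sub_mem ha hdi
    convert this using 1
    rw [mul_inv_rev, mul_inv_rev, inv_inv, inv_inv, inv_inv, Units.val_mul, Units.val_mul, hw, sub_mul,
      ← mul_assoc, Units.inv_mul, one_mul, sub_sub_cancel, ← mul_assoc]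
  have hle : L' ≤ L := fun b hb => by simpa using key 1 h1 b hb
  have h1' : (1 : R) ∈ L' := by simpa using (hL 1 h1 one_ne_zero).2
  have key' : L ≤ L' := by
    intro a ha
    rcases eq_or_ne a 0 with rfl | ha0
    · exact zero_mem _
    obtain ⟨⟨u, rfl⟩, hu⟩ := hL a ha ha0
    rw [Ring.inverse_unit] at hu
    have := (hL _ (hle hu) (Units.ne_zero _)).2
    rwa [Ring.inverse_unit, inv_inv] at this
  have heq : L = L' := le_antisymm key' hle
  exact ⟨heq, fun a ha b hb => key a ha b (key' hb)⟩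

end Hua

variable {p : ℕ} [Fact p.Prime] {P U : Type*} [Group P] [AddCommGroup U] [Module (ZMod p) U] [Finite U]

/-- The hypotheses on the plane. -/
structure Plane (f : Representation (ZMod p) P U) (A A' : Subgroup P) (X Y : Submodule (ZMod p) U) : Prop where
  inj : ∀ g, f g = 1 → g = 1
  gen : A ⊔ A' = ⊤
  compl : IsCompl X Y
  fix : ∀ a ∈ A, ∀ x ∈ X, f a x = x
  fix' : ∀ b ∈ A', ∀ y ∈ Y, f b y = y
  move : ∀ a ∈ A, ∀ u, f a u - u ∈ X
  move' : ∀ b ∈ A', ∀ u, f b u - u ∈ Y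
  reg : ∀ a ∈ A, a ≠ 1 → ∀ u ∈ Y, f a u = u → u = 0
  two : 1 < Nat.card ↥A
  cardX : Nat.card ↥X = Nat.card ↥A
  cardY : Nat.card ↥Y = Nat.card ↥A
  card' : Nat.card ↥A' = Nat.card ↥A
  partition : ∀ a ∈ A, a ≠ 1 → ∃ b ∈ A', X.map (f b) = Y.map (f a)

/-- A finite field on a carrier in `Type`. -/
def FCar (n : ℕ) : Type := Fin n

theorem exists_small_field {R : Type*} [Ring R] (S : Subring R) [Finite S] (hS : IsField S) :
    ∃ (F : Type) (_ : Field F) (_ : Fintype F) (ε : F →+* R),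
      Function.Injective ε ∧ ∀ x, x ∈ S ↔ ∃ c, ε c = x := by
  let e₀ : FCar (Nat.card S) ≃ S := (Finite.equivFin S).symm
  let FS : Field S := hS.toField
  let F := @Equiv.field _ _ e₀ FS
  refine ⟨FCar (Nat.card S), F, Fintype.ofEquiv (Fin (Nat.card S)) (Equiv.refl _),
    { toFun := fun c => (e₀ c : R)
      map_one' := ?_
      map_mul' := ?_
      map_zero' := ?_
      map_add' := ?_ }, fun c d hcd => e₀.injective (Subtype.ext hcd), fun x => ⟨fun hx => ⟨e₀.symm ⟨x, hx⟩, ?_⟩, ?_⟩⟩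
  · show (e₀ (e₀.symm 1) : R) = 1
    rw [e₀.apply_symm_apply]; rfl
  · intro c d
    show (e₀ (e₀.symm (e₀ c * e₀ d)) : R) = _
    rw [e₀.apply_symm_apply]; rfl
  · show (e₀ (e₀.symm 0) : R) = 0
    rw [e₀.apply_symm_apply]; rfl
  · intro c d
    show (e₀ (e₀.symm (e₀ c + e₀ d)) : R) = _
    rw [e₀.apply_symm_apply]; rfl
  · show (e₀ (e₀.symm ⟨x, hx⟩) : R) = x
    rw [e₀.apply_symm_apply]
  · rintro ⟨c, rfl⟩
    exact (e₀ c).2

theorem plane_natural [Finite P] {f : Representation (ZMod p) P U} {A A' : Subgroup P}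
    {X Y : Submodule (ZMod p) U} (h : Plane f A A' X Y) :
    ∃ (F : Type) (_ : Field F) (_ : Fintype F), Fintype.card F = Nat.card ↥A ∧
      ∃ (χ : (Fin 2 → F) ≃+ U) (ρ : P ≃* Matrix.SpecialLinearGroup (Fin 2) F),
        (∀ g v, f g (χ v) = χ (((ρ g : Matrix.SpecialLinearGroup (Fin 2) F) : Matrix (Fin 2) (Fin 2) F).mulVec v)) ∧
        (∀ a ∈ A, ∃ c, ρ a = Classical.GL2.uniSL c) ∧ ∀ v, χ v ∈ X ↔ v 1 = 0 := by
  classical
  -- the two maps to endomorphisms of `Y`
  let t : A → (↥Y →ₗ[ZMod p] ↥X) := fun a =>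
    { toFun := fun u => ⟨f a u - u, h.move a a.2 u⟩
      map_add' := fun u v => Subtype.ext (by simp; abel)
      map_smul' := fun c u => Subtype.ext (by simp [smul_sub]) }
  let s : A' → (↥X →ₗ[ZMod p] ↥Y) := fun b =>
    { toFun := fun u => ⟨f b u - u, h.move' b b.2 u⟩
      map_add' := fun u v => Subtype.ext (by simp; abel)
      map_smul' := fun c u => Subtype.ext (by simp [smul_sub]) }
  have htinj : ∀ a : A, a ≠ 1 → Function.Injective (t a) := fun a ha => by
    rw [← LinearMap.ker_eq_bot, Submodule.eq_bot_iff]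
    intro u hu
    exact Subtype.ext (h.reg a a.2 (fun e => ha (Subtype.ext e)) u u.2
      (sub_eq_zero.1 (congrArg Subtype.val (LinearMap.mem_ker.1 hu))))
  obtain ⟨a₀, ha₀⟩ : ∃ a₀ : A, a₀ ≠ 1 := by
    haveI : Nontrivial A := Finite.one_lt_card_iff_nontrivial.1 h.two
    exact exists_ne 1
  have htb : Function.Bijective (t a₀) :=
    (Nat.bijective_iff_injective_and_card _).2 ⟨htinj a₀ ha₀, h.cardY.trans h.cardX.symm⟩
  let T0 : ↥Y ≃ₗ[ZMod p] ↥X := LinearEquiv.ofBijective (t a₀) htb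
  have htmul : ∀ a b : A, t (a * b) = t a + t b := by
    intro a b
    refine LinearMap.ext fun u => Subtype.ext ?_
    show f (a * b : P) (u : U) - u = (f a u - u) + (f b u - u)
    rw [map_mul, Module.End.mul_apply]
    have := h.fix a a.2 _ (h.move b b.2 u)
    rw [map_sub, sub_eq_iff_eq_add] at this
    rw [this]; abel
  let Lh : Additive A →+ Module.End (ZMod p) ↥Y := AddMonoidHom.mk'
    (fun a => T0.symm.toLinearMap.comp (t a.toMul)) fun a b => by
      rw [toMul_add, htmul, LinearMap.comp_add]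
  let Lh' : Additive A' →+ Module.End (ZMod p) ↥Y := AddMonoidHom.mk'
    (fun b => (s b.toMul).comp T0.toLinearMap) fun a b => by
      refine LinearMap.ext fun u => Subtype.ext ?_
      show f (a.toMul * b.toMul : P) (T0 u : U) - (T0 u : U)
        = (f (a.toMul : P) (T0 u : U) - (T0 u : U)) + (f (b.toMul : P) (T0 u : U) - (T0 u : U))
      rw [map_mul, Module.End.mul_apply]
      have := h.fix' a.toMul a.toMul.2 _ (h.move' b.toMul b.toMul.2 (T0 u))
      rw [map_sub, sub_eq_iff_eq_add] at this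
      rw [this]; abel
  haveI : Nontrivial ↥Y := Finite.one_lt_card_iff_nontrivial.1 (h.cardY ▸ h.two)
  have h1L : (1 : Module.End (ZMod p) ↥Y) ∈ Lh.range := ⟨Additive.ofMul a₀, LinearMap.ext fun u => by
    show T0.symm (T0 u) = u
    exact T0.symm_apply_apply u⟩
  have hLinj : Function.Injective Lh := by
    rw [injective_iff_map_eq_zero]
    intro a ha
    by_contra hne
    have hne' : a.toMul ≠ 1 := fun e => hne (toMul_eq_one.1 e)
    obtain ⟨u, hu⟩ := exists_ne (0 : ↥Y)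
    refine hu (htinj _ hne' ?_)
    rw [map_zero]
    exact T0.symm.injective (by rw [map_zero]; exact LinearMap.congr_fun ha u)
  have hinvpair : ∀ a : A, a ≠ 1 → ∃ b : A', Lh' (Additive.ofMul b) * Lh (Additive.ofMul a) = 1 ∧
      IsUnit (Lh (Additive.ofMul a)) := by
    intro a ha
    have hu : IsUnit (Lh (Additive.ofMul a)) := (Module.End.isUnit_iff _).2
      (Finite.injective_iff_bijective.1 (T0.symm.injective.comp (htinj a ha)))
    obtain ⟨b, hb, hmap⟩ := h.partition a a.2 (fun e => ha (Subtype.ext e))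
    refine ⟨⟨b, hb⟩, LinearMap.ext fun v => ?_, hu⟩
    obtain ⟨x, hx, hxe⟩ : f a (v : U) ∈ X.map (f b) := hmap ▸ Submodule.mem_map_of_mem v.2
    have h1 : (t a v : U) + v = x + (s ⟨b, hb⟩ ⟨x, hx⟩ : U) := by
      show (f a (v : U) - v) + v = x + (f b x - x)
      rw [sub_add_cancel, add_sub_cancel, hxe]
    have h2 : (t a v : U) - x = (s ⟨b, hb⟩ ⟨x, hx⟩ : U) - v := by
      rw [sub_eq_sub_iff_add_eq_add, h1]; abel
    have h3 : (t a v : U) - x = 0 := Submodule.disjoint_def.1 h.compl.disjoint _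
      (sub_mem (t a v).2 hx) (h2 ▸ sub_mem (s ⟨b, hb⟩ ⟨x, hx⟩).2 v.2)
    have h4 : t a v = ⟨x, hx⟩ := Subtype.ext (sub_eq_zero.1 h3)
    show s ⟨b, hb⟩ (T0 (T0.symm (t a v))) = v
    rw [T0.apply_symm_apply, h4]
    exact Subtype.ext (sub_eq_zero.1 (h2 ▸ h3))
  have hinvL : ∀ l ∈ Lh.range, l ≠ 0 → IsUnit l ∧ Ring.inverse l ∈ Lh'.range := by
    rintro _ ⟨a, rfl⟩ hne
    have hne' : a.toMul ≠ 1 := fun e => hne (by rw [toMul_eq_one.1 e, map_zero])
    obtain ⟨b, hb, hu⟩ := hinvpair a.toMul hne'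
    refine ⟨hu, Additive.ofMul b, ?_⟩
    obtain ⟨w, hw⟩ := hu
    rw [show Lh a = Lh (Additive.ofMul a.toMul) from rfl, ← hw, Ring.inverse_unit]
    rw [← hw] at hb
    exact (Units.inv_eq_of_mul_eq_one_left hb).symm
  have hqA : Nat.card ↥Lh.range = Nat.card ↥A :=
    (Nat.card_congr (AddMonoidHom.ofInjective hLinj).toEquiv).symm.trans (Nat.card_congr Additive.toMul)
  have hinvL' : ∀ l ∈ Lh'.range, l ≠ 0 → IsUnit l ∧ Ring.inverse l ∈ Lh.range := by
    let ι : ↥Lh.range → ↥Lh'.range := fun l => ⟨Ring.inverse l.1, by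
      by_cases e : l.1 = 0
      · rw [e, Ring.inverse_zero]; exact zero_mem _
      · exact (hinvL _ l.2 e).2⟩
    haveI : Finite ↥Lh'.range := Finite.of_surjective
      (fun b : Additive A' => (⟨Lh' b, b, rfl⟩ : ↥Lh'.range)) fun ⟨_, b, hb⟩ => ⟨b, Subtype.ext hb⟩
    have hι : Function.Injective ι := by
      intro l m e
      have e' : Ring.inverse l.1 = Ring.inverse m.1 := congrArg Subtype.val e
      refine Subtype.ext ?_
      by_cases hl : l.1 = 0 <;> by_cases hm : m.1 = 0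
      · rw [hl, hm]
      · obtain ⟨w, hw⟩ := (hinvL _ m.2 hm).1
        rw [hl, Ring.inverse_zero, ← hw, Ring.inverse_unit] at e'
        exact absurd e'.symm (Units.ne_zero _)
      · obtain ⟨w, hw⟩ := (hinvL _ l.2 hl).1
        rw [hm, Ring.inverse_zero, ← hw, Ring.inverse_unit] at e'
        exact absurd e' (Units.ne_zero _)
      · obtain ⟨w, hw⟩ := (hinvL _ l.2 hl).1
        obtain ⟨w', hw'⟩ := (hinvL _ m.2 hm).1
        rw [← hw, ← hw', Ring.inverse_unit, Ring.inverse_unit, Units.val_inj, inv_inj] at e'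
        rw [← hw, ← hw', e']
    have hle : Nat.card ↥Lh'.range ≤ Nat.card ↥Lh.range := by
      rw [hqA, ← h.card']
      exact (Nat.card_le_card_of_surjective (fun b : Additive A' => (⟨Lh' b, b, rfl⟩ : ↥Lh'.range))
        (fun ⟨_, b, hb⟩ => ⟨b, Subtype.ext hb⟩)).trans_eq (Nat.card_congr Additive.toMul)
    have hsurj : Function.Surjective ι :=
      ((Nat.bijective_iff_injective_and_card ι).2 ⟨hι, le_antisymm (Nat.card_le_card_of_injective ι hι) hle⟩).2
    intro l hl hne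
    obtain ⟨⟨m, hm⟩, e⟩ := hsurj ⟨l, hl⟩
    have e' : Ring.inverse m = l := congrArg Subtype.val e
    have hm0 : m ≠ 0 := fun hz => hne (by rw [← e', hz, Ring.inverse_zero])
    obtain ⟨w, hw⟩ := (hinvL m hm hm0).1
    rw [← hw, Ring.inverse_unit] at e'
    refine ⟨⟨w⁻¹, e'⟩, ?_⟩
    rw [← e', Ring.inverse_unit, inv_inv, hw]
    exact hm
  have : Finite ↥Lh.range := Finite.of_equiv _ (AddMonoidHom.ofInjective hLinj).toEquiv
  obtain ⟨hLL, htri⟩ := hua Lh.range Lh'.range h1L hinvL hinvL'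
  have hcomm : ∀ a ∈ Lh.range, ∀ b ∈ Lh.range, Commute a b :=
    jordan_commute (AddSubgroup.toZModSubmodule p Lh.range) h1L htri fun a ha hne => (hinvL a ha hne).1
  have hsq : ∀ a ∈ Lh.range, ∀ b ∈ Lh.range, a * a * b ∈ Lh.range := fun a ha b hb => by
    rw [mul_assoc, (hcomm a ha b hb).eq, ← mul_assoc]
    exact htri a ha b hb
  have hmulL : ∀ a ∈ Lh.range, ∀ b ∈ Lh.range, a * b ∈ Lh.range := by
    by_cases hp : p = 2
    · intro a ha b hb
      -- squaring is bijective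
      let sq : ↥Lh.range → ↥Lh.range := fun c => ⟨c.1 * c.1, by simpa using hsq c.1 c.2 1 h1L⟩
      have hsqi : Function.Injective sq := by
        intro c d e
        have e' : c.1 * c.1 = d.1 * d.1 := congrArg Subtype.val e
        by_contra hne
        have hd : c.1 - d.1 ≠ 0 := sub_ne_zero.2 fun e => hne (Subtype.ext e)
        have hu := (hinvL _ (sub_mem c.2 d.2) hd).1
        have h2 : ∀ z : Module.End (ZMod p) ↥Y, z + z = 0 := fun z => by
          rw [← two_nsmul, ← Nat.cast_smul_eq_nsmul (ZMod p)]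
          subst hp
          rw [ZMod.natCast_self, zero_smul]
        have : (c.1 - d.1) * (c.1 - d.1) = 0 := by
          have e2 : (c.1 - d.1) * (c.1 - d.1) = c.1 * c.1 + d.1 * d.1 - (c.1 * d.1 + d.1 * c.1) := by
            simp only [sub_mul, mul_sub]; abel
          rw [e2, (hcomm _ c.2 _ d.2).eq, e', h2, h2, sub_zero]
        exact hd (hu.mul_right_eq_zero.1 this)
      obtain ⟨c, hc⟩ := (Finite.injective_iff_surjective.1 hsqi) ⟨a, ha⟩
      rw [← show c.1 * c.1 = a from congrArg Subtype.val hc]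
      exact hsq _ c.2 _ hb
    · intro a ha b hb
      have h2 := sub_mem (sub_mem (hsq _ (add_mem ha h1L) _ hb) (hsq a ha b hb)) hb
      have e : (a + 1) * (a + 1) * b - a * a * b - b = (2 : ZMod p) • (a * b) := by
        rw [show (2 : ZMod p) = ((2 : ℕ) : ZMod p) by norm_num, Nat.cast_smul_eq_nsmul, two_nsmul]
        simp only [add_mul, mul_add, one_mul, mul_one]; abel
      rw [e] at h2
      have h20 : (2 : ZMod p) ≠ 0 := fun e0 => hp (by
        have := (ZMod.natCast_eq_zero_iff 2 p).1 (by exact_mod_cast e0)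
        exact (Nat.prime_dvd_prime_iff_eq Fact.out Nat.prime_two).1 this)
      have := (AddSubgroup.toZModSubmodule p Lh.range).smul_mem (2 : ZMod p)⁻¹ h2
      rwa [inv_smul_smul₀ h20] at this
  let S : Subring (Module.End (ZMod p) ↥Y) :=
    { Lh.range with
      one_mem' := h1L
      mul_mem' := fun {a b} ha hb => hmulL a ha b hb }
  have hSfield : IsField S :=
    { exists_pair_ne := ⟨0, 1, fun e => zero_ne_one (α := Module.End (ZMod p) ↥Y) (congrArg Subtype.val e)⟩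
      mul_comm := fun a b => Subtype.ext (hcomm a.1 a.2 b.1 b.2)
      mul_inv_cancel := fun {a} ha => by
        have ha' : (a : Module.End (ZMod p) ↥Y) ≠ 0 := fun e => ha (Subtype.ext e)
        obtain ⟨hu, hi⟩ := hinvL a.1 a.2 ha'
        rw [← hLL] at hi
        exact ⟨⟨_, hi⟩, Subtype.ext (Ring.mul_inverse_cancel _ hu)⟩ }
  have : Finite S := Finite.of_injective (fun x : S => (⟨x.1, x.2⟩ : ↥Lh.range))
    fun a b e => Subtype.ext (congrArg (fun z : ↥Lh.range => z.1) e)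
  obtain ⟨F, iF, iFt, ε, hεi, hεS⟩ := exists_small_field S hSfield
  have hεS' : ∀ x, x ∈ Lh.range ↔ ∃ c, ε c = x := hεS
  have hcardF : Fintype.card F = Nat.card ↥A := by
    rw [← hqA, ← Nat.card_eq_fintype_card]
    exact Nat.card_eq_of_bijective (fun c => (⟨ε c, (hεS' _).2 ⟨c, rfl⟩⟩ : ↥Lh.range))
      ⟨fun a b e => hεi (congrArg Subtype.val e), fun ⟨x, hx⟩ => by
        obtain ⟨c, hc⟩ := (hεS' x).1 hx
        exact ⟨c, Subtype.ext hc⟩⟩
  obtain ⟨u₀, hu₀⟩ := exists_ne (0 : ↥Y)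
  let φ : F →+ ↥Y := AddMonoidHom.mk' (fun c => ε c u₀) fun c d => by
    rw [map_add]; rfl
  have hφmul : ∀ c d, ε c (φ d) = φ (c * d) := fun c d => by
    show ε c (ε d u₀) = ε (c * d) u₀
    rw [map_mul]; rfl
  have hφi : Function.Injective φ := by
    rw [injective_iff_map_eq_zero]
    intro c hc
    by_contra hne
    refine hu₀ ?_
    have h1 : ε c⁻¹ (φ c) = φ 1 := by rw [hφmul, inv_mul_cancel₀ hne]
    rw [hc, map_zero] at h1
    show u₀ = 0
    rw [h1]
    show u₀ = ε 1 u₀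
    rw [map_one]; rfl
  have hφb : Function.Bijective φ := (Nat.bijective_iff_injective_and_card _).2
    ⟨hφi, by rw [Nat.card_eq_fintype_card, hcardF, h.cardY]⟩
  let χ0 : (Fin 2 → F) →+ U := AddMonoidHom.mk'
    (fun v => (T0 (φ (v 0)) : U) + (φ (v 1) : U)) fun v w => by
      simp only [Pi.add_apply, map_add, Submodule.coe_add]; abel
  have hχb : Function.Bijective χ0 := by
    constructor
    · rw [injective_iff_map_eq_zero]
      intro v hv
      have hv' : (T0 (φ (v 0)) : U) = -(φ (v 1) : U) := eq_neg_of_add_eq_zero_left hv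
      have h0 : (T0 (φ (v 0)) : U) = 0 := Submodule.disjoint_def.1 h.compl.disjoint _ (T0 _).2
        (hv' ▸ neg_mem (φ (v 1)).2)
      have h1 : (φ (v 1) : U) = 0 := by rw [h0] at hv'; exact neg_eq_zero.1 hv'.symm
      have e0 : v 0 = 0 := hφi (by rw [map_zero]; exact T0.injective (by rw [map_zero]; exact Subtype.ext h0))
      have e1 : v 1 = 0 := hφi (by rw [map_zero]; exact Subtype.ext h1)
      funext i; fin_cases i <;> assumption
    · intro u
      obtain ⟨x, hx, y, hy, rfl⟩ := Submodule.mem_sup.1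
        (h.compl.sup_eq_top ▸ Submodule.mem_top : u ∈ X ⊔ Y)
      obtain ⟨c, hc⟩ := hφb.2 (T0.symm ⟨x, hx⟩)
      obtain ⟨d, hd⟩ := hφb.2 ⟨y, hy⟩
      refine ⟨![c, d], ?_⟩
      show (T0 (φ c) : U) + (φ d : U) = x + y
      rw [hc, hd, T0.apply_symm_apply]
  let χ : (Fin 2 → F) ≃+ U := AddEquiv.ofBijective χ0 hχb
  let Rel : P → Matrix.SpecialLinearGroup (Fin 2) (F) → Prop := fun g N =>
    ∀ v, f g (χ v) = χ ((N : Matrix (Fin 2) (Fin 2) (F)).mulVec v)
  have hup : ∀ (a : A) (c : F), ε c = Lh (Additive.ofMul a) → Rel (a : P) (Classical.GL2.uniSL c) := by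
    intro a c hc v
    have hkey : Lh (Additive.ofMul a) (φ (v 1)) = φ (c * v 1) := by rw [← hc, hφmul]
    show f a ((T0 (φ (v 0)) : U) + (φ (v 1) : U)) = _
    have h1 : f (a : P) (φ (v 1) : U) = (t a (φ (v 1)) : U) + φ (v 1) := (sub_add_cancel _ _).symm
    have h2 : t a (φ (v 1)) = T0 (φ (c * v 1)) := by
      rw [← hkey]; exact (T0.apply_symm_apply _).symm
    rw [map_add, h.fix a a.2 _ (T0 _).2, h1, h2]
    show _ = (T0 (φ _) : U) + (φ _ : U)
    simp [Matrix.mulVec, dotProduct, Fin.sum_univ_two, Classical.GL2.uniSL]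
    abel
  have hlowR : ∀ (b : A') (c : F), ε c = Lh' (Additive.ofMul b) → Rel (b : P) (Classical.GL2.lowSL c) := by
    intro b c hc v
    have hkey : Lh' (Additive.ofMul b) (φ (v 0)) = φ (c * v 0) := by rw [← hc, hφmul]
    show f b ((T0 (φ (v 0)) : U) + (φ (v 1) : U)) = _
    have h1 : f (b : P) (T0 (φ (v 0)) : U) = (Lh' (Additive.ofMul b) (φ (v 0)) : U) + T0 (φ (v 0)) :=
      (sub_add_cancel _ _).symm
    rw [map_add, h.fix' b b.2 _ (φ _).2, h1, hkey]
    show _ = (T0 (φ _) : U) + (φ _ : U)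
    simp [Matrix.mulVec, dotProduct, Fin.sum_univ_two, Classical.GL2.lowSL]
    abel
  let R : Subgroup P :=
    { carrier := {g | ∃ N, Rel g N}
      one_mem' := ⟨1, fun v => by simp⟩
      mul_mem' := fun {g k} ⟨N, hN⟩ ⟨N', hN'⟩ => ⟨N * N', fun v => by
        rw [map_mul, Module.End.mul_apply, hN' v, hN, Matrix.SpecialLinearGroup.coe_mul, Matrix.mulVec_mulVec]⟩
      inv_mem' := fun {g} ⟨N, hN⟩ => ⟨N⁻¹, fun v => by
        have := hN (((N⁻¹ : Matrix.SpecialLinearGroup (Fin 2) (F)) : Matrix (Fin 2) (Fin 2) (F)).mulVec v)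
        rw [Matrix.mulVec_mulVec, ← Matrix.SpecialLinearGroup.coe_mul, mul_inv_cancel,
          Matrix.SpecialLinearGroup.coe_one, Matrix.one_mulVec] at this
        rw [← this, ← Module.End.mul_apply, ← map_mul, inv_mul_cancel, map_one, Module.End.one_apply]⟩ }
  have hAR : A ≤ R := fun a ha => by
    obtain ⟨c, hc⟩ := (hεS' _).1 (⟨Additive.ofMul ⟨a, ha⟩, rfl⟩ : Lh (Additive.ofMul ⟨a, ha⟩) ∈ Lh.range)
    exact ⟨_, hup ⟨a, ha⟩ c hc⟩
  have hBR : A' ≤ R := fun b hb => by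
    have hm : Lh' (Additive.ofMul ⟨b, hb⟩) ∈ Lh.range := by rw [hLL]; exact ⟨_, rfl⟩
    obtain ⟨c, hc⟩ := (hεS' _).1 hm
    exact ⟨_, hlowR ⟨b, hb⟩ c hc⟩
  have hR : ∀ g, ∃ N, Rel g N := fun g =>
    (h.gen ▸ sup_le hAR hBR : (⊤ : Subgroup P) ≤ R) (Subgroup.mem_top g)
  choose ρ0 hρ0 using hR
  have huniq : ∀ {g N}, Rel g N → N = ρ0 g := by
    intro g N hN
    refine Subtype.ext (Matrix.ext_of_mulVec_single fun i => χ.injective ?_)
    rw [← hN, ← hρ0]
  let ρ1 : P →* Matrix.SpecialLinearGroup (Fin 2) (F) := MonoidHom.mk' ρ0 fun g k => by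
    refine (huniq fun v => ?_).symm
    rw [map_mul, Module.End.mul_apply, hρ0 k v, hρ0 g, Matrix.SpecialLinearGroup.coe_mul, Matrix.mulVec_mulVec]
  have hρinj : Function.Injective ρ1 := by
    rw [injective_iff_map_eq_one]
    intro g hg
    refine h.inj g (LinearMap.ext fun u => ?_)
    obtain ⟨v, rfl⟩ := χ.surjective u
    rw [hρ0 g v, show ρ0 g = 1 from hg]
    simp
  have hρsurj : Function.Surjective ρ1 := by
    rw [← MonoidHom.range_eq_top]
    refine Forms.DicksonField.eq_top_of_uni_low _ (fun c => ?_) fun c => ?_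
    · obtain ⟨a, ha⟩ : ε c ∈ Lh.range := (hεS' _).2 ⟨c, rfl⟩
      exact ⟨(a.toMul : A), (huniq (hup a.toMul c ha.symm)).symm⟩
    · obtain ⟨b, hb⟩ : ε c ∈ Lh'.range := hLL ▸ (hεS' _).2 ⟨c, rfl⟩
      exact ⟨(b.toMul : A'), (huniq (hlowR b.toMul c hb.symm)).symm⟩
  refine ⟨F, iF, iFt, hcardF, χ, MulEquiv.ofBijective ρ1 ⟨hρinj, hρsurj⟩,
    fun g v => hρ0 g v, fun a ha => ?_, fun v => ⟨fun hv => ?_, fun hv => ?_⟩⟩
  · obtain ⟨c, hc⟩ := (hεS' _).1 (⟨Additive.ofMul ⟨a, ha⟩, rfl⟩ : Lh (Additive.ofMul ⟨a, ha⟩) ∈ Lh.range)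
    exact ⟨c, (huniq (hup ⟨a, ha⟩ c hc)).symm⟩
  · have h1 : (φ (v 1) : U) ∈ X := by
      have := sub_mem hv (T0 (φ (v 0))).2
      rwa [show χ v = (T0 (φ (v 0)) : U) + φ (v 1) from rfl, add_sub_cancel_left] at this
    refine hφi ?_
    rw [map_zero]
    exact Subtype.ext (Submodule.disjoint_def.1 h.compl.disjoint _ h1 (φ (v 1)).2)
  · show (T0 (φ (v 0)) : U) + φ (v 1) ∈ X
    rw [hv, map_zero, Submodule.coe_zero, add_zero]
    exact (T0 _).2

end Cfsg.Agent.FFNatural
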