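import Mathlib
import Cfsg.Agent.Lib.PLocal.Natural.Generation
import Cfsg.Agent.Lib.PLocal.Natural.Plane

/-!
Passing to the module modulo fixed points: the offender generation hypotheses give the natural
module of `SL₂`.
-/

set_option autoImplicit false
set_option linter.style.longLine false

namespace Cfsg.Agent.FFNatural

open Cfsg.Lib.Offender

variable {p : ℕ} {P V : Type*} [Group P] [AddCommGroup V] [Module (ZMod p) V]

/-- An action by automorphisms of an elementary abelian group as a representation. -/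
noncomputable def actRep {N : Type*} [CommGroup N] [Module (ZMod p) (Additive N)] (θ : P →* MulAut N) :
    Representation (ZMod p) P (Additive N) where
  toFun g := AddMonoidHom.toZModLinearMap p (MonoidHom.toAdditive (θ g).toMonoidHom)
  map_one' := LinearMap.ext fun v => by simp
  map_mul' g k := LinearMap.ext fun v => by simp

/-- The representation on the module modulo fixed points. -/
noncomputable def modFixed (f : Representation (ZMod p) P V) :
    Representation (ZMod p) P (V ⧸ fixed f (⊤ : Subgroup P)) where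
  toFun g := (fixed f ⊤).mapQ (fixed f ⊤) (f g)
    (Submodule.map_le_iff_le_comap.1 (map_fixed_top (f := f) g).le)
  map_one' := Submodule.linearMap_qext _ (LinearMap.ext fun v => by simp)
  map_mul' g h := Submodule.linearMap_qext _ (LinearMap.ext fun v => by simp)

@[simp] theorem modFixed_mk (f : Representation (ZMod p) P V) (g : P) (v : V) :
    modFixed f g ((fixed f ⊤).mkQ v) = (fixed f ⊤).mkQ (f g v) := rfl

theorem Setting.natural [Fact p.Prime] [Finite P] [Finite V] {f : Representation (ZMod p) P V}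
    {T : Sylow p P} {M A : Subgroup P} (h : Setting f T M A) :
    fixed f A = Submodule.span (ZMod p) {x | ∃ a ∈ A, ∃ v, f a v - v = x} ⊔ fixed f ⊤ ∧
    ∃ (F : Type) (_ : Field F) (_ : Fintype F), Fintype.card F = Nat.card ↥A ∧
      ∃ (ρ : P ≃* Matrix.SpecialLinearGroup (Fin 2) F) (ψ : V →+ (Fin 2 → F)),
        Function.Surjective ψ ∧ (∀ v, ψ v = 0 ↔ v ∈ fixed f ⊤) ∧
        (∀ g v, ψ (f g v) = ((ρ g : Matrix.SpecialLinearGroup (Fin 2) F) : Matrix (Fin 2) (Fin 2) F).mulVec (ψ v)) ∧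
        (∀ a ∈ A, ∃ c, ρ a = Classical.GL2.uniSL c) ∧ ∀ v, v ∈ fixed f A ↔ ψ v 1 = 0 := by
  classical
  obtain ⟨y, hy⟩ := SetLike.exists_not_mem_of_ne_top M h.coatom.1
  obtain ⟨-, hUtop, hcX, hreg, hfaith⟩ := h.main hy
  have : Finite (V ⧸ fixed f (⊤ : Subgroup P)) :=
    Finite.of_surjective _ (Submodule.mkQ_surjective (fixed f (⊤ : Subgroup P)))
  set W := fixed f (⊤ : Subgroup P) with hW
  set X := fixed f A with hX
  let π := W.mkQ
  let fb := modFixed f
  have hWX : W ≤ X := fixed_anti le_top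
  set Xb := X.map π with hXb
  set Yb := (X.map (f y)).map π with hYb
  have hπW : ∀ v, π v = 0 ↔ v ∈ W := fun v => Submodule.Quotient.mk_eq_zero W
  have hmapfb : ∀ (g : P) (Z : Submodule (ZMod p) V), (Z.map π).map (fb g) = (Z.map (f g)).map π := by
    intro g Z
    rw [← Submodule.map_comp, ← Submodule.map_comp]
    rfl
  have hfbinj : ∀ g, Function.Injective (fb g) := fun g => f_injective (f := fb) g
  have hYb' : Yb = Xb.map (fb y) := (hmapfb y X).symm
  have hcXb : Nat.card ↥Xb = Nat.card ↥A := by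
    let g := π.comp X.subtype
    have hr : LinearMap.range g = Xb := by rw [LinearMap.range_comp, Submodule.range_subtype]
    have hk : LinearMap.ker g = W.comap X.subtype := by rw [LinearMap.ker_comp, Submodule.ker_mkQ]
    have h1 := Submodule.card_eq_card_quotient_mul_card (LinearMap.ker g)
    rw [Nat.card_congr (LinearMap.quotKerEquivRange g).toEquiv, hr, hk,
      Nat.card_congr (Submodule.comapSubtypeEquivOfLe hWX).toEquiv, hcX] at h1
    exact (Nat.eq_of_mul_eq_mul_right Nat.card_pos (by rw [h1]; ring)).symm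
  have hcYb : Nat.card ↥Yb = Nat.card ↥A := by rw [hYb', card_map, hcXb]
  have hdisj : ∀ g, g ∉ M → ∀ u ∈ Xb, u ∈ Xb.map (fb g) → u = 0 := by
    intro g hg u hu hu'
    rw [hmapfb] at hu'
    obtain ⟨x, hx, rfl⟩ := hu
    obtain ⟨x', hx', e⟩ := hu'
    have hd : x' - x ∈ W := (hπW _).1 (by rw [map_sub, e, sub_self])
    have hx'X : x' ∈ X := by simpa using add_mem hx (hWX hd)
    have hx'W : x' ∈ W := (h.inf_map hg).le ⟨hx'X, hx'⟩
    rw [← e]
    exact (hπW _).2 hx'W
  have hcompl : IsCompl Xb Yb := by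
    refine ⟨Submodule.disjoint_def.2 fun u hu hu' => hdisj y hy u hu (hYb' ▸ hu'), ?_⟩
    rw [codisjoint_iff, hXb, hYb, ← Submodule.map_sup, hUtop, Submodule.map_top, Submodule.range_mkQ]
  have hne : 1 < Nat.card ↥A := (Subgroup.one_lt_card_iff_ne_bot A).2 h.ne_bot
  have hfix : ∀ a ∈ A, ∀ x ∈ Xb, fb a x = x := by
    rintro a ha _ ⟨x, hx, rfl⟩
    show fb a (W.mkQ x) = W.mkQ x
    rw [modFixed_mk, hx a ha]
  have hmove : ∀ a ∈ A, ∀ u, fb a u - u ∈ Xb := by
    intro a ha u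
    obtain ⟨v, rfl⟩ := Submodule.mkQ_surjective W u
    exact ⟨f a v - v, h.sub_mem_fixed ha v, by rw [map_sub]; rfl⟩
  have hregb : ∀ a ∈ A, a ≠ 1 → ∀ u ∈ Yb, fb a u = u → u = 0 := by
    rintro a ha ha1 _ ⟨v, hv, rfl⟩ e
    by_contra hne
    refine ha1 (hreg a ha v hv (fun hc => hne ((hπW v).2 hc)) ((hπW _).1 ?_))
    rw [map_sub, sub_eq_zero]
    exact e
  have hcover : ∀ x ∈ Xb, ∀ u ∈ Yb, u ≠ 0 → ∃ a ∈ A, fb a u - u = x := by
    intro x hx u hu hu0
    let τ : A → ↥Xb := fun a => ⟨fb a u - u, hmove a a.2 u⟩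
    have hτ : Function.Injective τ := by
      intro a b e
      have e' : fb (a : P) u = fb (b : P) u := sub_left_injective (congrArg Subtype.val e)
      by_contra hne
      refine hu0 (hregb ((b : P)⁻¹ * a) (A.mul_mem (A.inv_mem b.2) a.2) ?_ u hu ?_)
      · exact fun e1 => hne (Subtype.ext (inv_mul_eq_one.1 e1).symm)
      · rw [mul_app, e', inv_app]
    obtain ⟨a, ha⟩ := ((Nat.bijective_iff_injective_and_card τ).2 ⟨hτ, hcXb.symm⟩).2 ⟨x, hx⟩
    exact ⟨a, a.2, congrArg Subtype.val ha⟩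
  have hout : ∀ u, u ∉ Xb → ∃ a ∈ A, u ∈ Xb.map (fb (a * y)) := by
    intro u hu
    obtain ⟨x, hx, v, hv, rfl⟩ := Submodule.mem_sup.1
      (hcompl.sup_eq_top ▸ Submodule.mem_top : u ∈ Xb ⊔ Yb)
    have hv0 : v ≠ 0 := fun e => hu (by rw [e, add_zero]; exact hx)
    obtain ⟨a, ha, e⟩ := hcover x hx v hv hv0
    rw [hYb'] at hv
    obtain ⟨w, hw, rfl⟩ := hv
    exact ⟨a, ha, w, hw, by rw [mul_app, ← e]; abel⟩
  have hM : ∀ m ∈ M, Xb.map (fb m) = Xb := by
    intro m hm
    refine eq_of_le_of_card (fun u hu => ?_) (card_map (f := fb) m Xb).ge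
    by_contra hu'
    obtain ⟨a, ha, w, hw, e⟩ := hout u hu'
    obtain ⟨w', hw', e'⟩ := hu
    have hg : m⁻¹ * (a * y) ∉ M := fun hc => hy ((M.mul_mem_cancel_left (h.le (h.sub ha))).1
      ((M.mul_mem_cancel_left (M.inv_mem hm)).1 hc))
    have h0 : w' = 0 := hdisj _ hg w' hw' ⟨w, hw, by rw [mul_app, e, ← e', inv_app]⟩
    rw [← e', h0, map_zero] at hu'
    exact hu' (zero_mem _)
  have himg : ∀ g, Xb.map (fb g) = Xb ∨ ∃ a ∈ A, Xb.map (fb g) = Yb.map (fb a) := by
    intro g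
    by_cases hle : Xb.map (fb g) ≤ Xb
    · exact Or.inl (eq_of_le_of_card hle (card_map (f := fb) g Xb).ge)
    obtain ⟨u, hu, hu'⟩ := SetLike.not_le_iff_exists.1 hle
    obtain ⟨a, ha, w, hw, e⟩ := hout u hu'
    obtain ⟨w', hw', e'⟩ := hu
    refine Or.inr ⟨a, ha, ?_⟩
    have hg : (a * y)⁻¹ * g ∈ M := by
      by_contra hc
      have h0 : w = 0 := hdisj _ hc w hw ⟨w', hw', by rw [mul_app, e', ← e, inv_app]⟩
      rw [← e, h0, map_zero] at hu'
      exact hu' (zero_mem _)
    have hmul : ∀ (g k : P) (Z : Submodule (ZMod p) (V ⧸ W)), (Z.map (fb k)).map (fb g) = Z.map (fb (g * k)) := by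
      intro g k Z
      rw [map_mul]
      exact (Submodule.map_comp (fb k) (fb g) Z).symm
    rw [hYb', hmul]
    conv_rhs => rw [← hM _ hg, hmul, show a * y * ((a * y)⁻¹ * g) = g by group]
  set A' := A.map (MulAut.conj y).toMonoidHom with hA'
  have hfix' : ∀ b ∈ A', ∀ u ∈ Yb, fb b u = u := by
    rintro b hb _ ⟨v, hv, rfl⟩
    show fb b (W.mkQ v) = W.mkQ v
    rw [modFixed_mk, mem_fixed_conj.2 hv b hb]
  have hmove' : ∀ b ∈ A', ∀ u, fb b u - u ∈ Yb := by
    rintro _ ⟨a, ha, rfl⟩ u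
    rw [hYb']
    refine ⟨fb a (fb y⁻¹ u) - fb y⁻¹ u, hmove a ha _, ?_⟩
    rw [MulEquiv.coe_toMonoidHom, MulAut.conj_apply, map_sub, app_inv, mul_app, mul_app]
  have hfb1 : ∀ g, fb g = 1 → g = 1 := fun g hg => hfaith g fun v => (hπW _).1 (by
    rw [map_sub, sub_eq_zero]
    exact LinearMap.congr_fun hg (W.mkQ v))
  have hcA' : Nat.card ↥A' = Nat.card ↥A :=
    Subgroup.card_map_of_injective (MulAut.conj y).injective
  have hnz : ∃ u ∈ Yb, u ≠ 0 := by
    by_contra hc
    push Not at hc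
    have : Yb = ⊥ := (Submodule.eq_bot_iff _).2 hc
    rw [this] at hcYb
    simp at hcYb
    omega
  have hpart : ∀ a ∈ A, a ≠ 1 → ∃ b ∈ A', Xb.map (fb b) = Yb.map (fb a) := by
    have hex : ∀ b : A', ∃ a : A, (a = 1 ∧ Xb.map (fb b) = Xb) ∨
        (a ≠ 1 ∧ Xb.map (fb b) = Yb.map (fb a)) := by
      intro b
      rcases himg b with e | ⟨a, ha, e⟩
      · exact ⟨1, Or.inl ⟨rfl, e⟩⟩
      refine ⟨⟨a, ha⟩, Or.inr ⟨fun e1 => ?_, e⟩⟩
      rw [show a = 1 from congrArg Subtype.val e1, map_one] at e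
      obtain ⟨u, hu, hu0⟩ := hnz
      have hu' : u ∈ Xb.map (fb b) := e ▸ ⟨u, hu, rfl⟩
      obtain ⟨x, hx, hxe⟩ := hu'
      have : x = u := hfbinj b (hxe.trans (hfix' b b.2 u hu).symm)
      exact hu0 (Submodule.disjoint_def.1 hcompl.disjoint u (this ▸ hx) hu)
    choose η hη using hex
    have hηi : Function.Injective η := by
      intro b b' e
      have hZ : Xb.map (fb b) = Xb.map (fb b') := by
        rcases hη b with ⟨h1, e1⟩ | ⟨h1, e1⟩ <;> rcases hη b' with ⟨h2, e2⟩ | ⟨h2, e2⟩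
        · rw [e1, e2]
        · exact absurd (e ▸ h1) h2
        · exact absurd (e.symm ▸ h2) h1
        · rw [e1, e2, e]
      refine Subtype.ext (inv_mul_eq_one.1 (hfb1 _ ?_))
      have hc : ((b : P)⁻¹ * b') ∈ A' := A'.mul_mem (A'.inv_mem b.2) b'.2
      refine LinearMap.ext fun u => ?_
      obtain ⟨x, hx, v, hv, rfl⟩ := Submodule.mem_sup.1
        (hcompl.sup_eq_top ▸ Submodule.mem_top : u ∈ Xb ⊔ Yb)
      obtain ⟨x', hx', hxe⟩ : fb b' x ∈ Xb.map (fb b) := hZ ▸ ⟨x, hx, rfl⟩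
      have h1 : fb ((b : P)⁻¹ * b') x = x' := by rw [mul_app, ← hxe, inv_app]
      have h2 := hmove' _ hc x
      rw [h1] at h2
      have h3 := sub_eq_zero.1 (Submodule.disjoint_def.1 hcompl.disjoint _ (sub_mem hx' hx) h2)
      rw [map_add, h1, h3, hfix' _ hc v hv, Module.End.one_apply]
    intro a ha ha1
    obtain ⟨b, hb⟩ := ((Nat.bijective_iff_injective_and_card η).2 ⟨hηi, hcA'⟩).2 ⟨a, ha⟩
    rcases hη b with ⟨h1, -⟩ | ⟨-, e⟩
    · rw [hb] at h1; exact absurd (congrArg Subtype.val h1) ha1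
    · rw [hb] at e; exact ⟨b, b.2, e⟩
  refine ⟨?_, ?_⟩
  · refine le_antisymm (fun x hx => ?_) (sup_le (Submodule.span_le.2 ?_) hWX)
    · obtain ⟨u, hu, hu0⟩ := hnz
      obtain ⟨a, ha, e⟩ := hcover (π x) ⟨x, hx, rfl⟩ u hu hu0
      obtain ⟨v, rfl⟩ := Submodule.mkQ_surjective W u
      have hd : x - (f a v - v) ∈ W := (hπW _).1 (by
        rw [map_sub, map_sub, sub_eq_zero]; exact e.symm)
      have := add_mem (Submodule.mem_sup_left (T := W)
        (Submodule.subset_span (R := ZMod p) ⟨a, ha, v, rfl⟩ :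
          f a v - v ∈ Submodule.span (ZMod p) {x | ∃ a ∈ A, ∃ v, f a v - v = x}))
        (Submodule.mem_sup_right hd)
      simpa using this
    · rintro _ ⟨a, ha, v, rfl⟩
      exact h.sub_mem_fixed ha v
  · obtain ⟨F, iF, iFt, hcard, χ, ρ, hρ, hρA, hχX⟩ := plane_natural (f := fb) (A := A) (A' := A') (X := Xb) (Y := Yb)
      { inj := hfb1
        gen := h.gen y hy
        compl := hcompl
        fix := hfix
        fix' := hfix'
        move := hmove
        move' := hmove'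
        reg := hregb
        two := hne
        cardX := hcXb
        cardY := hcYb
        card' := hcA'
        partition := hpart }
    refine ⟨F, iF, iFt, hcard, ρ, χ.symm.toAddMonoidHom.comp π.toAddMonoidHom,
      χ.symm.surjective.comp (Submodule.mkQ_surjective W), fun v => ?_, fun g v => ?_, hρA, fun v => ?_⟩
    · show χ.symm (π v) = 0 ↔ _
      rw [map_eq_zero_iff _ χ.symm.injective, hπW]
    · show χ.symm (π (f g v)) = _
      rw [AddEquiv.symm_apply_eq, ← hρ]
      show _ = fb g (χ (χ.symm (π v)))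
      rw [χ.apply_symm_apply]
      rfl
    · show _ ↔ χ.symm (π v) 1 = 0
      rw [← hχX, χ.apply_symm_apply, hXb, Submodule.mem_map]
      refine ⟨fun hv => ⟨v, hv, rfl⟩, ?_⟩
      rintro ⟨x, hx, e⟩
      have hd : v - x ∈ W := (hπW _).1 (by rw [map_sub, e, sub_self])
      simpa using add_mem hx (hWX hd)

end Cfsg.Agent.FFNatural
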