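import Mathlib
import Cfsg.Agent.Lib.PLocal.Natural.Main

/-!
The frame for offenders of minimal order in a `p`-minimal group: conjugates of the maximal
subgroup, the subgroup generated by such offenders in a `p`-group.
-/

set_option autoImplicit false
set_option linter.style.longLine false

namespace Cfsg.Agent.FFNatural

open Cfsg.Lib.Offender

/-- The conjugate `g K g⁻¹`. -/
abbrev cg {P : Type*} [Group P] (g : P) (K : Subgroup P) : Subgroup P :=
  K.map (MulAut.conj g).toMonoidHom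

section conj

variable {P : Type*} [Group P]

theorem mem_cg {g x : P} {K : Subgroup P} : x ∈ cg g K ↔ g⁻¹ * x * g ∈ K := by
  constructor
  · rintro ⟨k, hk, rfl⟩
    simpa [mul_assoc] using hk
  · intro h
    exact ⟨_, h, by simp [mul_assoc]⟩

theorem cg_cg (g h : P) (K : Subgroup P) : cg g (cg h K) = cg (g * h) K := by
  ext x
  simp only [mem_cg]
  rw [show (g * h)⁻¹ * x * (g * h) = h⁻¹ * (g⁻¹ * x * g) * h by group]

@[simp] theorem cg_one (K : Subgroup P) : cg 1 K = K := by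
  ext x; simp [mem_cg]

theorem cg_inv (g : P) (K : Subgroup P) : cg g⁻¹ (cg g K) = K := by
  rw [cg_cg, inv_mul_cancel, cg_one]

theorem inv_cg (g : P) (K : Subgroup P) : cg g (cg g⁻¹ K) = K := by
  rw [cg_cg, mul_inv_cancel, cg_one]

theorem cg_mono {K K' : Subgroup P} (h : K ≤ K') (g : P) : cg g K ≤ cg g K' := Subgroup.map_mono h

theorem le_of_cg {K K' : Subgroup P} {g : P} (h : cg g K ≤ cg g K') : K ≤ K' := by
  simpa only [cg_inv] using cg_mono h g⁻¹

theorem card_cg (g : P) (K : Subgroup P) : Nat.card ↥(cg g K) = Nat.card ↥K :=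
  Subgroup.card_map_of_injective (MulAut.conj g).injective

theorem cg_sup (g : P) (K K' : Subgroup P) : cg g (K ⊔ K') = cg g K ⊔ cg g K' := Subgroup.map_sup _ _ _

theorem cg_eq_iff {g : P} {K : Subgroup P} : cg g K = K ↔ g ∈ Subgroup.normalizer (K : Set P) :=
  Subgroup.mem_normalizer_iff_map_conj_eq.symm

theorem cg_self {g : P} {K : Subgroup P} (h : g ∈ K) : cg g K = K :=
  cg_eq_iff.2 (Subgroup.le_normalizer h)

theorem cg_le_of_mem {g : P} {L K : Subgroup P} (hg : g ∈ L) (h : K ≤ L) : cg g K ≤ L :=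
  (cg_mono h g).trans (cg_self hg).le

end conj

variable {p : ℕ} {P V : Type*} [Group P] [AddCommGroup V] [Module (ZMod p) V]

/-- An offender. -/
structure IsOff (f : Representation (ZMod p) P V) (A : Subgroup P) : Prop where
  ne_bot : A ≠ ⊥
  comm : ∀ a ∈ A, ∀ b ∈ A, a * b = b * a
  exp : ∀ a ∈ A, a ^ p = 1
  bound : Nat.card V ≤ Nat.card ↥A * Nat.card ↥(fixed f A)

/-- An offender of the minimal order `q`. -/
structure Gen (f : Representation (ZMod p) P V) (q : ℕ) (A : Subgroup P) : Prop where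
  off : IsOff f A
  card : Nat.card ↥A = q

/-- The standing hypotheses. -/
structure Frame (f : Representation (ZMod p) P V) (T : Sylow p P) (M : Subgroup P) (q : ℕ) : Prop where
  inj : ∀ g, f g = 1 → g = 1
  coatom : IsCoatom M
  le : (T : Subgroup P) ≤ M
  uniq : ∀ K : Subgroup P, IsCoatom K → (T : Subgroup P) ≤ K → K = M
  core : ∀ N : Subgroup P, N.Normal → IsPGroup p N → N = ⊥
  move : ¬ fixed f (T : Subgroup P) ≤ fixed f ⊤
  minimal : ∀ B : Subgroup P, IsOff f B → q ≤ Nat.card ↥B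
  exists_gen : ∃ A, Gen f q A

/-- A conjugate of the maximal subgroup. -/
def IsPt (M K : Subgroup P) : Prop := ∃ g, cg g M = K

/-- A Sylow subgroup as a conjugate of `T`. -/
def IsSyl (T S : Subgroup P) : Prop := ∃ g, cg g T = S

/-- The subgroup generated by the offenders of order `q` inside `X`. -/
def genJoin (f : Representation (ZMod p) P V) (q : ℕ) (X : Subgroup P) : Subgroup P :=
  ⨆ A : {A : Subgroup P // Gen f q A ∧ A ≤ X}, (A : Subgroup P)

variable {f : Representation (ZMod p) P V} {q : ℕ}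

theorem genJoin_le (X : Subgroup P) : genJoin f q X ≤ X := iSup_le fun A => A.2.2

theorem le_genJoin {A X : Subgroup P} (hA : Gen f q A) (h : A ≤ X) : A ≤ genJoin f q X :=
  le_iSup (fun A : {A : Subgroup P // Gen f q A ∧ A ≤ X} => (A : Subgroup P)) ⟨A, hA, h⟩

theorem IsOff.conj [Finite P] {A : Subgroup P} (h : IsOff f A) (g : P) : IsOff f (cg g A) where
  ne_bot e := h.ne_bot (by
    have := congrArg (cg g⁻¹) e
    rwa [cg_inv, cg, Subgroup.map_bot] at this)
  comm := by
    rintro _ ⟨a, ha, rfl⟩ _ ⟨b, hb, rfl⟩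
    rw [← map_mul, h.comm a ha b hb, map_mul]
  exp := by
    rintro _ ⟨a, ha, rfl⟩
    rw [← map_pow, h.exp a ha, map_one]
  bound := by
    have e : fixed f (cg g A) = (fixed f A).map (f g) := SetLike.ext fun v => mem_fixed_conj
    rw [card_cg, e, card_map]
    exact h.bound

theorem Gen.conj [Finite P] {A : Subgroup P} (h : Gen f q A) (g : P) : Gen f q (cg g A) :=
  ⟨h.off.conj g, (card_cg g A).trans h.card⟩

theorem IsOff.isPGroup {A : Subgroup P} (h : IsOff f A) : IsPGroup p A := fun a =>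
  ⟨1, Subtype.ext (by rw [pow_one, Subgroup.coe_pow, h.exp a a.2]; rfl)⟩

theorem fixed_cg (g : P) (A : Subgroup P) : fixed f (cg g A) = (fixed f A).map (f g) :=
  SetLike.ext fun _ => mem_fixed_conj

/-- The conjugation-invariant core: `X` generated by offenders is normalized by the normalizer of
its ambient group. -/
theorem cg_genJoin [Finite P] (g : P) (X : Subgroup P) : cg g (genJoin f q X) = genJoin f q (cg g X) := by
  have key : ∀ (g : P) (X : Subgroup P), cg g (genJoin f q X) ≤ genJoin f q (cg g X) := by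
    intro g X
    rw [genJoin, cg, Subgroup.map_iSup]
    exact iSup_le fun A => le_genJoin (A.2.1.conj g) (cg_mono A.2.2 g)
  refine le_antisymm (key g X) ?_
  have h1 := cg_mono (key g⁻¹ (cg g X)) g
  rwa [inv_cg, cg_inv] at h1

/-- In a `p`-group generated by offenders, a proper such subgroup is normalized by an offender
outside it. -/
theorem exists_normalizing [Finite P] [Fact p.Prime] {R D : Subgroup P} (hD : IsPGroup p D)
    (hDg : D = genJoin f q D) (hR : R = genJoin f q R) (hle : R ≤ D) (hne : R ≠ D) :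
    ∃ A, Gen f q A ∧ A ≤ D ∧ A ≤ Subgroup.normalizer (R : Set P) ∧ ¬ A ≤ R := by
  by_contra hnone
  push Not at hnone
  set X := D ⊓ Subgroup.normalizer (R : Set P) with hX
  have hXR : ∀ A, Gen f q A → A ≤ X → A ≤ R := fun A hA h =>
    hnone A hA (h.trans inf_le_left) (h.trans inf_le_right)
  rcases eq_or_ne X D with e | e
  · refine hne (le_antisymm hle ?_)
    rw [hDg]
    exact iSup_le fun A => hXR A A.2.1 (e.symm ▸ A.2.2)
  have : Group.IsNilpotent D := hD.isNilpotent
  have hlt : X.subgroupOf D < ⊤ := lt_top_iff_ne_top.2 fun e' =>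
    e (le_antisymm inf_le_left (Subgroup.subgroupOf_eq_top.1 e'))
  obtain ⟨b, hb, hbX⟩ := SetLike.exists_of_lt (Group.normalizerCondition_of_isNilpotent (G := D) _ hlt)
  have hbN : (b : P) ∈ Subgroup.normalizer (X : Set P) := by
    rw [show X = (X.subgroupOf D).map D.subtype from (Subgroup.map_subgroupOf_eq_of_le inf_le_left).symm]
    exact Subgroup.le_normalizer_map D.subtype ⟨b, hb, rfl⟩
  refine hbX (Subgroup.mem_subgroupOf.2 ⟨b.2, cg_eq_iff.1 ?_⟩)
  refine Subgroup.eq_of_le_of_card_ge ?_ (card_cg _ _).ge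
  calc cg (b : P) R = cg (b : P) (genJoin f q R) := by rw [← hR]
    _ = genJoin f q (cg (b : P) R) := cg_genJoin _ _
    _ ≤ R := iSup_le fun A => hXR A A.2.1 (A.2.2.trans
        ((cg_mono (le_inf hle Subgroup.le_normalizer) _).trans (cg_eq_iff.2 hbN).le))

theorem genJoin_idem (X : Subgroup P) : genJoin f q (genJoin f q X) = genJoin f q X :=
  le_antisymm (genJoin_le _) (iSup_le fun A => le_genJoin A.2.1 (le_genJoin A.2.1 A.2.2))

theorem genJoin_mono {X Y : Subgroup P} (h : X ≤ Y) : genJoin f q X ≤ genJoin f q Y :=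
  iSup_le fun A => le_genJoin A.2.1 (A.2.2.trans h)

theorem IsSyl.conj {T S : Subgroup P} (h : IsSyl T S) (g : P) : IsSyl T (cg g S) := by
  obtain ⟨x, rfl⟩ := h
  exact ⟨g * x, (cg_cg g x T).symm⟩

theorem IsPt.conj {M K : Subgroup P} (h : IsPt M K) (g : P) : IsPt M (cg g K) := by
  obtain ⟨x, rfl⟩ := h
  exact ⟨g * x, (cg_cg g x M).symm⟩

namespace Frame

variable {T : Sylow p P} {M : Subgroup P} (F : Frame f T M q)
include F

theorem not_normal [Finite P] [Fact p.Prime] : ¬ M.Normal := by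
  intro hn
  have h1 : (T : Subgroup P) ≤ M.normalCore := by rw [Subgroup.normalCore_eq_self M]; exact F.le
  have hfr := Sylow.normalizer_sup_eq_top' (N := M) T F.le
  rcases eq_top_or_exists_le_coatom (Subgroup.normalizer ((T : Subgroup P) : Set P)) with e | ⟨K, hK, hle⟩
  · have : (T : Subgroup P).Normal := Subgroup.normalizer_eq_top_iff.1 e
    have hT := F.core _ this T.isPGroup'
    obtain ⟨A, hA⟩ := F.exists_gen
    obtain ⟨S, hS⟩ := hA.off.isPGroup.exists_le_sylow
    obtain ⟨g, hg⟩ := MulAction.exists_smul_eq P T S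
    rw [← hg, Sylow.coe_subgroup_smul, hT] at hS
    exact hA.off.ne_bot (le_bot_iff.1 (hS.trans (by simp)))
  · rw [F.uniq K hK (Subgroup.le_normalizer.trans hle)] at hle
    exact F.coatom.1 (top_le_iff.1 (hfr ▸ sup_le hle le_rfl))

theorem normalizer_eq [Finite P] [Fact p.Prime] {K : Subgroup P} (hK : IsPt M K) :
    Subgroup.normalizer (K : Set P) = K := by
  obtain ⟨g, rfl⟩ := hK
  refine le_antisymm (fun x hx => ?_) Subgroup.le_normalizer
  have h0 : Subgroup.normalizer (M : Set P) = M := by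
    rcases F.coatom.le_iff.1 (Subgroup.le_normalizer (H := M)) with h | h
    · exact absurd (Subgroup.normalizer_eq_top_iff.1 h) F.not_normal
    · exact h
  have h1 : g⁻¹ * x * g ∈ Subgroup.normalizer (M : Set P) := cg_eq_iff.1 (by
    rw [← cg_cg, ← cg_cg, cg_eq_iff.2 hx, cg_inv])
  rw [h0] at h1
  exact mem_cg.2 h1

theorem mem_of_cg_eq [Finite P] [Fact p.Prime] {K : Subgroup P} (hK : IsPt M K) {x : P}
    (h : cg x K = K) : x ∈ K := F.normalizer_eq hK ▸ cg_eq_iff.1 h

theorem isPt_coatom {K : Subgroup P} (hK : IsPt M K) : IsCoatom K := by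
  obtain ⟨g, rfl⟩ := hK
  exact (OrderIso.isCoatom_iff (MulEquiv.mapSubgroup (MulAut.conj g)) M).2 F.coatom

theorem coatom_eq {S K K' : Subgroup P} (hS : IsSyl (T : Subgroup P) S) (hK : IsCoatom K) (hSK : S ≤ K)
    (hK' : IsCoatom K') (hSK' : S ≤ K') : K = K' := by
  obtain ⟨g, rfl⟩ := hS
  have key : ∀ L : Subgroup P, IsCoatom L → cg g (T : Subgroup P) ≤ L → L = cg g M := by
    intro L hL hSL
    have h1 : IsCoatom (cg g⁻¹ L) := (OrderIso.isCoatom_iff (MulEquiv.mapSubgroup (MulAut.conj g⁻¹)) L).2 hL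
    have h2 := F.uniq _ h1 (by simpa only [cg_inv] using cg_mono hSL g⁻¹)
    rw [← h2, inv_cg]
  rw [key K hK hSK, key K' hK' hSK']

theorem pt_eq {S K K' : Subgroup P} (hS : IsSyl (T : Subgroup P) S) (hK : IsPt M K) (hSK : S ≤ K)
    (hK' : IsPt M K') (hSK' : S ≤ K') : K = K' :=
  F.coatom_eq hS (F.isPt_coatom hK) hSK (F.isPt_coatom hK') hSK'

theorem le_pt {S X K : Subgroup P} (hS : IsSyl (T : Subgroup P) S) (hK : IsPt M K) (hSK : S ≤ K)
    (hSX : S ≤ X) [Finite P] (hX : X ≠ ⊤) : X ≤ K := by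
  obtain ⟨Y, hY, hle⟩ := (eq_top_or_exists_le_coatom X).resolve_left hX
  rwa [F.coatom_eq hS hY (hSX.trans hle) (F.isPt_coatom hK) hSK] at hle

/-- A `p`-subgroup lies in a Sylow subgroup, which lies in a conjugate of `M`. -/
theorem exists_syl [Finite P] [Fact p.Prime] {X : Subgroup P} (hX : IsPGroup p X) :
    ∃ S K, IsSyl (T : Subgroup P) S ∧ IsPt M K ∧ X ≤ S ∧ S ≤ K := by
  obtain ⟨S, hS⟩ := hX.exists_le_sylow
  obtain ⟨g, hg⟩ := MulAction.exists_smul_eq P T S
  refine ⟨cg g (T : Subgroup P), cg g M, ⟨g, rfl⟩, ⟨g, rfl⟩, ?_, cg_mono F.le g⟩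
  rw [← hg, Sylow.coe_subgroup_smul] at hS
  exact hS

/-- Inside a given conjugate of `M`. -/
theorem exists_syl_in [Finite P] [Fact p.Prime] {X K : Subgroup P} (hX : IsPGroup p X) (hK : IsPt M K)
    (hXK : X ≤ K) : ∃ S, IsSyl (T : Subgroup P) S ∧ X ≤ S ∧ S ≤ K := by
  obtain ⟨g, rfl⟩ := hK
  let Tg : Sylow p ↥(cg g M) := (g • T).subtype (by
    rw [Sylow.coe_subgroup_smul]; exact cg_mono F.le g)
  obtain ⟨Q, hQ⟩ := (hX.comap_subtype (K := cg g M)).exists_le_sylow
  obtain ⟨m, hm⟩ := MulAction.exists_smul_eq ↥(cg g M) Tg Q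
  refine ⟨cg ((m : P) * g) (T : Subgroup P), ⟨_, rfl⟩, fun r hr => ?_, ?_⟩
  · have hq : (⟨r, hXK hr⟩ : ↥(cg g M)) ∈ (Q : Subgroup ↥(cg g M)) := hQ hr
    rw [← hm, Sylow.coe_subgroup_smul] at hq
    obtain ⟨z, hz, e⟩ := hq
    rw [← cg_cg]
    exact ⟨(z : P), hz, congrArg Subtype.val e⟩
  · rw [← cg_cg]
    exact cg_le_of_mem m.2 (cg_mono F.le g)

theorem syl_isPGroup {S : Subgroup P} (hS : IsSyl (T : Subgroup P) S) : IsPGroup p S := by
  obtain ⟨g, rfl⟩ := hS
  exact T.isPGroup'.map _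

theorem gen_in_syl [Finite P] [Fact p.Prime] {S : Subgroup P} (hS : IsSyl (T : Subgroup P) S) :
    ∃ A, Gen f q A ∧ A ≤ S := by
  obtain ⟨g, rfl⟩ := hS
  obtain ⟨A, hA⟩ := F.exists_gen
  obtain ⟨S, hS'⟩ := hA.off.isPGroup.exists_le_sylow
  obtain ⟨k, hk⟩ := MulAction.exists_smul_eq P T S
  rw [← hk, Sylow.coe_subgroup_smul] at hS'
  refine ⟨cg (g * k⁻¹) A, hA.conj _, ?_⟩
  have h1 : cg k⁻¹ A ≤ (T : Subgroup P) := (cg_mono hS' k⁻¹).trans (cg_inv k _).le
  rw [← cg_cg]
  exact cg_mono h1 g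

/-- The offenders of a Sylow subgroup generate a subgroup that lies in one conjugate of `M` only. -/
theorem join_unique [Finite P] [Fact p.Prime] {S K K' : Subgroup P} (hS : IsSyl (T : Subgroup P) S)
    (hK : IsPt M K) (hSK : S ≤ K) (hK' : IsPt M K') (h : genJoin f q S ≤ K') : K' = K := by
  set B := genJoin f q S with hB
  have hBp : IsPGroup p B := (F.syl_isPGroup hS).to_le (genJoin_le S)
  obtain ⟨S', hS', hBS', hS'K⟩ := F.exists_syl_in hBp hK' h
  have hle : B ≤ genJoin f q S' := by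
    conv_lhs => rw [hB, ← genJoin_idem]
    exact genJoin_mono hBS'
  obtain ⟨g, rfl⟩ := hS
  obtain ⟨g', rfl⟩ := hS'
  have he : B = genJoin f q (cg g' (T : Subgroup P)) := by
    refine Subgroup.eq_of_le_of_card_ge hle (le_of_eq ?_)
    rw [hB, ← cg_genJoin, ← cg_genJoin, card_cg, card_cg]
  obtain ⟨A, hA, hAS⟩ := F.gen_in_syl (S := cg g (T : Subgroup P)) ⟨g, rfl⟩
  have hne : Subgroup.normalizer (B : Set P) ≠ ⊤ := fun e =>
    hA.off.ne_bot (le_bot_iff.1 ((le_genJoin hA hAS).trans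
      (F.core B (Subgroup.normalizer_eq_top_iff.1 e) hBp).le))
  obtain ⟨X, hX, hNX⟩ := (eq_top_or_exists_le_coatom (Subgroup.normalizer (B : Set P))).resolve_left hne
  have hN : ∀ x : P, cg x (T : Subgroup P) ≤ Subgroup.normalizer (genJoin f q (cg x (T : Subgroup P)) : Set P) :=
    fun x y hy => cg_eq_iff.1 (by rw [cg_genJoin, cg_self hy])
  rw [F.coatom_eq ⟨g, rfl⟩ (F.isPt_coatom hK) hSK hX ((hN g).trans hNX),
    F.coatom_eq ⟨g', rfl⟩ hX (((hN g').trans (by rw [he])).trans hNX) (F.isPt_coatom hK') hS'K]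

end Frame

end Cfsg.Agent.FFNatural
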