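import Mathlib
import Cfsg.Agent.Lib.PLocal.Natural.Frame

/-!
The zipper subgroups of an offender of minimal order, and the `p`-subgroups they normalize.
-/

set_option autoImplicit false
set_option linter.style.longLine false

namespace Cfsg.Agent.FFNatural

open Cfsg.Lib.Offender

variable {p : ℕ} {P V : Type*} [Group P] [AddCommGroup V] [Module (ZMod p) V]

theorem fixed_comp (f : Representation (ZMod p) P V) (L : Subgroup P) (B : Subgroup ↥L) :
    fixed (f.comp L.subtype : Representation (ZMod p) ↥L V) B = fixed f (B.map L.subtype) := by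
  refine SetLike.ext fun v => ?_
  rw [mem_fixed, mem_fixed]
  constructor
  · rintro h _ ⟨b, hb, rfl⟩
    exact h b hb
  · intro h b hb
    exact h _ ⟨b, hb, rfl⟩

/-- The natural `SL₂`-subgroup belonging to an offender. -/
structure NatSL2 (f : Representation (ZMod p) P V) (q : ℕ) (A L : Subgroup P) : Prop where
  le : A ≤ L
  move : ∀ a ∈ A, ∀ v, f a v - v ∈ fixed f A
  sl2 : ∃ (E : Type) (_ : Field E) (_ : Fintype E), Fintype.card E = q ∧
    ∃ (ρ : ↥L ≃* Matrix.SpecialLinearGroup (Fin 2) E) (ψ : V →+ (Fin 2 → E)),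
      Function.Surjective ψ ∧ (∀ v, ψ v = 0 ↔ v ∈ fixed f L) ∧
      (∀ (g : ↥L) v, ψ (f g v) = ((ρ g : Matrix.SpecialLinearGroup (Fin 2) E) : Matrix (Fin 2) (Fin 2) E).mulVec (ψ v)) ∧
      (∀ g : ↥L, (g : P) ∈ A → ∃ c, ρ g = Classical.GL2.uniSL c) ∧
      ∀ v, v ∈ fixed f A ↔ ψ v 1 = 0

namespace NatSL2

variable {f : Representation (ZMod p) P V} {q : ℕ} {A L : Subgroup P} (h : NatSL2 f q A L)
include h

theorem fixed_le : fixed f L ≤ fixed f A := fixed_anti h.le

theorem free {a : P} (ha : a ∈ A) (ha1 : a ≠ 1) {v : V} (hv : f a v - v ∈ fixed f L) :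
    v ∈ fixed f A := by
  obtain ⟨E, iE, iEt, -, ρ, ψ, -, hk, hψ, hA, hX⟩ := h.sl2
  obtain ⟨c, hc⟩ := hA ⟨a, h.le ha⟩ ha
  have hc0 : c ≠ 0 := by
    intro e
    rw [e, Classical.GL2.uniSL_zero, ← map_one ρ] at hc
    exact ha1 (congrArg Subtype.val (ρ.injective hc))
  have h1 := (hk _).2 hv
  rw [map_sub, sub_eq_zero, hψ ⟨a, h.le ha⟩ v, hc] at h1
  have h2 := congrFun h1 0
  simp [Matrix.mulVec, dotProduct, Fin.sum_univ_two, Classical.GL2.uniSL, hc0] at h2
  exact (hX v).2 h2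

theorem eq_of_fix {a : P} (ha : a ∈ A) {v : V} (hv : v ∉ fixed f A) (e : f a v = v) : a = 1 := by
  by_contra ha1
  exact hv (h.free ha ha1 (by rw [e, sub_self]; exact zero_mem _))

theorem cardX [Finite V] : Nat.card ↥(fixed f A) = q * Nat.card ↥(fixed f L) := by
  obtain ⟨E, iE, iEt, hE, ρ, ψ, hs, hk, hψ, hA, hX⟩ := h.sl2
  let φ : ↥(fixed f A) →+ E := AddMonoidHom.mk' (fun v => ψ (v : V) 0) fun v w => by
    rw [Submodule.coe_add, map_add]; rfl
  have hsurj : Function.Surjective φ := fun c => by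
    obtain ⟨v, hv⟩ := hs ![c, 0]
    exact ⟨⟨v, (hX v).2 (by rw [hv]; rfl)⟩, by show ψ v 0 = c; rw [hv]; rfl⟩
  have hker : ∀ v : ↥(fixed f A), v ∈ φ.ker ↔ (v : V) ∈ fixed f L := fun v => by
    rw [AddMonoidHom.mem_ker, ← hk]
    refine ⟨fun e => funext fun i => ?_, fun e => congrFun e 0⟩
    fin_cases i
    · exact e
    · exact (hX v).1 v.2
  have h1 := AddSubgroup.card_eq_card_quotient_mul_card_addSubgroup φ.ker
  rw [Nat.card_congr (QuotientAddGroup.quotientKerEquivOfSurjective φ hsurj).toEquiv,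
    Nat.card_eq_fintype_card (α := E), hE] at h1
  rw [h1]
  congr 1
  exact Nat.card_congr
    { toFun := fun v => ⟨v.1.1, (hker v.1).1 v.2⟩
      invFun := fun w => ⟨⟨w.1, h.fixed_le w.2⟩, (hker ⟨w.1, h.fixed_le w.2⟩).2 w.2⟩
      left_inv := fun v => rfl
      right_inv := fun w => rfl }

theorem cardV [Finite V] : Nat.card V = q * Nat.card ↥(fixed f A) := by
  obtain ⟨E, iE, iEt, hE, ρ, ψ, hs, hk, hψ, hA, hX⟩ := h.sl2
  let φ : V →+ E := AddMonoidHom.mk' (fun v => ψ v 1) fun v w => by rw [map_add]; rfl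
  have hsurj : Function.Surjective φ := fun c => by
    obtain ⟨v, hv⟩ := hs ![0, c]
    exact ⟨v, by show ψ v 1 = c; rw [hv]; rfl⟩
  have h1 := AddSubgroup.card_eq_card_quotient_mul_card_addSubgroup φ.ker
  rw [Nat.card_congr (QuotientAddGroup.quotientKerEquivOfSurjective φ hsurj).toEquiv,
    Nat.card_eq_fintype_card (α := E), hE] at h1
  rw [h1]
  congr 1
  exact Nat.card_congr (Equiv.subtypeEquivRight fun v => (hX v).symm)

theorem irr {Y : Submodule (ZMod p) V} (hY : ∀ g ∈ L, ∀ v ∈ Y, f g v ∈ Y)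
    (hne : ¬ Y ≤ fixed f L) : Y ⊔ fixed f L = ⊤ := by
  obtain ⟨E, iE, iEt, hE, ρ, ψ, hs, hk, hψ, hA, hX⟩ := h.sl2
  let I : AddSubgroup (Fin 2 → E) := (Y.toAddSubgroup).map ψ
  have hinv : ∀ (N : Matrix.SpecialLinearGroup (Fin 2) E), ∀ w ∈ I,
      (N : Matrix (Fin 2) (Fin 2) E).mulVec w ∈ I := by
    rintro N _ ⟨v, hv, rfl⟩
    exact ⟨_, hY _ (ρ.symm N).2 v hv, by rw [hψ, ρ.apply_symm_apply]⟩
  obtain ⟨v, hv, hvW⟩ := SetLike.not_le_iff_exists.1 hne
  have hw : ψ v ∈ I := ⟨v, hv, rfl⟩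
  have hw0 : ψ v ≠ 0 := fun e => hvW ((hk v).1 e)
  have hup : ∀ w ∈ I, ∀ c : E, ![c * w 1, 0] ∈ I := fun w hw c => by
    have := sub_mem (hinv (Classical.GL2.uniSL c) w hw) hw
    convert this using 1
    funext i
    fin_cases i <;> simp [Matrix.mulVec, dotProduct, Fin.sum_univ_two, Classical.GL2.uniSL]
  have hlow : ∀ w ∈ I, ∀ c : E, ![0, c * w 0] ∈ I := fun w hw c => by
    have := sub_mem (hinv (Classical.GL2.lowSL c) w hw) hw
    convert this using 1
    funext i
    fin_cases i <;> simp [Matrix.mulVec, dotProduct, Fin.sum_univ_two, Classical.GL2.lowSL]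
  have h01 : ![(1 : E), 0] ∈ I := by
    by_cases h1 : ψ v 1 = 0
    · have h0 : ψ v 0 ≠ 0 := fun e => hw0 (funext fun i => by fin_cases i <;> assumption)
      simpa [h0] using hup _ (hlow _ hw (ψ v 0)⁻¹) 1
    · simpa [h1] using hup _ hw (ψ v 1)⁻¹
  have hall : ∀ w : Fin 2 → E, w ∈ I := fun w => by
    have a := hlow _ h01 (w 1)
    have b := hup _ (hlow _ h01 1) (w 0)
    convert add_mem b a using 1
    funext i
    fin_cases i <;> simp
  refine eq_top_iff.2 fun u _ => ?_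
  obtain ⟨y, hy, e⟩ := hall (ψ u)
  have : u - y ∈ fixed f L := (hk _).1 (by rw [map_sub, e, sub_self])
  simpa using add_mem (Submodule.mem_sup_left (T := fixed f L) hy) (Submodule.mem_sup_right this)

end NatSL2

variable {f : Representation (ZMod p) P V} {q : ℕ}

/-- The invariant-vector stabilizer. -/
def spaceStab (f : Representation (ZMod p) P V) (Z : Submodule (ZMod p) V) : Subgroup P :=
  ⨅ z : Z, vecStab f (z : V)

theorem mem_spaceStab {Z : Submodule (ZMod p) V} {g : P} :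
    g ∈ spaceStab f Z ↔ ∀ z ∈ Z, f g z = z := by
  rw [spaceStab, Subgroup.mem_iInf]
  exact ⟨fun h z hz => h ⟨z, hz⟩, fun h z => h z z.2⟩

/-- A `p`-group fixes a nonzero functional on a nonzero module. -/
theorem exists_functional [Fact p.Prime] [Finite V] {S : Subgroup P} (hS : IsPGroup p S)
    {U : Submodule (ZMod p) V} (hne : U ≠ ⊥) (hinv : ∀ g ∈ S, ∀ u ∈ U, f g u ∈ U) :
    ∃ φ : ↥U →ₗ[ZMod p] ZMod p, φ ≠ 0 ∧ ∀ (g : P) (hg : g ∈ S) (u : ↥U), φ ⟨f g u, hinv g hg u u.2⟩ = φ u := by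
  let r : S → (↥U →ₗ[ZMod p] ↥U) := fun s => (f (s : P)).restrict (hinv s s.2)
  letI : MulAction S (Module.Dual (ZMod p) ↥U) :=
    { smul := fun s φ => φ.comp (r s⁻¹)
      one_smul := fun φ => by
        refine LinearMap.ext fun u => congrArg φ (Subtype.ext ?_)
        show f ((1 : S)⁻¹ : S).1 (u : V) = u
        simp
      mul_smul := fun s t φ => by
        refine LinearMap.ext fun u => congrArg φ (Subtype.ext ?_)
        show f ((s * t)⁻¹ : S).1 (u : V) = f (t⁻¹ : S).1 (f (s⁻¹ : S).1 u)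
        rw [← mul_app]
        simp }
  have hfin : Finite (Module.Dual (ZMod p) ↥U) := Finite.of_injective (fun φ => (φ : ↥U → ZMod p)) DFunLike.coe_injective
  have : Nontrivial ↥U := Submodule.nontrivial_iff_ne_bot.2 hne
  have hdvd : p ∣ Nat.card (Module.Dual (ZMod p) ↥U) := by
    rw [Module.natCard_eq_pow_finrank (K := ZMod p), Nat.card_zmod]
    refine dvd_pow_self p ?_
    rw [Subspace.dual_finrank_eq]
    exact Module.finrank_pos.ne'
  obtain ⟨φ, hφ, hne0⟩ := hS.exists_fixed_point_of_prime_dvd_card_of_fixed_point _ hdvd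
    (a := 0) (fun s => LinearMap.ext fun u => rfl)
  refine ⟨φ, hne0.symm, fun g hg u => ?_⟩
  have := LinearMap.congr_fun (hφ ⟨g, hg⟩⁻¹) u
  rw [show ((⟨g, hg⟩ : S)⁻¹ • φ) u = φ (r ((⟨g, hg⟩ : S)⁻¹)⁻¹ u) from rfl, inv_inv] at this
  exact this

namespace Frame

variable {T : Sylow p P} {M : Subgroup P} (F : Frame f T M q)
include F

theorem syl_move {S : Subgroup P} (hS : IsSyl (T : Subgroup P) S) : ¬ fixed f S ≤ fixed f ⊤ := by
  obtain ⟨g, rfl⟩ := hS
  intro h
  refine F.move fun v hv => ?_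
  have h1 : f g v ∈ fixed f (⊤ : Subgroup P) := h (by rw [fixed_cg]; exact ⟨v, hv, rfl⟩)
  rw [← map_fixed_top g] at h1
  obtain ⟨w, hw, e⟩ := h1
  exact f_injective g e ▸ hw

/-- A subgroup fixing the fixed space of a Sylow subgroup lies in its conjugate of `M`. -/
theorem le_pt_of_fix [Finite P] {S K X : Subgroup P} (hS : IsSyl (T : Subgroup P) S) (hK : IsPt M K)
    (hSK : S ≤ K) (hX : ∀ x ∈ X, ∀ z ∈ fixed f S, f x z = z) : X ≤ K := by
  refine le_trans (fun x hx => mem_spaceStab.2 (hX x hx) : X ≤ spaceStab f (fixed f S)) ?_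
  refine F.le_pt hS hK hSK (fun s hs => mem_spaceStab.2 fun z hz => hz s hs) fun e => ?_
  exact F.syl_move hS fun z hz g _ => mem_spaceStab.1 (e.ge (Subgroup.mem_top g)) z hz

/-- An invariant submodule, faithful, and equal to its commutator with the group. -/
theorem exists_perfect [Fact p.Prime] [Finite V] :
    ∃ U : Submodule (ZMod p) V, (∀ g : P, ∀ u ∈ U, f g u ∈ U) ∧
      (∀ g, (∀ u ∈ U, f g u = u) → g = 1) ∧
      U = Submodule.span (ZMod p) {x | ∃ g, ∃ u ∈ U, f g u - u = x} := by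
  classical
  obtain ⟨U, ⟨hinv, hfaith⟩, hmin⟩ := Set.exists_min_image
    {U : Submodule (ZMod p) V | (∀ g : P, ∀ u ∈ U, f g u ∈ U) ∧ ∀ g, (∀ u ∈ U, f g u = u) → g = 1}
    (fun U => Nat.card ↥U) (Set.toFinite _)
    ⟨⊤, fun g u _ => trivial, fun g hg => F.inj g (LinearMap.ext fun v => hg v trivial)⟩
  refine ⟨U, hinv, hfaith, ?_⟩
  set U' := Submodule.span (ZMod p) {x | ∃ g, ∃ u ∈ U, f g u - u = x} with hU'
  have hle : U' ≤ U := Submodule.span_le.2 (by
    rintro _ ⟨g, u, hu, rfl⟩; exact sub_mem (hinv g u hu) hu)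
  have hinv' : ∀ g : P, ∀ u ∈ U', f g u ∈ U' := fun g u hu => by
    simpa using add_mem (Submodule.subset_span ⟨g, u, hle hu, rfl⟩ : f g u - u ∈ U') hu
  refine (eq_of_le_of_card hle (hmin U' ⟨hinv', fun g hg => ?_⟩)).symm
  let C : Subgroup P := spaceStab f U'
  have hCn : C.Normal := ⟨fun c hc k => mem_spaceStab.2 fun u hu => by
    rw [mul_app, mul_app, mem_spaceStab.1 hc _ (hinv' _ u hu), app_inv]⟩
  have hCp : IsPGroup p C := fun c => ⟨1, Subtype.ext (by
    rw [pow_one, Subgroup.coe_pow]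
    refine hfaith _ fun u hu => ?_
    have hd : f (c : P) u - u ∈ U' := Submodule.subset_span ⟨c, u, hu, rfl⟩
    have hit : ∀ n : ℕ, f ((c : P) ^ n) u = u + n • (f (c : P) u - u) := by
      intro n
      induction n with
      | zero => simp
      | succ n ih =>
        rw [pow_succ', mul_app, ih, map_add, map_nsmul, mem_spaceStab.1 c.2 _ hd, succ_nsmul]
        abel
    rw [hit, ← Nat.cast_smul_eq_nsmul (ZMod p), ZMod.natCast_self, zero_smul, add_zero])⟩
  have hC := F.core C hCn hCp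
  exact Subgroup.mem_bot.1 (hC ▸ (mem_spaceStab.2 hg : g ∈ C))

theorem strict [Finite P] {A : Subgroup P} (hA : Gen f q A) {B : Subgroup P} (hB : B ≤ A)
    (hne : B ≠ ⊥) (hne' : B ≠ A) :
    Nat.card ↥B * Nat.card ↥(fixed f B) < Nat.card ↥A * Nat.card ↥(fixed f A) := by
  by_contra hc
  have h1 := F.minimal B ⟨hne, fun a ha b hb => hA.off.comm a (hB ha) b (hB hb),
    fun a ha => hA.off.exp a (hB ha), hA.off.bound.trans (not_lt.1 hc)⟩
  exact hne' (Subgroup.eq_of_le_of_card_ge hB (hA.card.le.trans h1))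

/-- The zipper: a natural subgroup centralizing what it normalizes. -/
theorem zipper [Fact p.Prime] [Finite P] [Finite V] {A R K H : Subgroup P} (hA : Gen f q A)
    (hR : IsPGroup p R) (hAR : A ≤ Subgroup.normalizer (R : Set P)) (hK : IsPt M K)
    (hRA : R ⊔ A ≤ K) (huniq : ∀ K', IsPt M K' → R ⊔ A ≤ K' → K' = K)
    (hAH : A ≤ H) (hHR : H ≤ Subgroup.normalizer (R : Set P)) (hHK : ¬ H ≤ K) :
    ∃ L ≤ H, ¬ L ≤ K ∧ NatSL2 f q A L ∧ (∃ x ∈ L, x ∉ K ∧ A ⊔ cg x A = L) ∧
      (∀ r ∈ R, ∀ l ∈ L, r * l = l * r) ∧ (∀ r ∈ R, ∀ v, f r v - v ∈ fixed f L) ∧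
      ∀ r ∈ R, ∀ l ∈ L, ∀ v, f r (f l v - v) = f l v - v := by
  classical
  obtain ⟨L, ⟨hAL, hLH, hLK⟩, hmin⟩ := Set.exists_min_image
    {X : Subgroup P | A ≤ X ∧ X ≤ H ∧ ¬ X ≤ K} (fun X => Nat.card X)
    (Set.toFinite _) ⟨H, hAH, le_rfl, hHK⟩
  have hLR : L ≤ Subgroup.normalizer (R : Set P) := hLH.trans hHR
  have hsub : ∀ X ≤ L, A ≤ X → ¬ X ≤ K → X = L := fun X hX hAX hXK =>
    Subgroup.eq_of_le_of_card_ge hX (hmin X ⟨hAX, hX.trans hLH, hXK⟩)
  have hout : ∀ x ∈ L, x ∉ K → ¬ cg x A ≤ K := by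
    intro x hx hxK hle
    refine hxK (F.mem_of_cg_eq hK ?_)
    have h1 : R ⊔ A ≤ cg x⁻¹ K := by
      refine le_of_cg (g := x) ?_
      rw [inv_cg, cg_sup, cg_eq_iff.2 (hLR hx)]
      exact sup_le (le_sup_left.trans hRA) hle
    have h2 := huniq _ (hK.conj x⁻¹) h1
    conv_lhs => rw [← h2]
    rw [inv_cg]
  have hgen : ∀ x ∈ L, x ∉ K → A ⊔ cg x A = L := fun x hx hxK =>
    hsub _ (sup_le hAL (cg_le_of_mem hx hAL)) le_sup_left fun h => hout x hx hxK (le_sup_right.trans h)
  set A₁ := A.subgroupOf L with hA₁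
  have hA₁m : A₁.map L.subtype = A := Subgroup.map_subgroupOf_eq_of_le hAL
  set M₁ := K.subgroupOf L with hM₁
  have hA₁p : IsPGroup p A₁ := hA.off.isPGroup.comap_of_injective L.subtype Subtype.val_injective
  obtain ⟨TL, hTL⟩ := hA₁p.exists_le_sylow
  set TL' := (TL : Subgroup ↥L).map L.subtype with hTL'
  have hTLR : TL' ≤ Subgroup.normalizer (R : Set P) := (Subgroup.map_subtype_le _).trans hLR
  have hTRp : IsPGroup p ↥(TL' ⊔ R : Subgroup P) :=
    (TL.isPGroup'.map _).to_sup_of_normal_right' hR hTLR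
  have hATL : A ≤ TL' := hA₁m ▸ Subgroup.map_mono hTL
  obtain ⟨S, K', hS, hK', hTS, hSK'⟩ := F.exists_syl hTRp
  have hKK : K' = K := huniq K' hK' (sup_le (le_sup_right.trans (hTS.trans hSK'))
    (hATL.trans (le_sup_left.trans (hTS.trans hSK'))))
  subst hKK
  have hTLM : (TL : Subgroup ↥L) ≤ M₁ := fun g hg =>
    hSK' (hTS (Subgroup.mem_sup_left ⟨g, hg, rfl⟩))
  have hAM : ∀ {a : P}, a ∈ A → a ∈ K' := fun ha => hRA (Subgroup.mem_sup_right ha)
  have hco : IsCoatom M₁ := by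
    refine ⟨fun e => hLK (Subgroup.subgroupOf_eq_top.1 e), fun Y hY => ?_⟩
    obtain ⟨x, hxY, hx⟩ := SetLike.exists_of_lt hY
    have h1 : Y.map L.subtype = L := by
      refine hsub _ (Subgroup.map_subtype_le _) ?_ fun hle => hx (hle ⟨x, hxY, rfl⟩)
      exact hATL.trans (Subgroup.map_mono (hTLM.trans hY.le))
    exact Subgroup.map_injective (f := L.subtype) Subtype.val_injective
      (h1.trans (by rw [← MonoidHom.range_eq_map, Subgroup.range_subtype]))
  let f₁ : Representation (ZMod p) ↥L V := f.comp L.subtype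
  have hfix : ∀ B : Subgroup ↥L, fixed f₁ B = fixed f (B.map L.subtype) := fixed_comp f L
  have htop : (⊤ : Subgroup ↥L).map L.subtype = L := by
    rw [← MonoidHom.range_eq_map, Subgroup.range_subtype]
  have hcm : ∀ B : Subgroup ↥L, Nat.card ↥(B.map L.subtype) = Nat.card ↥B := fun B =>
    Subgroup.card_map_of_injective Subtype.val_injective
  have hcA : Nat.card ↥A₁ = Nat.card ↥A := by rw [← hcm, hA₁m]
  have hz : ¬ fixed f S ≤ fixed f L := fun hle =>
    hLK (F.le_pt_of_fix hS hK' hSK' fun l hl z hz => hle hz l hl)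
  have hset : Setting f₁ TL M₁ A₁ :=
    { inj := fun g hg => Subtype.ext (F.inj _ hg)
      coatom := hco
      le := hTLM
      uniq := fun Y hY hTY => by
        by_contra hne
        have hnle : ¬ Y ≤ M₁ := fun hle => hne ((hY.le_iff.1 hle).resolve_left hco.1).symm
        obtain ⟨x, hxY, hx⟩ := SetLike.not_le_iff_exists.1 hnle
        have h1 : Y.map L.subtype = L := hsub _ (Subgroup.map_subtype_le _)
          (hATL.trans (Subgroup.map_mono hTY)) fun hle => hx (hle ⟨x, hxY, rfl⟩)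
        exact hY.1 (Subgroup.map_injective (f := L.subtype) Subtype.val_injective (h1.trans htop.symm))
      sub := hTL
      comm := fun a ha b hb => Subtype.ext (hA.off.comm a ha b hb)
      exp := fun a ha => Subtype.ext (by rw [Subgroup.coe_pow]; exact hA.off.exp a ha)
      off := by rw [hcA, hfix, hA₁m]; exact hA.off.bound
      strict := fun B hB hne hne' => by
        rw [hcA, hfix, hfix, hA₁m, ← hcm B]
        refine F.strict hA (hA₁m ▸ Subgroup.map_mono hB) (fun e => hne ?_) (fun e => hne' ?_)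
        · exact Subgroup.map_injective (f := L.subtype) Subtype.val_injective (e.trans (Subgroup.map_bot _).symm)
        · exact Subgroup.map_injective (f := L.subtype) Subtype.val_injective (e.trans hA₁m.symm)
      move := by
        rw [hfix, hfix, htop]
        exact fun hle => hz ((fixed_anti (le_sup_left.trans hTS)).trans hle)
      gen := fun x hx => by
        apply Subgroup.map_injective (f := L.subtype) Subtype.val_injective
        rw [Subgroup.map_sup, Subgroup.map_map, htop,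
          show L.subtype.comp (MulAut.conj x).toMonoidHom = (MulAut.conj (x : P)).toMonoidHom.comp L.subtype
            from rfl, ← Subgroup.map_map, hA₁m]
        exact hgen x x.2 hx }
  obtain ⟨-, E, iE, iEt, hE, ρ, ψ, hs, hk, hψ, hρA, hψX⟩ := hset.natural
  have hnat : NatSL2 f q A L :=
    { le := hAL
      move := fun a ha v => by
        have := hset.sub_mem_fixed (show (⟨a, hAL ha⟩ : ↥L) ∈ A₁ from ha) v
        rwa [hfix, hA₁m] at this
      sl2 := ⟨E, iE, iEt, hE.trans (hcA.trans hA.card), ρ, ψ, hs, fun v => by rw [hk, hfix, htop],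
        hψ, fun g hg => hρA g hg, fun v => by rw [← hψX, hfix, hA₁m]⟩ }
  obtain ⟨x, hx, hxK⟩ := SetLike.not_le_iff_exists.1 hLK
  refine ⟨L, hLH, hLK, hnat, ⟨x, hx, hxK, hgen x hx hxK⟩, ?_⟩
  -- the fixed space of `R`
  have hFinv : ∀ g ∈ L, ∀ v ∈ fixed f R, f g v ∈ fixed f R := fun g hg v hv r hr => by
    have h1 := hv (g⁻¹ * r * g) ((Subgroup.mem_normalizer_iff'').1 (hLR hg) r |>.1 hr)
    rw [mul_app, mul_app] at h1
    exact f_injective g⁻¹ (h1.trans (inv_app g v).symm)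
  have hFW : fixed f R ⊔ fixed f L = ⊤ :=
    hnat.irr hFinv fun hle => hz ((fixed_anti (le_sup_right.trans hTS)).trans hle)
  have hLF : ∀ r ∈ R, ∀ l ∈ L, ∀ v, f r (f l v - v) = f l v - v := by
    intro r hr l hl v
    obtain ⟨u, hu, w, hw, rfl⟩ := Submodule.mem_sup.1 (hFW.ge (Submodule.mem_top (x := v)))
    have e : f l (u + w) - (u + w) = f l u - u := by rw [map_add, hw l hl]; abel
    rw [e, map_sub, hFinv l hl u hu r hr, hu r hr]
  obtain ⟨U, hUinv, hUf, hUspan⟩ := F.exists_perfect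
  set J := Submodule.span (ZMod p) {x | ∃ r ∈ R, ∃ u ∈ U, f r u - u = x} with hJ
  have hJU : J ≤ U := Submodule.span_le.2 (by
    rintro _ ⟨r, -, u, hu, rfl⟩; exact sub_mem (hUinv r u hu) hu)
  have hJinv : ∀ g ∈ L, ∀ v ∈ J, f g v ∈ J := by
    intro g hg v hv
    induction hv using Submodule.span_induction with
    | mem v hv =>
      obtain ⟨r, hr, u, hu, rfl⟩ := hv
      refine Submodule.subset_span ⟨g * r * g⁻¹, (Subgroup.mem_normalizer_iff.1 (hLR hg) r).1 hr,
        f g u, hUinv g u hu, ?_⟩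
      rw [mul_app, mul_app, inv_app, map_sub]
    | zero => rw [map_zero]; exact zero_mem _
    | add u w _ _ hu hw => rw [map_add]; exact add_mem hu hw
    | smul c u _ hu => rw [map_smul]; exact Submodule.smul_mem _ c hu
  have hU0 : U ≠ ⊥ := fun e => by
    obtain ⟨a, ha, ha1⟩ := A.bot_or_exists_ne_one.resolve_left hA.off.ne_bot
    exact ha1 (hUf a fun u hu => by rw [e] at hu; rw [(Submodule.mem_bot _).1 hu, map_zero])
  obtain ⟨φ, hφ0, hφ⟩ := exists_functional (f := f) (F.syl_isPGroup hS) hU0 fun g _ u hu => hUinv g u hu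
  set Hp := (LinearMap.ker φ).map U.subtype with hHp
  have hHpU : Hp ≤ U := Submodule.map_subtype_le _ _
  have hmove : ∃ l ∈ L, ∃ u ∈ U, f l u - u ∉ Hp := by
    by_contra hall
    push Not at hall
    let C : Subgroup P :=
      { carrier := {g | ∀ u ∈ U, f g u - u ∈ Hp}
        one_mem' := fun u _ => by simp
        mul_mem' := fun {g k} hg hk u hu => by
          have e : f (g * k) u - u = (f g (f k u) - f k u) + (f k u - u) := by rw [mul_app]; abel
          rw [e]
          exact add_mem (hg _ (hUinv k u hu)) (hk u hu)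
        inv_mem' := fun {g} hg u hu => by
          have := hg (f g⁻¹ u) (hUinv _ u hu)
          rw [app_inv] at this
          simpa using neg_mem this }
    have hSC : S ≤ C := fun s hs u hu =>
      ⟨⟨f s u, hUinv s u hu⟩ - ⟨u, hu⟩, by simp [hφ s hs ⟨u, hu⟩], rfl⟩
    refine hLK (le_trans (show L ≤ C from hall) (F.le_pt hS hK' hSK' hSC fun e => ?_))
    have h1 : U ≤ Hp := hUspan.le.trans (Submodule.span_le.2 (by
      rintro _ ⟨g, u, hu, rfl⟩; exact e.ge (Subgroup.mem_top g) u hu))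
    refine hφ0 (LinearMap.ext fun u => ?_)
    obtain ⟨w, hw, e'⟩ := h1 u.2
    rw [← show w = u from Subtype.ext e']
    exact LinearMap.mem_ker.1 hw
  have hJW : J ≤ fixed f L := by
    by_contra hne
    obtain ⟨l, hl, u, hu, hnot⟩ := hmove
    obtain ⟨j, hj, w, hw, rfl⟩ := Submodule.mem_sup.1 ((hnat.irr hJinv hne).ge (Submodule.mem_top (x := u)))
    refine hnot ?_
    have e : f l (j + w) - (j + w) = f l j - j := by rw [map_add, hw l hl]; abel
    rw [e]
    have hmem : f l j - j ∈ J := sub_mem (hJinv l hl j hj) hj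
    refine Submodule.span_le.2 ?_ hmem
    rintro _ ⟨r, hr, v, hv, rfl⟩
    exact ⟨⟨f r v, hUinv r v hv⟩ - ⟨v, hv⟩,
      by simp [hφ r (hTS (Subgroup.mem_sup_right hr)) ⟨v, hv⟩], rfl⟩
  have hcomm : ∀ r ∈ R, ∀ l ∈ L, r * l = l * r := by
    intro r hr l hl
    refine inv_mul_eq_one.1 (hUf _ fun u hu => ?_)
    have h1 : f r u - u ∈ fixed f L := hJW (Submodule.subset_span ⟨r, hr, u, hu, rfl⟩)
    have h2 : f r (f l u) = f l (f r u) := by
      have e1 : f r (f l u) = f r u + (f l u - u) := by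
        conv_lhs => rw [show f l u = u + (f l u - u) by abel]
        rw [map_add, hLF r hr l hl u]
      have e2 : f l (f r u) = f l u + (f r u - u) := by
        conv_lhs => rw [show f r u = u + (f r u - u) by abel]
        rw [map_add, h1 l hl]
      rw [e1, e2]; abel
    rw [mul_app, mul_app, ← h2, ← mul_app r l u, inv_app]
  refine ⟨hcomm, fun r hr v l hl => ?_, hLF⟩
  have h1 := hLF r hr l hl v
  rw [map_sub, ← mul_app, hcomm r hr l hl, mul_app] at h1
  rw [map_sub, sub_eq_sub_iff_sub_eq_sub]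
  exact h1

end Frame

end Cfsg.Agent.FFNatural
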