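import Mathlib
import Cfsg.Agent.Lib.PLocal.Natural.Zipper

/-!
Maximal subgroups generated by offenders inside two conjugates of `M`: each conjugate over such a
subgroup carries a single offender outside it, and the offenders of a Sylow subgroup are orthogonal.
-/

set_option autoImplicit false
set_option linter.style.longLine false
set_option linter.unusedSectionVars false

namespace Cfsg.Agent.FFNatural

open Cfsg.Lib.Offender

variable {p : ℕ} {P V : Type*} [Group P] [AddCommGroup V] [Module (ZMod p) V]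
variable {f : Representation (ZMod p) P V} {q : ℕ}

/-- Generated by offenders of minimal order and inside two conjugates of `M`. -/
structure InTwo (f : Representation (ZMod p) P V) (q : ℕ) (M R : Subgroup P) : Prop where
  eq : R = genJoin f q R
  pgroup : IsPGroup p R
  two : ∃ K K', IsPt M K ∧ IsPt M K' ∧ R ≤ K ∧ R ≤ K' ∧ K ≠ K'

/-- Maximal such. -/
structure MaxTwo (f : Representation (ZMod p) P V) (q : ℕ) (M R : Subgroup P) : Prop where
  inTwo : InTwo f q M R
  max : ∀ R', InTwo f q M R' → R ≤ R' → R' ≤ R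

/-- An offender of minimal order over `R`. -/
structure Out (f : Representation (ZMod p) P V) (q : ℕ) (R A : Subgroup P) : Prop where
  gen : Gen f q A
  norm : A ≤ Subgroup.normalizer (R : Set P)
  not_le : ¬ A ≤ R

theorem Out.conj [Finite P] {R A : Subgroup P} (h : Out f q R A) {g : P}
    (hg : g ∈ Subgroup.normalizer (R : Set P)) : Out f q R (cg g A) := by
  refine ⟨h.gen.conj g, cg_le_of_mem hg h.norm, fun hle => h.not_le (le_of_cg (g := g) ?_)⟩
  rwa [cg_eq_iff.2 hg]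

namespace Frame

variable {T : Sylow p P} {M : Subgroup P} (F : Frame f T M q) [Fact p.Prime] [Finite P]
include F

theorem exists_inTwo_bot : InTwo f q M (⊥ : Subgroup P) := by
  refine ⟨le_antisymm bot_le (genJoin_le _), IsPGroup.of_bot, ?_⟩
  obtain ⟨g, hg⟩ : ∃ g : P, cg g M ≠ M := by
    by_contra h
    push Not at h
    exact F.not_normal (Subgroup.normalizer_eq_top_iff.1 (top_le_iff.1 fun g _ => cg_eq_iff.1 (h g)))
  exact ⟨cg g M, M, ⟨g, rfl⟩, ⟨1, cg_one M⟩, bot_le, bot_le, hg⟩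

variable {R : Subgroup P} (hR : MaxTwo f q M R)
include hR

theorem out_pgroup {A : Subgroup P} (hA : Out f q R A) : IsPGroup p ↥(R ⊔ A : Subgroup P) :=
  hR.inTwo.pgroup.to_sup_of_normal_left' hA.gen.off.isPGroup hA.norm

theorem out_eq_genJoin {A : Subgroup P} (hA : Gen f q A) : R ⊔ A = genJoin f q (R ⊔ A) :=
  le_antisymm (sup_le (hR.inTwo.eq.le.trans (genJoin_mono le_sup_left)) (le_genJoin hA le_sup_right))
    (genJoin_le _)

theorem out_unique {A K K' : Subgroup P} (hA : Out f q R A) (hK : IsPt M K) (h : R ⊔ A ≤ K)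
    (hK' : IsPt M K') (h' : R ⊔ A ≤ K') : K' = K := by
  by_contra hne
  exact hA.not_le (le_sup_right.trans
    (hR.max _ ⟨F.out_eq_genJoin hR hA.gen, F.out_pgroup hR hA, K', K, hK', hK, h', h, hne⟩ le_sup_left))

theorem exists_out_in {S K : Subgroup P} (hS : IsSyl (T : Subgroup P) S) (hK : IsPt M K) (hRS : R ≤ S)
    (hSK : S ≤ K) : ∃ A, Out f q R A ∧ A ≤ S := by
  obtain ⟨A, hA, hAD, hAN, hAR⟩ := exists_normalizing (f := f) (q := q)
    ((F.syl_isPGroup hS).to_le (genJoin_le S)) (genJoin_idem S).symm hR.inTwo.eq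
    (hR.inTwo.eq.le.trans (genJoin_mono hRS)) (fun e => by
      obtain ⟨K₁, K₂, hK₁, hK₂, h1, h2, hne⟩ := hR.inTwo.two
      exact hne ((F.join_unique hS hK hSK hK₁ (e ▸ h1)).trans (F.join_unique hS hK hSK hK₂ (e ▸ h2)).symm))
  exact ⟨A, ⟨hA, hAN, hAR⟩, hAD.trans (genJoin_le S)⟩

theorem exists_out {K : Subgroup P} (hK : IsPt M K) (hRK : R ≤ K) :
    ∃ A, Out f q R A ∧ R ⊔ A ≤ K := by
  obtain ⟨S, hS, hRS, hSK⟩ := F.exists_syl_in hR.inTwo.pgroup hK hRK
  obtain ⟨A, hA, hAS⟩ := F.exists_out_in hR hS hK hRS hSK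
  exact ⟨A, hA, sup_le hRK (hAS.trans hSK)⟩

theorem exists_other (K : Subgroup P) : ∃ K', IsPt M K' ∧ R ≤ K' ∧ K' ≠ K := by
  obtain ⟨K₁, K₂, hK₁, hK₂, h1, h2, hne⟩ := hR.inTwo.two
  by_cases e : K₁ = K
  · exact ⟨K₂, hK₂, h2, fun e' => hne (e.trans e'.symm)⟩
  · exact ⟨K₁, hK₁, h1, e⟩

theorem out_natural [Finite V] {A K : Subgroup P} (hA : Out f q R A) (hK : IsPt M K) (h : R ⊔ A ≤ K) :
    ∃ L, L ≤ Subgroup.normalizer (R : Set P) ∧ ¬ L ≤ K ∧ NatSL2 f q A L ∧ (∃ x ∈ L, x ∉ K ∧ A ⊔ cg x A = L) ∧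
      (∀ r ∈ R, ∀ l ∈ L, r * l = l * r) ∧ (∀ r ∈ R, ∀ v, f r v - v ∈ fixed f L) ∧
      ∀ r ∈ R, ∀ l ∈ L, ∀ v, f r (f l v - v) = f l v - v := by
  refine F.zipper hA.gen hR.inTwo.pgroup hA.norm hK h
    (fun K' hK' h' => F.out_unique hR hA hK h hK' h') hA.norm le_rfl fun hle => ?_
  obtain ⟨K', hK', hRK', hne⟩ := F.exists_other hR K
  obtain ⟨C, hC, hCK'⟩ := F.exists_out hR hK' hRK'
  exact hne (F.out_unique hR hC hK (sup_le (le_sup_left.trans h) (hC.norm.trans hle)) hK' hCK')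

theorem exists_pt {A : Subgroup P} (hA : Out f q R A) : ∃ K, IsPt M K ∧ R ⊔ A ≤ K := by
  obtain ⟨S, K, -, hK, h1, h2⟩ := F.exists_syl (F.out_pgroup hR hA)
  exact ⟨K, hK, h1.trans h2⟩

theorem out_facts [Finite V] {A : Subgroup P} (hA : Out f q R A) :
    Nat.card V = q * Nat.card ↥(fixed f A) ∧ (∀ a ∈ A, ∀ v, f a v - v ∈ fixed f A) ∧
    (∀ a ∈ A, ∀ v ∉ fixed f A, f a v = v → a = 1) ∧ (∀ r ∈ R, ∀ a ∈ A, r * a = a * r) := by
  obtain ⟨K, hK, h⟩ := F.exists_pt hR hA
  obtain ⟨L, -, -, hn, -, hc, -, -⟩ := F.out_natural hR hA hK h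
  exact ⟨hn.cardV, hn.move, fun a ha v hv e => hn.eq_of_fix ha hv e, fun r hr a ha => hc r hr a (hn.le ha)⟩

theorem pair [Finite V] {A K C K' : Subgroup P} (hA : Out f q R A) (hK : IsPt M K) (hAK : R ⊔ A ≤ K)
    (hC : Out f q R C) (hK' : IsPt M K') (hCK : R ⊔ C ≤ K') (hne : K ≠ K') :
    (∃ L, NatSL2 f q A L ∧ L ≤ A ⊔ C ∧ fixed f L = fixed f A ⊓ fixed f C) ∧
    (∀ a ∈ A, a ≠ 1 → ∀ v, f a v - v ∈ fixed f C → v ∈ fixed f A) ∧
    fixed f A ⊔ fixed f C = ⊤ := by
  obtain ⟨L, hLH, -, hn, -, -, -, -⟩ := F.zipper hA.gen hR.inTwo.pgroup hA.norm hK hAK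
    (fun K'' hK'' h'' => F.out_unique hR hA hK hAK hK'' h'') (le_sup_left : A ≤ A ⊔ C)
    (sup_le hA.norm hC.norm) fun hle => hne
      (F.out_unique hR hC hK (sup_le (le_sup_left.trans hAK) (le_sup_right.trans hle)) hK' hCK).symm
  have hsub : fixed f A ⊓ fixed f C ≤ fixed f L := fun v hv =>
    fixed_anti hLH (mem_fixed_sup hv.1 hv.2)
  have hcC : Nat.card ↥(fixed f C) = Nat.card ↥(fixed f A) :=
    Nat.eq_of_mul_eq_mul_left (hA.gen.card ▸ (Nat.card_pos : 0 < Nat.card ↥A))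
      ((F.out_facts hR hC).1.symm.trans hn.cardV)
  have h1 := card_sup_inf (fixed f A) (fixed f C)
  rw [hcC] at h1
  have h2 : Nat.card ↥(fixed f A ⊔ fixed f C) ≤ Nat.card V := Nat.card_le_card_of_injective _ Subtype.val_injective
  have hX0 : 0 < Nat.card ↥(fixed f A) := Nat.card_pos
  have hWle : Nat.card ↥(fixed f L) ≤ Nat.card ↥(fixed f A ⊓ fixed f C) := by
    refine Nat.le_of_mul_le_mul_left (show q * Nat.card ↥(fixed f A) * Nat.card ↥(fixed f L) ≤
      q * Nat.card ↥(fixed f A) * Nat.card ↥(fixed f A ⊓ fixed f C) from ?_)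
      (Nat.mul_pos (hA.gen.card ▸ Nat.card_pos) hX0)
    calc q * Nat.card ↥(fixed f A) * Nat.card ↥(fixed f L)
        = Nat.card ↥(fixed f A) * Nat.card ↥(fixed f A) := by
          conv_rhs => rw [hn.cardX]
          rw [hn.cardX]; ring
      _ = _ := h1.symm
      _ ≤ q * Nat.card ↥(fixed f A) * Nat.card ↥(fixed f A ⊓ fixed f C) := by
          rw [← hn.cardV]; exact Nat.mul_le_mul_right _ h2
  have heq : fixed f A ⊓ fixed f C = fixed f L := eq_of_le_of_card hsub hWle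
  refine ⟨⟨L, hn, hLH, heq.symm⟩, fun a ha ha1 v hv => hn.free ha ha1 (heq ▸ ⟨hn.move a ha v, hv⟩), ?_⟩
  refine eq_of_le_of_card le_top ?_
  rw [Nat.card_congr (Submodule.topEquiv (R := ZMod p) (M := V)).toEquiv]
  refine Nat.le_of_mul_le_mul_right ?_ (Nat.card_pos (α := ↥(fixed f L)))
  calc Nat.card V * Nat.card ↥(fixed f L) = Nat.card ↥(fixed f A) * Nat.card ↥(fixed f A) := by
        rw [hn.cardV]
        conv_rhs => rw [hn.cardX]
        rw [hn.cardX]; ring
    _ ≤ _ := (heq ▸ h1).ge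

/-- An offender moves a given other conjugate to every conjugate but its own. -/
theorem exists_trans [Finite V] {A K C K' D K'' : Subgroup P} (hA : Out f q R A) (hK : IsPt M K)
    (hAK : R ⊔ A ≤ K) (hC : Out f q R C) (hK' : IsPt M K') (hCK : R ⊔ C ≤ K') (hne : K ≠ K')
    (hD : Out f q R D) (hK'' : IsPt M K'') (hDK : R ⊔ D ≤ K'') (hne' : K ≠ K'') {c : P} (hc : c ∈ C)
    {v : V} (hv : f c v - v ≠ 0) :
    ∃ a ∈ A, f a (f c v - v) ∈ fixed f D ∧ cg a K' = K'' := by
  classical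
  set n := f c v - v with hn
  have hc1 : c ≠ 1 := fun e => hv (by rw [hn, e, map_one, Module.End.one_apply, sub_self])
  have hnA : n ∉ fixed f A := fun h => hv (by
    have := (F.pair hR hC hK' hCK hA hK hAK hne.symm).2.1 c hc hc1 v h
    rw [hn, this c hc, sub_self])
  obtain ⟨-, hfree, -⟩ := F.pair hR hA hK hAK hD hK'' hDK hne'
  let φ : A → V ⧸ fixed f D := fun a => (fixed f D).mkQ (f (a : P) n)
  have hφ : Function.Injective φ := by
    intro a b e
    have e' : f (a : P) n - f (b : P) n ∈ fixed f D :=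
      (Submodule.Quotient.mk_eq_zero _).1 (by
        show (fixed f D).mkQ _ = 0
        rw [map_sub, sub_eq_zero]; exact e)
    by_contra hab
    refine hnA (hfree ((b : P)⁻¹ * a) (A.mul_mem (A.inv_mem b.2) a.2) ?_ n ?_)
    · exact fun e1 => hab (Subtype.ext (inv_mul_eq_one.1 e1).symm)
    · have h1 : f ((b : P)⁻¹ * a) n - n ∈ fixed f A :=
        (F.out_facts hR hA).2.1 _ (A.mul_mem (A.inv_mem b.2) a.2) n
      have h2 : f (b : P) (f ((b : P)⁻¹ * a) n - n) = f (a : P) n - f (b : P) n := by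
        rw [map_sub, ← mul_app, mul_inv_cancel_left]
      rw [← h1 b b.2, h2]; exact e'
  have hcard : Nat.card (V ⧸ fixed f D) = Nat.card ↥A := by
    have h1 := Submodule.card_eq_card_quotient_mul_card (fixed f D)
    rw [(F.out_facts hR hD).1, ← hA.gen.card] at h1
    exact Nat.eq_of_mul_eq_mul_right Nat.card_pos (by rw [h1]; ring)
  have : Finite (V ⧸ fixed f D) := Finite.of_surjective _ (Submodule.mkQ_surjective _)
  obtain ⟨a, ha⟩ := ((Nat.bijective_iff_injective_and_card φ).2 ⟨hφ, hcard.symm⟩).2 0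
  have haD : f (a : P) n ∈ fixed f D := (Submodule.Quotient.mk_eq_zero _).1 ha
  refine ⟨a, a.2, haD, ?_⟩
  by_contra hne''
  have haN := hA.norm a.2
  have hC' : Out f q R (cg (a : P) C) := hC.conj haN
  have hCK' : R ⊔ cg (a : P) C ≤ cg (a : P) K' := by
    have := cg_mono hCK (a : P)
    rwa [cg_sup, cg_eq_iff.2 haN] at this
  have h3 : f ((a : P) * c * (a : P)⁻¹) (f (a : P) v) - f (a : P) v = f (a : P) n := by
    rw [mul_app, mul_app, inv_app, hn, map_sub]
  have h4 := (F.pair hR hC' (hK'.conj _) hCK' hD hK'' hDK hne'').2.1 ((a : P) * c * (a : P)⁻¹)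
    ⟨c, hc, rfl⟩ (fun e => hc1 (conj_eq_one_iff.1 e)) (f (a : P) v) (by rw [h3]; exact haD)
  refine hv (f_injective (f := f) (a : P) ?_)
  have h5 : f ((a : P) * c * (a : P)⁻¹) (f (a : P) v) = f (a : P) v := h4 _ ⟨c, hc, rfl⟩
  rw [map_zero, ← h3, h5, sub_self]

theorem exists_moved [Finite V] {C : Subgroup P} (hC : Out f q R C) :
    ∃ c ∈ C, ∃ v, f c v - v ≠ 0 := by
  obtain ⟨c, hc, hc1⟩ := C.bot_or_exists_ne_one.resolve_left hC.gen.off.ne_bot
  by_contra hall
  push Not at hall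
  exact hc1 (F.inj c (LinearMap.ext fun v => sub_eq_zero.1 (hall c hc v)))

/-- A `p`-group in two conjugates over `R` commuting with an offender fixes the commutators of a
suitable vector with an offender of the other conjugate. -/
theorem fixes_commutators [Finite V] {A K K' J : Subgroup P} (hA : Out f q R A) (hK : IsPt M K)
    (hAK : R ⊔ A ≤ K) (hK' : IsPt M K') (hRK' : R ≤ K') (hne : K ≠ K') (hJp : IsPGroup p J)
    (hJK : J ≤ K) (hJK' : J ≤ K') (hJN : J ≤ Subgroup.normalizer (R : Set P))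
    (hJA : ∀ u ∈ J, ∀ a ∈ A, u * a = a * u) :
    ∃ C, Out f q R C ∧ R ⊔ C ≤ K' ∧ ∃ z, z ∉ fixed f C ∧
      ∀ u ∈ J, ∀ c ∈ C, f u (f c z - z) = f c z - z := by
  have hRJp : IsPGroup p ↥(R ⊔ J : Subgroup P) := hR.inTwo.pgroup.to_sup_of_normal_left' hJp hJN
  obtain ⟨S', hS', hRJS, hS'K⟩ := F.exists_syl_in hRJp hK' (sup_le hRK' hJK')
  obtain ⟨C, hC, hCS⟩ := F.exists_out_in hR hS' hK' (le_sup_left.trans hRJS) hS'K
  have hCK : R ⊔ C ≤ K' := sup_le hRK' (hCS.trans hS'K)
  refine ⟨C, hC, hCK, ?_⟩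
  -- elements of `J` fix every conjugate over `R`
  have hJpt : ∀ u ∈ J, ∀ K'', IsPt M K'' → R ≤ K'' → cg u K'' = K'' := by
    intro u hu K'' hK'' hR''
    by_cases e : K'' = K
    · rw [e]; exact cg_self (hJK hu)
    obtain ⟨D, hD, hDK⟩ := F.exists_out hR hK'' hR''
    obtain ⟨c, hc, v, hv⟩ := F.exists_moved hR hC
    obtain ⟨a, ha, -, rfl⟩ := F.exists_trans hR hA hK hAK hC hK' hCK hne hD hK'' hDK (fun e' => e e'.symm) hc hv
    rw [cg_cg, hJA u hu a ha, ← cg_cg, cg_self (hJK' hu)]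
  set Γ := genJoin f q S' ⊓ K with hΓ
  have hRΓ : R ≤ Γ := le_inf (hR.inTwo.eq.le.trans (genJoin_mono (le_sup_left.trans hRJS)))
    (le_sup_left.trans hAK)
  have hΓp : IsPGroup p ↥(Γ ⊔ J : Subgroup P) :=
    (F.syl_isPGroup hS').to_le (sup_le (inf_le_left.trans (genJoin_le _)) (le_sup_right.trans hRJS))
  obtain ⟨S'', hS'', hΓS, hS''K⟩ := F.exists_syl_in hΓp hK (sup_le inf_le_right hJK)
  obtain ⟨c₀, hc₀, z, hz, hc₀z⟩ : ∃ c ∈ C, ∃ z ∈ fixed f S'', f c z ≠ z := by
    by_contra hall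
    push Not at hall
    exact hne (F.out_unique hR hC hK (sup_le (le_sup_left.trans hAK)
      (F.le_pt_of_fix hS'' hK hS''K hall)) hK' hCK).symm
  refine ⟨z, fun h => hc₀z (h c₀ hc₀), fun u hu c hc => ?_⟩
  have huz : f u z = z := hz u (hΓS (Subgroup.mem_sup_right hu))
  have hwΓ : c⁻¹ * (u * c * u⁻¹) ∈ Γ := by
    refine ⟨(genJoin f q S').mul_mem ((genJoin f q S').inv_mem (le_genJoin hC.gen hCS hc)) ?_, F.mem_of_cg_eq hK ?_⟩
    · have h1 : cg u (genJoin f q S') = genJoin f q S' := by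
        rw [cg_genJoin, cg_self (hRJS (Subgroup.mem_sup_right hu))]
      exact h1.le ⟨c, le_genJoin hC.gen hCS hc, rfl⟩
    · have h2 : cg u (cg c K) = cg c K := hJpt u hu _ (hK.conj c) (by
        have := cg_mono (le_sup_left.trans hAK : R ≤ K) c
        rwa [cg_eq_iff.2 (hC.norm hc)] at this)
      have h3 : cg (u * c * u⁻¹) K = cg c K := by
        rw [← cg_cg, cg_self (inv_mem (hJK hu)), ← cg_cg, h2]
      rw [← cg_cg, h3, cg_inv]
  have hwz : f (c⁻¹ * (u * c * u⁻¹)) z = z := hz _ (hΓS (Subgroup.mem_sup_left hwΓ))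
  have h4 : f (u * c * u⁻¹) z = f c z := by
    conv_rhs => rw [← hwz]
    rw [← mul_app, mul_inv_cancel_left]
  have huz' : f u⁻¹ z = z := by conv_lhs => rw [← huz, inv_app]
  rw [map_sub, huz]
  rw [mul_app, mul_app, huz'] at h4
  rw [h4]

theorem inter_eq_one [Finite V] {A K K' : Subgroup P} (hA : Out f q R A) (hK : IsPt M K)
    (hAK : R ⊔ A ≤ K) (hK' : IsPt M K') (hRK' : R ≤ K') (hne : K ≠ K') {a : P} (ha : a ∈ A)
    (haK : a ∈ K') : a = 1 := by
  obtain ⟨C, hC, hCK, z, hz, hfix⟩ := F.fixes_commutators hR hA hK hAK hK' hRK' hne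
    (J := Subgroup.zpowers a) (hA.gen.off.isPGroup.to_le (Subgroup.zpowers_le.2 ha))
    (Subgroup.zpowers_le.2 (hAK (Subgroup.mem_sup_right ha))) (Subgroup.zpowers_le.2 haK)
    (Subgroup.zpowers_le.2 (hA.norm ha))
    (fun u hu b hb => hA.gen.off.comm u ((Subgroup.zpowers_le.2 ha) hu) b hb)
  obtain ⟨c, hc, hc1⟩ := C.bot_or_exists_ne_one.resolve_left hC.gen.off.ne_bot
  refine (F.out_facts hR hA).2.2.1 a ha _ (fun h => ?_) (hfix a (Subgroup.mem_zpowers a) c hc)
  exact hz ((F.pair hR hC hK' hCK hA hK hAK hne.symm).2.1 c hc hc1 z h)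

theorem same_pt_le [Finite V] {B C K : Subgroup P} (hB : Out f q R B) (hC : Out f q R C) (hK : IsPt M K)
    (hBK : R ⊔ B ≤ K) (hCK : R ⊔ C ≤ K) {c : P} (hc : c ∈ C) (v : V) :
    f c v - v ∈ fixed f B := by
  by_cases hv : f c v - v = 0
  · rw [hv]; exact zero_mem _
  obtain ⟨K₀, hK₀, hR₀, hne⟩ := F.exists_other hR K
  obtain ⟨A, hA, hAK⟩ := F.exists_out hR hK₀ hR₀
  obtain ⟨a, ha, haD, he⟩ := F.exists_trans hR hA hK₀ hAK hC hK hCK hne hB hK hBK hne hc hv
  rw [F.inter_eq_one hR hA hK₀ hAK hK (le_sup_left.trans hBK) hne ha (F.mem_of_cg_eq hK he), map_one,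
    Module.End.one_apply] at haD
  exact haD

/-- A single offender over `R` in each conjugate. -/
theorem out_eq [Finite V] {A B K : Subgroup P} (hA : Out f q R A) (hB : Out f q R B) (hK : IsPt M K)
    (hAK : R ⊔ A ≤ K) (hBK : R ⊔ B ≤ K) : A = B := by
  classical
  by_contra hne
  have hq : 0 < q := hA.gen.card ▸ Nat.card_pos
  have hnle : ¬ B ≤ A := fun h => hne (Subgroup.eq_of_le_of_card_ge h (hA.gen.card.trans hB.gen.card.symm).le).symm
  have hab : ∀ a ∈ A, ∀ b ∈ B, a * b = b * a := by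
    intro a ha b hb
    refine inv_mul_eq_one.1 (F.inj _ (LinearMap.ext fun v => ?_))
    have h1 := F.same_pt_le hR hB hA hK hBK hAK ha v b hb
    have h2 := F.same_pt_le hR hA hB hK hAK hBK hb v a ha
    have h3 : f a (f b v) = f b (f a v) := by
      have e1 : f a (f b v) = f a v + (f b v - v) := by
        conv_lhs => rw [show f b v = v + (f b v - v) by abel]
        rw [map_add, h2]
      have e2 : f b (f a v) = f b v + (f a v - v) := by
        conv_lhs => rw [show f a v = v + (f a v - v) by abel]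
        rw [map_add, h1]
      rw [e1, e2]; abel
    rw [mul_app, mul_app, ← h3, ← mul_app a b v, inv_app]
    rfl
  let AB : Subgroup P :=
    { carrier := {x | ∃ a ∈ A, ∃ b ∈ B, a * b = x}
      one_mem' := ⟨1, one_mem A, 1, one_mem B, one_mul 1⟩
      mul_mem' := by
        rintro _ _ ⟨a, ha, b, hb, rfl⟩ ⟨a', ha', b', hb', rfl⟩
        refine ⟨a * a', mul_mem ha ha', b * b', mul_mem hb hb', ?_⟩
        calc a * a' * (b * b') = a * (a' * b) * b' := by group
          _ = a * (b * a') * b' := by rw [hab a' ha' b hb]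
          _ = a * b * (a' * b') := by group
      inv_mem' := by
        rintro _ ⟨a, ha, b, hb, rfl⟩
        refine ⟨a⁻¹, inv_mem ha, b⁻¹, inv_mem hb, ?_⟩
        rw [mul_inv_rev]
        exact hab _ (inv_mem ha) _ (inv_mem hb) }
  have hABc : ∀ x ∈ AB, ∀ y ∈ AB, x * y = y * x := by
    rintro _ ⟨a, ha, b, hb, rfl⟩ _ ⟨a', ha', b', hb', rfl⟩
    calc a * b * (a' * b') = a * (b * a') * b' := by group
      _ = a * (a' * b) * b' := by rw [hab a' ha' b hb]
      _ = (a * a') * (b * b') := by group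
      _ = (a' * a) * (b' * b) := by rw [hA.gen.off.comm a ha a' ha', hB.gen.off.comm b hb b' hb']
      _ = a' * (a * b') * b := by group
      _ = a' * (b' * a) * b := by rw [hab a ha b' hb']
      _ = a' * b' * (a * b) := by group
  have hABe : ∀ x ∈ AB, x ^ p = 1 := by
    rintro _ ⟨a, ha, b, hb, rfl⟩
    rw [(show Commute a b from hab a ha b hb).mul_pow, hA.gen.off.exp a ha, hB.gen.off.exp b hb, one_mul]
  have hAle : A ≤ AB := fun a ha => ⟨a, ha, 1, one_mem B, mul_one a⟩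
  have hBle : B ≤ AB := fun b hb => ⟨1, one_mem A, b, hb, one_mul b⟩
  have hABK : AB ≤ K := by
    rintro _ ⟨a, ha, b, hb, rfl⟩
    exact mul_mem (hAK (Subgroup.mem_sup_right ha)) (hBK (Subgroup.mem_sup_right hb))
  have hABN : AB ≤ Subgroup.normalizer (R : Set P) := by
    rintro _ ⟨a, ha, b, hb, rfl⟩
    exact mul_mem (hA.norm ha) (hB.norm hb)
  obtain ⟨K', hK', hRK', hne'⟩ := F.exists_other hR K
  set J := AB ⊓ K' with hJ
  obtain ⟨C, hC, hCK, z, hz, hfix⟩ := F.fixes_commutators hR hA hK hAK hK' hRK' hne'.symm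
    (J := J) (fun x => ⟨1, Subtype.ext (by rw [pow_one, Subgroup.coe_pow, hABe x x.2.1]; rfl)⟩)
    (inf_le_left.trans hABK) inf_le_right (inf_le_left.trans hABN)
    (fun u hu a ha => hABc u hu.1 a (hAle ha))
  -- `AB` is at most `A` times `J`
  have hdec : ∀ x : AB, ∃ a : A, (a : P)⁻¹ * x ∈ J := by
    intro x
    have hR' : R ≤ cg (x : P) K' := by
      have := cg_mono hRK' (x : P)
      rwa [cg_eq_iff.2 (hABN x.2)] at this
    have hne'' : K ≠ cg (x : P) K' := fun e => hne' (by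
      have := congrArg (cg (x : P)⁻¹) e
      rw [cg_inv, cg_self (inv_mem (hABK x.2))] at this
      exact this.symm)
    obtain ⟨D, hD, hDK⟩ := F.exists_out hR (hK'.conj _) hR'
    obtain ⟨c, hc, v, hv⟩ := F.exists_moved hR hC
    obtain ⟨a, ha, -, he⟩ := F.exists_trans hR hA hK hAK hC hK' hCK hne'.symm hD (hK'.conj _) hDK hne'' hc hv
    refine ⟨⟨a, ha⟩, AB.mul_mem (AB.inv_mem (hAle ha)) x.2, F.mem_of_cg_eq hK' ?_⟩
    rw [← cg_cg, ← he, cg_inv]
  choose α hα using hdec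
  have hcard : Nat.card ↥AB ≤ q * Nat.card ↥J := by
    rw [← hA.gen.card, ← Nat.card_prod]
    refine Nat.card_le_card_of_injective (fun x => (α x, (⟨_, hα x⟩ : J))) fun x y e => ?_
    obtain ⟨e1, e2⟩ := Prod.mk.inj e
    have e2' := congrArg Subtype.val e2
    simp only [e1] at e2'
    exact Subtype.ext (mul_left_cancel e2')
  -- the fixed space of `J`
  have hfixJ : Nat.card ↥C * Nat.card ↥(fixed f A ⊓ fixed f B) ≤ Nat.card ↥(fixed f J) := by
    rw [← Nat.card_prod]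
    let φ : ↥C × ↥(fixed f A ⊓ fixed f B) → ↥(fixed f J) := fun x =>
      ⟨(f (x.1 : P) z - z) + x.2, add_mem (fun u hu => hfix u hu x.1 x.1.2) (fun u hu => by
        obtain ⟨⟨a, ha, b, hb, rfl⟩, -⟩ := hu
        rw [mul_app, x.2.2.2 b hb, x.2.2.1 a ha])⟩
    refine Nat.card_le_card_of_injective φ fun x y e => ?_
    have e' : (f (x.1 : P) z - z) + x.2 = (f (y.1 : P) z - z) + y.2 := congrArg Subtype.val e
    have h1 : x.1 = y.1 := by
      by_contra hxy
      have hd : f (x.1 : P) z - f (y.1 : P) z ∈ fixed f A := by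
        have e2 : f (x.1 : P) z - f (y.1 : P) z = (y.2 : V) - x.2 := by
          have := congrArg (fun t => t + (z - (x.2 : V) - f (y.1 : P) z)) e'
          rw [show f (x.1 : P) z - f (y.1 : P) z = (f (x.1 : P) z - z) + x.2 + (z - (x.2 : V) - f (y.1 : P) z) by abel,
            this]
          abel
        rw [e2]; exact sub_mem y.2.2.1 x.2.2.1
      have hm := (F.out_facts hR hC).2.1 _ (C.mul_mem (C.inv_mem y.1.2) x.1.2) z
      have h3 : f (y.1 : P) (f ((y.1 : P)⁻¹ * x.1) z - z) = f (x.1 : P) z - f (y.1 : P) z := by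
        rw [map_sub, ← mul_app, mul_inv_cancel_left]
      rw [hm _ y.1.2] at h3
      exact hz ((F.pair hR hC hK' hCK hA hK hAK hne').2.1 _ (C.mul_mem (C.inv_mem y.1.2) x.1.2)
        (fun e1 => hxy (Subtype.ext (inv_mul_eq_one.1 e1).symm)) z (h3 ▸ hd))
    rw [h1, add_right_inj] at e'
    exact Prod.ext h1 (Subtype.ext e')
  obtain ⟨hVA, -, hfA, -⟩ := F.out_facts hR hA
  obtain ⟨hVB, -, hfB, -⟩ := F.out_facts hR hB
  have hXB : Nat.card ↥(fixed f B) = Nat.card ↥(fixed f A) := Nat.eq_of_mul_eq_mul_left hq (hVB.symm.trans hVA)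
  rcases (A ⊓ B).bot_or_exists_ne_one with hbot | ⟨x, hx, hx1⟩
  · have hAB : q * q ≤ Nat.card ↥AB := by
      conv_lhs => arg 1; rw [← hA.gen.card]
      conv_lhs => arg 2; rw [← hB.gen.card]
      rw [← Nat.card_prod]
      refine Nat.card_le_card_of_injective (fun x => ⟨(x.1 : P) * x.2, _, x.1.2, _, x.2.2, rfl⟩) fun x y e => ?_
      have e' : (x.1 : P) * x.2 = y.1 * y.2 := congrArg Subtype.val e
      have h1 : (y.1 : P)⁻¹ * x.1 = y.2 * (x.2 : P)⁻¹ := by
        rw [eq_mul_inv_iff_mul_eq, mul_assoc, e', inv_mul_cancel_left]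
      have h2 : (y.1 : P)⁻¹ * x.1 ∈ A ⊓ B := ⟨A.mul_mem (A.inv_mem y.1.2) x.1.2, h1 ▸ B.mul_mem y.2.2 (B.inv_mem x.2.2)⟩
      rw [hbot, Subgroup.mem_bot, inv_mul_eq_one] at h2
      rw [h2, mul_right_inj] at e'
      exact Prod.ext (Subtype.ext h2.symm) (Subtype.ext e')
    have hJA : ∀ u ∈ J, u ∈ A → u = 1 := fun u hu huA =>
      F.inter_eq_one hR hA hK hAK hK' hRK' hne'.symm huA hu.2
    have hβ : ∀ u : J, ∃ b : B, ∃ a ∈ A, a * (b : P) = u := fun u => by
      obtain ⟨a, ha, b, hb, e⟩ := u.2.1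
      exact ⟨⟨b, hb⟩, a, ha, e⟩
    choose β hβ using hβ
    have hβi : Function.Injective β := fun u w e => by
      obtain ⟨a, ha, e1⟩ := hβ u
      obtain ⟨a', ha', e2⟩ := hβ w
      rw [e] at e1
      refine Subtype.ext (mul_inv_eq_one.1 (hJA _ (J.mul_mem u.2 (J.inv_mem w.2)) ?_))
      rw [← e1, ← e2, mul_inv_rev, mul_assoc, mul_inv_cancel_left]
      exact A.mul_mem ha (A.inv_mem ha')
    have hJle : Nat.card ↥J ≤ q := hB.gen.card ▸ Nat.card_le_card_of_injective β hβi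
    have hJq : Nat.card ↥J = q := le_antisymm hJle (Nat.le_of_mul_le_mul_left (hAB.trans hcard) hq)
    have hinf : Nat.card ↥(fixed f A) ≤ q * Nat.card ↥(fixed f A ⊓ fixed f B) := by
      refine Nat.le_of_mul_le_mul_left ?_ (Nat.card_pos (α := ↥(fixed f A)))
      calc Nat.card ↥(fixed f A) * Nat.card ↥(fixed f A)
          = Nat.card ↥(fixed f A ⊔ fixed f B) * Nat.card ↥(fixed f A ⊓ fixed f B) := by
            rw [card_sup_inf, hXB]
        _ ≤ Nat.card V * Nat.card ↥(fixed f A ⊓ fixed f B) :=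
            Nat.mul_le_mul_right _ (Nat.card_le_card_of_injective _ Subtype.val_injective)
        _ = _ := by rw [hVA]; ring
    have hJoff : IsOff f J :=
      { ne_bot := fun e => by
          have h2 : 1 < q := hA.gen.card ▸ (Subgroup.one_lt_card_iff_ne_bot A).2 hA.gen.off.ne_bot
          rw [e, Subgroup.card_bot] at hJq
          omega
        comm := fun x hx y hy => hABc x hx.1 y hy.1
        exp := fun x hx => hABe x hx.1
        bound := by
          rw [hVA, hJq]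
          refine Nat.mul_le_mul_left _ (hinf.trans ?_)
          rw [← hC.gen.card]
          exact hfixJ }
    have hJgen : Gen f q J := ⟨hJoff, hJq⟩
    have hJR : J ≤ R := le_sup_right.trans (hR.max (R ⊔ J) ⟨F.out_eq_genJoin hR hJgen,
      hR.inTwo.pgroup.to_sup_of_normal_left' hJoff.isPGroup (inf_le_left.trans hABN),
      K, K', hK, hK', sup_le (le_sup_left.trans hAK) (inf_le_left.trans hABK),
      sup_le hRK' inf_le_right, hne'.symm⟩ le_sup_left)
    have hβs := (Nat.bijective_iff_injective_and_card β).2 ⟨hβi, hJq.trans hB.gen.card.symm⟩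
    refine hB.not_le fun b hb => ?_
    obtain ⟨u, hu⟩ := hβs.2 ⟨b, hb⟩
    obtain ⟨a, ha, e⟩ := hβ u
    rw [hu] at e
    by_cases ha1 : a = 1
    · rw [ha1, one_mul] at e; rw [show b = u from e]; exact hJR u.2
    by_cases hu1 : (u : P) = 1
    · rw [hu1, mul_eq_one_iff_inv_eq] at e
      have : b ∈ A ⊓ B := ⟨(show a⁻¹ = b from e) ▸ A.inv_mem ha, hb⟩
      rw [hbot, Subgroup.mem_bot] at this
      rw [this]; exact one_mem R
    exfalso
    obtain ⟨L, -, -, hn, -, hRL, hRW, -⟩ := F.out_natural hR hA hK hAK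
    have hsub : ∀ v ∈ fixed f B, v ∈ fixed f A ∧ f (u : P) v = v := by
      intro v hv
      have h1 : f a⁻¹ (f (u : P) v) = v := by
        rw [← e, mul_app, hv b hb, inv_app]
      have h2 : f a⁻¹ (f (u : P) v) - f (u : P) v ∈ fixed f L := by
        rw [h1, ← neg_sub]; exact neg_mem (hRW _ (hJR u.2) v)
      have h3 := hn.free (A.inv_mem ha) (fun e' => ha1 (inv_eq_one.1 e')) h2
      have h4 : f (u : P) v = v := (h3 a⁻¹ (A.inv_mem ha)).symm.trans h1
      exact ⟨h4 ▸ h3, h4⟩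
    have hXeq : fixed f B = fixed f A := eq_of_le_of_card (fun v hv => (hsub v hv).1) hXB.ge
    let Y : Submodule (ZMod p) V := LinearMap.ker (f (u : P) - 1)
    have hY : ∀ {v}, v ∈ Y ↔ f (u : P) v = v := fun {v} => by
      rw [LinearMap.mem_ker, LinearMap.sub_apply, Module.End.one_apply, sub_eq_zero]
    have hXY : fixed f A ≤ Y := fun v hv => hY.2 (hsub v (hXeq ▸ hv)).2
    have hYtop := hn.irr (Y := Y) (fun g hg v hv => hY.2 (by
      rw [← mul_app, hRL _ (hJR u.2) g hg, mul_app, hY.1 hv])) fun hle => by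
      have h5 : Nat.card ↥(fixed f A) ≤ Nat.card ↥(fixed f L) :=
        Nat.card_mono (Set.toFinite _) (SetLike.coe_subset_coe.2 (hXY.trans hle))
      rw [hn.cardX] at h5
      have h2q : 1 < q := hA.gen.card ▸ (Subgroup.one_lt_card_iff_ne_bot A).2 hA.gen.off.ne_bot
      have hW0 : 0 < Nat.card ↥(fixed f L) := Nat.card_pos
      nlinarith
    refine hu1 (F.inj _ (LinearMap.ext fun v => ?_))
    have : Y = ⊤ := top_le_iff.1 (hYtop ▸ sup_le le_rfl (hn.fixed_le.trans hXY))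
    exact hY.1 (this ▸ Submodule.mem_top)
  · -- the two offenders share a fixed space
    have hXeq : fixed f B = fixed f A := eq_of_le_of_card (fun v hv => by
      by_contra hv'
      exact hx1 (hfA x hx.1 v hv' (hv x hx.2))) hXB.ge
    have hJ1 : ∀ u ∈ J, u = 1 := by
      have h6 : fixed f J = ⊤ := by
        refine eq_of_le_of_card le_top ?_
        rw [Nat.card_congr (Submodule.topEquiv (R := ZMod p) (M := V)).toEquiv, hVA, ← hC.gen.card]
        refine le_trans ?_ hfixJ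
        rw [hXeq, inf_idem]
      exact fun u hu => F.inj u (LinearMap.ext fun v => (h6.ge Submodule.mem_top : v ∈ fixed f J) u hu)
    have hJbot : Nat.card ↥J = 1 := by
      rw [(Subgroup.eq_bot_iff_forall J).2 hJ1, Subgroup.card_bot]
    rw [hJbot, mul_one] at hcard
    exact hnle (hBle.trans (Subgroup.eq_of_le_of_card_ge hAle (hA.gen.card.symm ▸ hcard)).ge)

/-- The offenders of a Sylow subgroup normalize every maximal such `R` inside it. -/
theorem le_normalizer_R [Finite V] {S : Subgroup P} (hS : IsSyl (T : Subgroup P) S) (hRS : R ≤ S) :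
    genJoin f q S ≤ Subgroup.normalizer (R : Set P) := by
  classical
  by_contra hnle
  set Y := genJoin f q (genJoin f q S ⊓ Subgroup.normalizer (R : Set P)) with hY
  have hYD : Y ≤ genJoin f q S := (genJoin_le _).trans inf_le_left
  have hYne : Y ≠ genJoin f q S := fun e => hnle (e ▸ (genJoin_le _).trans inf_le_right)
  obtain ⟨C, hC, hCD, hCN, hCY⟩ := exists_normalizing (f := f) (q := q)
    ((F.syl_isPGroup hS).to_le (genJoin_le S)) (genJoin_idem S).symm (genJoin_idem _).symm hYD hYne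
  obtain ⟨c, hc, hcR⟩ : ∃ c ∈ C, c ∉ Subgroup.normalizer (R : Set P) := by
    by_contra hall
    push Not at hall
    exact hCY (le_genJoin hC (le_inf hCD hall))
  obtain ⟨B, hB, hBR, hB'⟩ : ∃ B, Gen f q B ∧ B ≤ R ∧ ¬ cg c B ≤ R := by
    by_contra hall
    push Not at hall
    refine hcR (cg_eq_iff.1 (Subgroup.eq_of_le_of_card_ge ?_ (card_cg c R).ge))
    conv_lhs => rw [hR.inTwo.eq]
    rw [cg, genJoin, Subgroup.map_iSup]
    exact iSup_le fun A => hall A A.2.1 A.2.2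
  have hRY : R ≤ Y := hR.inTwo.eq.le.trans (genJoin_mono
    (le_inf (hR.inTwo.eq.le.trans (genJoin_mono hRS)) Subgroup.le_normalizer))
  have hB'Y : cg c B ≤ Y := (cg_mono (hBR.trans hRY) c).trans (cg_eq_iff.2 (hCN hc)).le
  have hout : Out f q R (cg c B) := ⟨hB.conj c, hB'Y.trans ((genJoin_le _).trans inf_le_right), hB'⟩
  obtain ⟨K, hK, hKB⟩ := F.exists_pt hR hout
  obtain ⟨L, -, -, hn, ⟨x, hx, -, -⟩, hRL, hRW, hLR⟩ := F.out_natural hR hout hK hKB
  obtain ⟨b, hb, hb1⟩ := B.bot_or_exists_ne_one.resolve_left hB.off.ne_bot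
  set b' := c * b * c⁻¹ with hb'
  have hb'B : b' ∈ cg c B := ⟨b, hb, rfl⟩
  have hb'1 : b' ≠ 1 := fun e => hb1 (conj_eq_one_iff.1 e)
  have hfix' : fixed f (cg c B) = (fixed f B).map (f c) := fixed_cg c B
  -- the commutators of `b`
  let t : V →ₗ[ZMod p] V := f b - 1
  let t' : V →ₗ[ZMod p] V := f b' - 1
  have htc : ∀ v, t' (f c v) = f c (t v) := fun v => by
    show f b' (f c v) - f c v = f c (f b v - v)
    rw [hb', mul_app, mul_app, inv_app, map_sub]
  have htW : ∀ v, t v ∈ fixed f L := fun v => hRW b (hBR hb) v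
  let I := fixed f B ⊓ fixed f (cg c B)
  have htI : ∀ v, t v ∈ I := fun v => by
    refine ⟨fun b₂ hb₂ => ?_, hn.fixed_le (htW v)⟩
    refine f_injective (f := f) c ?_
    rw [← htc]
    have := hn.move b' hb'B (f c v) (c * b₂ * c⁻¹) ⟨b₂, hb₂, rfl⟩
    rw [show f b' (f c v) - f c v = t' (f c v) from rfl, htc, mul_app, mul_app, inv_app] at this
    rw [this, htc]
  have ht'I : ∀ v, t' v ∈ I := fun v =>
    ⟨fun b₂ hb₂ => hLR b₂ (hBR hb₂) b' (hn.le hb'B) v, hn.move b' hb'B v⟩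
  have hXB : Nat.card ↥(fixed f B) = Nat.card ↥(fixed f (cg c B)) := by rw [hfix', card_map]
  have hVq : Nat.card V = q * Nat.card ↥(fixed f B) := by rw [hXB]; exact hn.cardV
  -- the two fixed spaces differ
  have hneX : ¬ fixed f B ≤ fixed f (cg c B) := by
    intro hle
    have heq := eq_of_le_of_card hle hXB.ge
    have h2q : 1 < q := hB.card ▸ (Subgroup.one_lt_card_iff_ne_bot B).2 hB.off.ne_bot
    have hYtop := hn.irr (Y := fixed f B) (fun g hg v hv b₂ hb₂ => by
        rw [← mul_app, hRL b₂ (hBR hb₂) g hg, mul_app, hv b₂ hb₂]) fun hle' => by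
      have h5 : Nat.card ↥(fixed f (cg c B)) ≤ Nat.card ↥(fixed f L) :=
        Nat.card_mono (Set.toFinite _) (SetLike.coe_subset_coe.2 (heq ▸ hle'))
      rw [hn.cardX] at h5
      have hW0 : 0 < Nat.card ↥(fixed f L) := Nat.card_pos
      nlinarith
    have h6 : fixed f B = ⊤ := top_le_iff.1 (hYtop ▸ sup_le le_rfl (heq ▸ hn.fixed_le))
    exact hb1 (F.inj b (LinearMap.ext fun v => (h6.ge Submodule.mem_top : v ∈ fixed f B) b hb))
  -- the rank of `c - 1`
  obtain ⟨u, hu, hu'⟩ := SetLike.not_le_iff_exists.1 hneX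
  let φ : V →ₗ[ZMod p] V := f c - 1
  have hφI : φ u ∉ I := by
    intro hmem
    refine hu' ?_
    have h1 : f c u ∈ fixed f (cg c B) := hfix' ▸ ⟨u, hu, rfl⟩
    have := sub_mem h1 hmem.2
    simpa [φ] using this
  -- `φ` is injective on the commutators
  have hinjt : ∀ v, φ (t v) = 0 → t v = 0 := by
    intro v hv
    have h1 : f c (t v) = t v := sub_eq_zero.1 hv
    have h2 : f b' (f c v) - f c v ∈ fixed f L := by
      rw [show f b' (f c v) - f c v = t' (f c v) from rfl, htc, h1]; exact htW v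
    have h3 := hn.free hb'B hb'1 h2
    refine f_injective (f := f) c ?_
    rw [map_zero, ← htc]
    exact sub_eq_zero.2 (h3 b' hb'B)
  have hker : LinearMap.ker t' ≤ fixed f (cg c B) := fun v hv => hn.free hb'B hb'1 (by
    rw [show f b' v - v = t' v from rfl, LinearMap.mem_ker.1 hv]; exact zero_mem _)
  have hkt : LinearMap.ker t' = fixed f (cg c B) := le_antisymm hker fun v hv =>
    LinearMap.mem_ker.2 (sub_eq_zero.2 (hv b' hb'B))
  have hrt' : Nat.card ↥(LinearMap.range t') = q := by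
    have h1 := Submodule.card_eq_card_quotient_mul_card (LinearMap.ker t')
    rw [Nat.card_congr (LinearMap.quotKerEquivRange t').toEquiv, hkt, hn.cardV] at h1
    exact (Nat.eq_of_mul_eq_mul_left Nat.card_pos (by rw [← h1]; ring)).symm
  have hrt : Nat.card ↥(LinearMap.range t) = q := by
    rw [← hrt']
    have : LinearMap.range t' = (LinearMap.range t).map (f c) := by
      refine le_antisymm ?_ ?_
      · rintro _ ⟨v, rfl⟩
        exact ⟨t (f c⁻¹ v), ⟨_, rfl⟩, by rw [← htc, app_inv]⟩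
      · rintro _ ⟨_, ⟨v, rfl⟩, rfl⟩
        exact ⟨f c v, htc v⟩
    rw [this, card_map]
  have hsub : (LinearMap.range t).map φ ≤ I := by
    rintro _ ⟨_, ⟨v, rfl⟩, rfl⟩
    show f c (t v) - t v ∈ I
    rw [← htc]
    exact sub_mem (ht'I _) (htI v)
  have hlt : (LinearMap.range t).map φ < LinearMap.range φ :=
    lt_of_le_of_ne (LinearMap.map_le_range) fun e => hφI (hsub (e.ge ⟨u, rfl⟩))
  have h7 : q < Nat.card ↥(LinearMap.range φ) := by
    have hcm : Nat.card ↥((LinearMap.range t).map φ) = q := by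
      rw [← hrt]
      refine (Nat.card_congr (Equiv.ofBijective (fun w : ↥(LinearMap.range t) =>
        (⟨φ w, w, w.2, rfl⟩ : ↥((LinearMap.range t).map φ))) ⟨?_, ?_⟩)).symm
      · rintro ⟨_, v, rfl⟩ ⟨_, w, rfl⟩ e
        have e' : φ (t v) = φ (t w) := congrArg Subtype.val e
        refine Subtype.ext (sub_eq_zero.1 ?_)
        show t v - t w = 0
        rw [← map_sub]
        exact hinjt _ (by rw [map_sub, map_sub, e', sub_self])
      · rintro ⟨_, w, hw, rfl⟩
        exact ⟨⟨w, hw⟩, rfl⟩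
    rw [← hcm]
    by_contra hle
    exact hlt.ne (eq_of_le_of_card hlt.le (not_lt.1 hle))
  have hle8 : fixed f C ≤ LinearMap.ker φ := fun v hv => LinearMap.mem_ker.2 (sub_eq_zero.2 (hv c hc))
  have h9 := Submodule.card_eq_card_quotient_mul_card (LinearMap.ker φ)
  rw [Nat.card_congr (LinearMap.quotKerEquivRange φ).toEquiv] at h9
  have h10 : Nat.card ↥(fixed f C) ≤ Nat.card ↥(LinearMap.ker φ) :=
    Nat.card_mono (Set.toFinite _) (SetLike.coe_subset_coe.2 hle8)
  have h11 : Nat.card V ≤ q * Nat.card ↥(LinearMap.ker φ) :=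
    hC.off.bound.trans (by rw [hC.card]; exact Nat.mul_le_mul_left _ h10)
  have h12 : 0 < Nat.card ↥(LinearMap.ker φ) := Nat.card_pos
  nlinarith

omit hR in
/-- Every Sylow subgroup contains a maximal one. -/
theorem exists_max_in {S : Subgroup P} (hS : IsSyl (T : Subgroup P) S) : ∃ R, MaxTwo f q M R ∧ R ≤ S := by
  obtain ⟨R, hR, hmax⟩ := Set.exists_max_image {R : Subgroup P | InTwo f q M R} (fun R => Nat.card R)
    (Set.toFinite _) ⟨⊥, F.exists_inTwo_bot⟩
  have hM : MaxTwo f q M R := ⟨hR, fun R' hR' hle => (Subgroup.eq_of_le_of_card_ge hle (hmax R' hR')).ge⟩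
  obtain ⟨S', -, hS', -, hRS', -⟩ := F.exists_syl hR.pgroup
  obtain ⟨g, rfl⟩ := hS
  obtain ⟨g', rfl⟩ := hS'
  refine ⟨cg (g * g'⁻¹) R, ?_, ?_⟩
  · set k := g * g'⁻¹
    have key : ∀ k R', InTwo f q M R' → InTwo f q M (cg k R') := fun k R' h => by
      obtain ⟨K₁, K₂, h1, h2, h3, h4, h5⟩ := h.two
      exact ⟨by rw [← cg_genJoin, ← h.eq], h.pgroup.map _, cg k K₁, cg k K₂, h1.conj k, h2.conj k,
        cg_mono h3 k, cg_mono h4 k, fun e => h5 (by simpa only [cg_inv] using congrArg (cg k⁻¹) e)⟩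
    refine ⟨key k R hR, fun R' hR' hle => ?_⟩
    have h6 := hM.max (cg k⁻¹ R') (key _ _ hR') (by simpa only [cg_inv] using cg_mono hle k⁻¹)
    simpa only [inv_cg] using cg_mono h6 k
  · rw [← cg_cg]
    refine (cg_mono ((cg_mono hRS' g'⁻¹).trans (cg_inv g' _).le) g)

omit hR in
/-- Every offender of a Sylow subgroup avoids some maximal one. -/
theorem exists_avoid [Finite V] {S A : Subgroup P} (hS : IsSyl (T : Subgroup P) S) (hA : Gen f q A)
    (hAS : A ≤ S) : ∃ R, MaxTwo f q M R ∧ R ≤ S ∧ Out f q R A := by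
  suffices h : ∃ R, MaxTwo f q M R ∧ R ≤ S ∧ ¬ A ≤ R by
    obtain ⟨R, hR, hRS, hAR⟩ := h
    exact ⟨R, hR, hRS, hA, (le_genJoin hA hAS).trans (F.le_normalizer_R hR hS hRS), hAR⟩
  by_contra hall
  push Not at hall
  let G₀ : Subgroup P := ⨆ B : {B : Subgroup P // Gen f q B ∧ B ≤ S ∧
    ∀ R, MaxTwo f q M R → R ≤ S → B ≤ R}, (B : Subgroup P)
  have hSN : S ≤ Subgroup.normalizer (G₀ : Set P) := by
    intro s hs
    refine cg_eq_iff.1 (Subgroup.eq_of_le_of_card_ge ?_ (card_cg s G₀).ge)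
    rw [cg, Subgroup.map_iSup]
    refine iSup_le fun B => le_iSup_of_le ⟨cg s B, B.2.1.conj s, cg_le_of_mem hs B.2.2.1, fun R hR hRS => ?_⟩ le_rfl
    have key : MaxTwo f q M (cg s⁻¹ R) := by
      have hc : ∀ k R', InTwo f q M R' → InTwo f q M (cg k R') := fun k R' h => by
        obtain ⟨K₁, K₂, h1, h2, h3, h4, h5⟩ := h.two
        exact ⟨by rw [← cg_genJoin, ← h.eq], h.pgroup.map _, cg k K₁, cg k K₂, h1.conj k, h2.conj k,
          cg_mono h3 k, cg_mono h4 k, fun e => h5 (by simpa only [cg_inv] using congrArg (cg k⁻¹) e)⟩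
      refine ⟨hc _ _ hR.inTwo, fun R' hR' hle => ?_⟩
      have h6 := hR.max (cg s R') (hc _ _ hR') (by simpa only [inv_cg] using cg_mono hle s)
      simpa only [cg_inv] using cg_mono h6 s⁻¹
    simpa only [inv_cg] using cg_mono (B.2.2.2 _ key (cg_le_of_mem (inv_mem hs) hRS)) s
  obtain ⟨R, hR, hRS⟩ := F.exists_max_in hS
  obtain ⟨S', K, hS', hK, hSS', hSK⟩ := F.exists_syl (F.syl_isPGroup hS)
  have hSK' : S ≤ K := hSS'.trans hSK
  obtain ⟨B, hB, hBS⟩ := F.exists_out_in hR hS hK hRS hSK'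
  obtain ⟨L, -, hLK, -, -, hRL, -, -⟩ := F.out_natural hR hB hK
    (sup_le (hRS.trans hSK') (hBS.trans hSK'))
  have hG0R : G₀ ≤ R := iSup_le fun B => B.2.2.2 R hR hRS
  have hLN : L ≤ Subgroup.normalizer (G₀ : Set P) := fun l hl => cg_eq_iff.1 (by
    refine Subgroup.eq_of_le_of_card_ge ?_ (card_cg l G₀).ge
    rintro _ ⟨x, hx, rfl⟩
    rw [MulEquiv.coe_toMonoidHom, MulAut.conj_apply, ← hRL x (hG0R hx) l hl, mul_inv_cancel_right]
    exact hx)
  have htop : Subgroup.normalizer (G₀ : Set P) = ⊤ := by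
    by_contra hne
    exact hLK (hLN.trans (F.le_pt hS hK hSK' hSN hne))
  have := F.core G₀ (Subgroup.normalizer_eq_top_iff.1 htop) (hR.inTwo.pgroup.to_le hG0R)
  exact hA.off.ne_bot (le_bot_iff.1 (this ▸ le_iSup_of_le ⟨A, hA, hAS, fun R hR hRS => hall R hR hRS⟩ le_rfl))

omit hR in
/-- Two offenders of one Sylow subgroup: one is over a maximal subgroup containing the other. -/
theorem orth [Finite V] {S A B : Subgroup P} (hS : IsSyl (T : Subgroup P) S) (hA : Gen f q A) (hAS : A ≤ S)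
    (hB : Gen f q B) (hBS : B ≤ S) (hne : A ≠ B) :
    ∃ R, MaxTwo f q M R ∧ R ≤ S ∧ Out f q R A ∧ B ≤ R := by
  obtain ⟨R, hR, hRS, hout⟩ := F.exists_avoid hS hA hAS
  refine ⟨R, hR, hRS, hout, ?_⟩
  by_contra hBR
  obtain ⟨S', K, hS', hK, h1, h2⟩ := F.exists_syl (F.syl_isPGroup hS)
  have hSK : S ≤ K := h1.trans h2
  exact hne (F.out_eq hR hout ⟨hB, (le_genJoin hB hBS).trans (F.le_normalizer_R hR hS hRS), hBR⟩ hK
    (sup_le (hRS.trans hSK) (hAS.trans hSK)) (sup_le (hRS.trans hSK) (hBS.trans hSK)))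

end Frame

end Cfsg.Agent.FFNatural
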