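import Mathlib
import Cfsg.Agent.Lib.PLocal.Natural.Local

/-!
The offenders of minimal order of one Sylow subgroup and their natural `SL₂`-subgroups.
-/

set_option autoImplicit false
set_option linter.style.longLine false
set_option linter.unusedSectionVars false

namespace Cfsg.Agent.FFNatural

open Cfsg.Lib.Offender

variable {p : ℕ} {P V : Type*} [Group P] [AddCommGroup V] [Module (ZMod p) V]
variable {f : Representation (ZMod p) P V} {q : ℕ}

/-- The offenders of `S` other than `A` generate this. -/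
def others (f : Representation (ZMod p) P V) (q : ℕ) (S A : Subgroup P) : Subgroup P :=
  ⨆ B : {B : Subgroup P // Gen f q B ∧ B ≤ S ∧ B ≠ A}, (B : Subgroup P)

/-- The natural subgroup of an offender of `S`. -/
def blockOf (f : Representation (ZMod p) P V) (q : ℕ) (S A : Subgroup P) : Subgroup P :=
  ⨆ C : {C : Subgroup P // Out f q (others f q S A) C}, (C : Subgroup P)

theorem le_others {S A B : Subgroup P} (hB : Gen f q B) (hBS : B ≤ S) (hne : B ≠ A) :
    B ≤ others f q S A :=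
  le_iSup (fun B : {B : Subgroup P // Gen f q B ∧ B ≤ S ∧ B ≠ A} => (B : Subgroup P)) ⟨B, hB, hBS, hne⟩

theorem others_conj [Finite P] {S A : Subgroup P} {g : P} (hg : g ∈ S) :
    cg g (others f q S A) = others f q S (cg g A) := by
  have key : ∀ g ∈ S, ∀ A, cg g (others f q S A) ≤ others f q S (cg g A) := by
    intro g hg A
    rw [others, cg, Subgroup.map_iSup]
    refine iSup_le fun B => le_others (B.2.1.conj g) (cg_le_of_mem hg B.2.2.1) fun e => B.2.2.2 ?_
    have := congrArg (cg g⁻¹) e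
    rwa [cg_inv, cg_inv] at this
  refine le_antisymm (key g hg A) ?_
  have h1 := cg_mono (key g⁻¹ (S.inv_mem hg) (cg g A)) g
  rwa [inv_cg, cg_inv] at h1

theorem out_conj_iff [Finite P] {R C : Subgroup P} (g : P) : Out f q R C → Out f q (cg g R) (cg g C) := by
  intro h
  refine ⟨h.gen.conj g, ?_, fun hle => h.not_le (le_of_cg hle)⟩
  rintro _ ⟨c, hc, rfl⟩
  refine cg_eq_iff.1 ?_
  rw [MulEquiv.coe_toMonoidHom, MulAut.conj_apply, ← cg_cg, cg_inv, ← cg_cg, cg_eq_iff.2 (h.norm hc)]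

theorem blockOf_conj [Finite P] {S A : Subgroup P} {g : P} (hg : g ∈ S) :
    cg g (blockOf f q S A) = blockOf f q S (cg g A) := by
  have key : ∀ g ∈ S, ∀ A, cg g (blockOf f q S A) ≤ blockOf f q S (cg g A) := by
    intro g hg A
    rw [blockOf, cg, Subgroup.map_iSup]
    refine iSup_le fun C => le_iSup_of_le ⟨cg g C, ?_⟩ le_rfl
    have := out_conj_iff g C.2
    rwa [others_conj hg] at this
  refine le_antisymm (key g hg A) ?_
  have h1 := cg_mono (key g⁻¹ (S.inv_mem hg) (cg g A)) g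
  rwa [inv_cg, cg_inv] at h1

theorem gens_conj [Finite P] {S A : Subgroup P} {g : P} (hg : g ∈ S) (hA : Gen f q A ∧ A ≤ S) :
    Gen f q (cg g A) ∧ cg g A ≤ S :=
  ⟨hA.1.conj g, cg_le_of_mem hg hA.2⟩

/-- Commutators of `x` lying in the fixed space of `y` and conversely give `x * y = y * x`. -/
theorem comm_of_fix (hinj : ∀ g, f g = 1 → g = 1) {x y : P}
    (h1 : ∀ v, f y (f x v - v) = f x v - v) (h2 : ∀ v, f x (f y v - v) = f y v - v) : x * y = y * x := by
  refine inv_mul_eq_one.1 (hinj _ (LinearMap.ext fun v => ?_))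
  have h3 : f x (f y v) = f y (f x v) := by
    have e1 : f x (f y v) = f x v + (f y v - v) := by
      conv_lhs => rw [show f y v = v + (f y v - v) by abel]
      rw [map_add, h2]
    have e2 : f y (f x v) = f y v + (f x v - v) := by
      conv_lhs => rw [show f x v = v + (f x v - v) by abel]
      rw [map_add, h1]
    rw [e1, e2]; abel
  rw [mul_app, mul_app, ← h3, ← mul_app x y v, inv_app]
  rfl

/-- The elements moving vectors only inside an invariant subspace. -/
def moveInto (f : Representation (ZMod p) P V) (Z : Submodule (ZMod p) V) (H : Subgroup P)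
    (hZ : ∀ g ∈ H, ∀ z ∈ Z, f g z ∈ Z) : Subgroup P where
  carrier := {g | g ∈ H ∧ ∀ v, f g v - v ∈ Z}
  one_mem' := ⟨H.one_mem, fun v => by simp⟩
  mul_mem' := by
    rintro g k ⟨hg, hg'⟩ ⟨hk, hk'⟩
    refine ⟨H.mul_mem hg hk, fun v => ?_⟩
    have e : f (g * k) v - v = (f g (f k v) - f k v) + (f k v - v) := by rw [mul_app]; abel
    rw [e]
    exact add_mem (hg' _) (hk' v)
  inv_mem' := by
    rintro g ⟨hg, hg'⟩
    refine ⟨H.inv_mem hg, fun v => ?_⟩
    have h1 := neg_mem (hg' (f g⁻¹ v))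
    rw [app_inv, neg_sub] at h1
    exact h1

/-- The range of `f g - 1` for all `g` of a generated subgroup. -/
theorem move_iSup {ι : Sort*} (E : ι → Subgroup P) (Z : Submodule (ZMod p) V)
    (h : ∀ i, ∀ g ∈ E i, (∀ z ∈ Z, f g z ∈ Z) ∧ ∀ v, f g v - v ∈ Z) :
    ∀ g ∈ ⨆ i, E i, ∀ v, f g v - v ∈ Z := by
  intro g hg
  refine Subgroup.iSup_induction E (C := fun g => ∀ v, f g v - v ∈ Z) hg
    (fun i g hg => (h i g hg).2) (fun v => by simp) ?_
  intro x y hx hy v
  have e : f (x * y) v - v = (f x (f y v) - f y v) + (f y v - v) := by rw [mul_app]; abel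
  rw [e]
  exact add_mem (hx _) (hy v)

theorem fix_iSup {ι : Sort*} (E : ι → Subgroup P) {v : V} (h : ∀ i, v ∈ fixed f (E i)) :
    v ∈ fixed f (⨆ i, E i) := by
  intro g hg
  refine Subgroup.iSup_induction E (C := fun g => f g v = v) hg (fun i g hg => h i g hg)
    (by simp) ?_
  intro x y hx hy
  rw [mul_app, hy, hx]

namespace Frame

variable {T : Sylow p P} {M : Subgroup P} (F : Frame f T M q) [Fact p.Prime] [Finite P] [Finite V]
include F

theorem others_spec {S A : Subgroup P} (hS : IsSyl (T : Subgroup P) S) (hA : Gen f q A) (hAS : A ≤ S) :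
    MaxTwo f q M (others f q S A) ∧ others f q S A ≤ S ∧ Out f q (others f q S A) A := by
  obtain ⟨R, hR, hRS, hout⟩ := F.exists_avoid hS hA hAS
  obtain ⟨S', K, -, hK, h1, h2⟩ := F.exists_syl (F.syl_isPGroup hS)
  have hSK : S ≤ K := h1.trans h2
  have e : others f q S A = R := by
    refine le_antisymm (iSup_le fun B => ?_) ?_
    · by_contra hBR
      exact B.2.2.2 (F.out_eq hR ⟨B.2.1, (le_genJoin B.2.1 B.2.2.1).trans (F.le_normalizer_R hR hS hRS), hBR⟩
        hout hK (sup_le (hRS.trans hSK) (B.2.2.1.trans hSK)) (sup_le (hRS.trans hSK) (hAS.trans hSK)))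
    · conv_lhs => rw [hR.inTwo.eq]
      exact iSup_le fun B => le_others B.2.1 (B.2.2.trans hRS) fun e => hout.not_le (e ▸ B.2.2)
  exact e ▸ ⟨hR, hRS, hout⟩

theorem block_spec {S A : Subgroup P} (hS : IsSyl (T : Subgroup P) S) (hA : Gen f q A) (hAS : A ≤ S) :
    NatSL2 f q A (blockOf f q S A) ∧ S ⊔ blockOf f q S A = ⊤ ∧
    (∀ r ∈ others f q S A, ∀ l ∈ blockOf f q S A,
      r * l = l * r ∧ ∀ v, f r v - v ∈ fixed f (blockOf f q S A) ∧ f r (f l v - v) = f l v - v) ∧
    ∃ C, Out f q (others f q S A) C ∧ C ≤ blockOf f q S A ∧ C ≠ A ∧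
      (∀ a ∈ A, cg a C = C → a = 1) ∧
      (∀ D, Out f q (others f q S A) D → D ≠ A → ∃ a ∈ A, cg a C = D) ∧
      fixed f A ⊔ fixed f C = ⊤ ∧ fixed f A ⊓ fixed f C ≤ fixed f (blockOf f q S A) := by
  obtain ⟨hR, hRS, hout⟩ := F.others_spec hS hA hAS
  set R := others f q S A with hRdef
  obtain ⟨S', K, -, hK, h1, h2⟩ := F.exists_syl (F.syl_isPGroup hS)
  have hSK : S ≤ K := h1.trans h2
  have hAK : R ⊔ A ≤ K := sup_le (hRS.trans hSK) (hAS.trans hSK)
  obtain ⟨L, hLN, hLK, hn, ⟨x, hx, hxK, hgen⟩, hc, hm, hfix⟩ := F.out_natural hR hout hK hAK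
  have hC : Out f q R (cg x A) := hout.conj (hLN hx)
  have hK' : IsPt M (cg x K) := hK.conj x
  have hCK : R ⊔ cg x A ≤ cg x K := by
    have := cg_mono hAK x
    rwa [cg_sup, cg_eq_iff.2 (hLN hx)] at this
  have hne : K ≠ cg x K := fun e => hxK (F.mem_of_cg_eq hK e.symm)
  have hkey : ∀ D, Out f q R D → D ≠ A → ∃ a ∈ A, cg a (cg x A) = D := by
    intro D hD hDA
    obtain ⟨K'', hK'', hDK⟩ := F.exists_pt hR hD
    have hne' : K ≠ K'' := fun e => hDA (F.out_eq hR hD hout hK (e ▸ hDK) hAK)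
    obtain ⟨c, hc', v, hv⟩ := F.exists_moved hR hC
    obtain ⟨a, ha, -, he⟩ := F.exists_trans hR hout hK hAK hC hK' hCK hne hD hK'' hDK hne' hc' hv
    refine ⟨a, ha, F.out_eq hR (hC.conj (hout.norm ha)) hD hK'' ?_ hDK⟩
    have := cg_mono hCK a
    rwa [cg_sup, cg_eq_iff.2 (hout.norm ha), he] at this
  have hL : blockOf f q S A = L := by
    refine le_antisymm (iSup_le fun D => ?_) ?_
    · by_cases e : (D : Subgroup P) = A
      · exact e.le.trans hn.le
      · obtain ⟨a, ha, he⟩ := hkey D D.2 e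
        rw [← he]
        exact cg_le_of_mem (hn.le ha) (cg_le_of_mem hx hn.le)
    · rw [← hgen]
      exact sup_le (le_iSup_of_le ⟨A, hout⟩ le_rfl) (le_iSup_of_le ⟨cg x A, hC⟩ le_rfl)
  rw [hL]
  refine ⟨hn, ?_, fun r hr l hl => ⟨hc r hr l hl, fun v => ⟨hm r hr v, hfix r hr l hl v⟩⟩,
    cg x A, hC, cg_le_of_mem hx hn.le, fun e => ?_, fun a ha e => ?_, hkey, (F.pair hR hout hK hAK hC hK' hCK hne).2.2,
    ?_⟩
  · by_contra hne'
    exact hLK (le_sup_right.trans (F.le_pt hS hK hSK le_sup_left hne'))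
  · exact hne (F.out_unique hR hout hK hAK hK' (e ▸ hCK)).symm
  · refine F.inter_eq_one hR hout hK hAK hK' (le_sup_left.trans hCK) hne ha (F.mem_of_cg_eq hK' ?_)
    refine F.out_unique hR hC hK' hCK (hK'.conj a) ?_
    have := cg_mono hCK a
    rwa [cg_sup, cg_eq_iff.2 (hout.norm ha), e] at this
  · intro v hv l hl
    exact fixed_anti hgen.ge (mem_fixed_sup hv.1 hv.2) l hl

theorem orth_gen {S A B : Subgroup P} (hS : IsSyl (T : Subgroup P) S) (hA : Gen f q A) (hAS : A ≤ S)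
    (hB : Gen f q B) (hBS : B ≤ S) (hne : B ≠ A) {b : P} (hb : b ∈ B) {l : P} (hl : l ∈ blockOf f q S A) :
    b * l = l * b ∧ ∀ v, f b v - v ∈ fixed f (blockOf f q S A) ∧ f b (f l v - v) = f l v - v :=
  (F.block_spec hS hA hAS).2.2.1 b (le_others hB hBS hne hb) l hl

theorem gens_comm {S A B : Subgroup P} (hS : IsSyl (T : Subgroup P) S) (hA : Gen f q A) (hAS : A ≤ S)
    (hB : Gen f q B) (hBS : B ≤ S) : ∀ a ∈ A, ∀ b ∈ B, a * b = b * a := by
  intro a ha b hb
  by_cases e : B = A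
  · subst e; exact hA.off.comm a ha b hb
  · exact (F.orth_gen hS hA hAS hB hBS e hb ((F.block_spec hS hA hAS).1.le ha)).1.symm

/-- Offenders generating a `p`-group commute. -/
theorem comm_of_pgroup {A B X : Subgroup P} (hA : Gen f q A) (hB : Gen f q B) (hX : IsPGroup p X)
    (hAX : A ≤ X) (hBX : B ≤ X) : ∀ a ∈ A, ∀ b ∈ B, a * b = b * a := by
  obtain ⟨S, -, hS, -, hXS, -⟩ := F.exists_syl hX
  exact F.gens_comm hS hA (hAX.trans hXS) hB (hBX.trans hXS)

/-- A commuting family of offenders is no bigger than the offenders of a Sylow subgroup. -/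
theorem card_commuting {S : Subgroup P} (hS : IsSyl (T : Subgroup P) S) (s : Set (Subgroup P))
    (hs : ∀ A ∈ s, Gen f q A) (hc : ∀ A ∈ s, ∀ B ∈ s, ∀ a ∈ A, ∀ b ∈ B, a * b = b * a) :
    s.ncard ≤ {A : Subgroup P | Gen f q A ∧ A ≤ S}.ncard := by
  classical
  set U : Set P := ⋃ A ∈ s, (A : Set P) with hU
  have hUc : ∀ x ∈ U, ∀ y ∈ U, x * y = y * x := by
    intro x hx y hy
    simp only [hU, Set.mem_iUnion, SetLike.mem_coe, exists_prop] at hx hy
    obtain ⟨A, hA, hx⟩ := hx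
    obtain ⟨B, hB, hy⟩ := hy
    exact hc A hA B hB x hx y hy
  have : IsMulCommutative (Subgroup.closure U) := Subgroup.isMulCommutative_closure hUc
  have hp : IsPGroup p (Subgroup.closure U) := by
    intro x
    refine ⟨1, ?_⟩
    rw [pow_one]
    refine Subgroup.closure_induction (p := fun x hx => (⟨x, hx⟩ : Subgroup.closure U) ^ p = 1)
      (fun y hy => ?_) (one_pow _) (fun a b ha hb h1 h2 => ?_) (fun a ha h1 => ?_) x.2
    · have hy' := hy
      simp only [hU, Set.mem_iUnion, SetLike.mem_coe, exists_prop] at hy'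
      obtain ⟨A, hA, hy'⟩ := hy'
      exact Subtype.ext (by rw [Subgroup.coe_pow]; exact (hs A hA).off.exp y hy')
    · rw [show (⟨a * b, mul_mem ha hb⟩ : Subgroup.closure U) = ⟨a, ha⟩ * ⟨b, hb⟩ from rfl, Commute.mul_pow (mul_comm' _ _), h1, h2, one_mul]
    · rw [show (⟨a⁻¹, inv_mem ha⟩ : Subgroup.closure U) = (⟨a, ha⟩)⁻¹ from rfl, inv_pow, h1, inv_one]
  obtain ⟨S', -, hS', -, hle, -⟩ := F.exists_syl hp
  obtain ⟨g, hg⟩ := hS
  obtain ⟨g', hg'⟩ := hS'
  refine Set.ncard_le_ncard_of_injOn (cg (g * g'⁻¹)) (fun A hA => ⟨(hs A hA).conj _, ?_⟩) ?_ (Set.toFinite _)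
  · have h1 : A ≤ S' := fun a ha => hle (Subgroup.subset_closure (by
      simp only [hU, Set.mem_iUnion, SetLike.mem_coe, exists_prop]
      exact ⟨A, hA, ha⟩))
    refine (cg_mono h1 _).trans (le_of_eq ?_)
    rw [← hg', cg_cg, inv_mul_cancel_right, hg]
  · intro A _ B _ e
    simpa only [cg_inv] using congrArg (cg (g * g'⁻¹)⁻¹) e

theorem exists_smul_gen {S : Subgroup P} (hS : IsSyl (T : Subgroup P) S) {A B : Subgroup P}
    (hA : Gen f q A) (hAS : A ≤ S) (hB : Gen f q B) (hBS : B ≤ S) : ∃ s ∈ S, cg s A = B := by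
  by_contra hno
  push Not at hno
  let G₀ : Subgroup P := ⨆ D : {D : Subgroup P // Gen f q D ∧ D ≤ S ∧ ∀ s ∈ S, cg s A ≠ D}, (D : Subgroup P)
  have hG₀S : G₀ ≤ S := iSup_le fun D => D.2.2.1
  have hne : ∀ D : {D : Subgroup P // Gen f q D ∧ D ≤ S ∧ ∀ s ∈ S, cg s A ≠ D}, (D : Subgroup P) ≠ A :=
    fun D e => D.2.2.2 1 S.one_mem (by rw [cg_one]; exact e.symm)
  have hN : S ⊔ blockOf f q S A ≤ Subgroup.normalizer (G₀ : Set P) := by
    refine sup_le (fun s hs => cg_eq_iff.1 (Subgroup.eq_of_le_of_card_ge ?_ (card_cg s G₀).ge))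
      fun l hl => cg_eq_iff.1 (Subgroup.eq_of_le_of_card_ge ?_ (card_cg l G₀).ge)
    · rw [cg, Subgroup.map_iSup]
      refine iSup_le fun D => le_iSup_of_le ⟨cg s D, D.2.1.conj s, cg_le_of_mem hs D.2.2.1,
        fun t ht e => D.2.2.2 (s⁻¹ * t) (S.mul_mem (S.inv_mem hs) ht) ?_⟩ le_rfl
      rw [← cg_cg, e, cg_inv]
    · have hle : G₀ ≤ others f q S A := iSup_le fun D => le_others D.2.1 D.2.2.1 (hne D)
      rintro _ ⟨d, hd, rfl⟩
      rw [MulEquiv.coe_toMonoidHom, MulAut.conj_apply,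
        ← ((F.block_spec hS hA hAS).2.2.1 d (hle hd) l hl).1, mul_inv_cancel_right]
      exact hd
  rw [(F.block_spec hS hA hAS).2.1, top_le_iff] at hN
  have := F.core G₀ (Subgroup.normalizer_eq_top_iff.1 hN) ((F.syl_isPGroup hS).to_le hG₀S)
  exact hB.off.ne_bot (le_bot_iff.1 (this ▸ le_iSup_of_le ⟨B, hB, hBS, hno⟩ le_rfl))

/-- The blocks generate a normal subgroup. -/
theorem blocks_normal {S : Subgroup P} (hS : IsSyl (T : Subgroup P) S) :
    (⨆ A : {A : Subgroup P // Gen f q A ∧ A ≤ S}, blockOf f q S A).Normal ∧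
      (⨆ A : {A : Subgroup P // Gen f q A ∧ A ≤ S}, blockOf f q S A) ⊔ S = ⊤ := by
  obtain ⟨A, hA, hAS⟩ := F.gen_in_syl hS
  set N := ⨆ A : {A : Subgroup P // Gen f q A ∧ A ≤ S}, blockOf f q S A with hN
  have hle : blockOf f q S A ≤ N := le_iSup_of_le ⟨A, hA, hAS⟩ le_rfl
  refine ⟨Subgroup.normalizer_eq_top_iff.1 (top_le_iff.1 ?_), top_le_iff.1 ?_⟩
  · rw [← (F.block_spec hS hA hAS).2.1]
    refine sup_le (fun s hs => cg_eq_iff.1 (Subgroup.eq_of_le_of_card_ge ?_ (card_cg s N).ge))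
      (hle.trans Subgroup.le_normalizer)
    rw [hN, cg, Subgroup.map_iSup]
    refine iSup_le fun B => ?_
    show cg s (blockOf f q S B) ≤ _
    rw [blockOf_conj hs]
    exact le_iSup_of_le ⟨cg s B, gens_conj hs B.2⟩ le_rfl
  · rw [← (F.block_spec hS hA hAS).2.1]
    exact sup_le le_sup_right (hle.trans le_sup_left)

/-- An element of a normal subgroup acting trivially modulo its fixed points is trivial. -/
theorem eq_one_of_move {N : Subgroup P} (hN : N.Normal) {g : P} (hg : g ∈ N)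
    (h : ∀ v, f g v - v ∈ fixed f N) : g = 1 := by
  have hinv : ∀ x : P, ∀ z ∈ fixed f N, f x z ∈ fixed f N := fun x z hz n hn => by
    have h1 := hz (x⁻¹ * n * x) (by simpa using hN.conj_mem n hn x⁻¹)
    rw [mul_app, mul_app] at h1
    exact f_injective x⁻¹ (h1.trans (inv_app x z).symm)
  set C := moveInto f (fixed f N) N fun x _ z hz => hinv x z hz with hC
  have hCn : C.Normal := ⟨fun c hc x => ⟨hN.conj_mem c hc.1 x, fun v => by
    have := hinv x _ (hc.2 (f x⁻¹ v))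
    rwa [map_sub, app_inv, ← mul_app, ← mul_app] at this⟩⟩
  have hCp : IsPGroup p C := fun c => ⟨1, Subtype.ext (by
    rw [pow_one, Subgroup.coe_pow]
    refine F.inj _ (LinearMap.ext fun u => ?_)
    have hit : ∀ n : ℕ, f ((c : P) ^ n) u = u + n • (f (c : P) u - u) := by
      intro n
      induction n with
      | zero => simp
      | succ n ih =>
        rw [pow_succ', mul_app, ih, map_add, map_nsmul, c.2.2 u c c.2.1, succ_nsmul]
        abel
    rw [hit, ← Nat.cast_smul_eq_nsmul (ZMod p), ZMod.natCast_self, zero_smul, add_zero]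
    rfl)⟩
  have := F.core C hCn hCp
  exact Subgroup.mem_bot.1 (this ▸ (⟨hg, h⟩ : g ∈ C))

end Frame

end Cfsg.Agent.FFNatural
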