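import Mathlib
import Cfsg.Agent.Lib.PLocal.Natural.Global

/-!
The decomposition into natural `SL₂`- and odd symmetric blocks, and the blocks for `q > 2`.
-/

set_option autoImplicit false
set_option linter.style.longLine false
set_option linter.unusedSectionVars false

namespace Cfsg.Agent.FFNatural

open Cfsg.Lib.Offender

variable {p : ℕ} {P V : Type*} [Group P] [AddCommGroup V] [Module (ZMod p) V]

/-- `E` is `SL₂(pⁿ)` on its natural module modulo fixed points. -/
def SL2Model (f : Representation (ZMod p) P V) (E : Subgroup P) : Prop :=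
  ∃ n, 1 ≤ n ∧ ∃ (K : Type) (_ : Field K) (_ : Fintype K), Fintype.card K = p ^ n ∧
    ∃ (ρ : ↥E ≃* Matrix.SpecialLinearGroup (Fin 2) K) (ψ : V →+ (Fin 2 → K)),
      Function.Surjective ψ ∧ (∀ v, ψ v = 0 ↔ v ∈ fixed f E) ∧
      ∀ (g : ↥E) v, ψ (f g v) = ((ρ g : Matrix.SpecialLinearGroup (Fin 2) K) : Matrix (Fin 2) (Fin 2) K).mulVec (ψ v)

/-- `E` is symmetric of degree `2ⁿ + 1` on the even permutation module modulo fixed points. -/
def PermModel (f : Representation (ZMod p) P V) (E : Subgroup P) : Prop :=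
  p = 2 ∧ ∃ n, 1 ≤ n ∧ ∃ (ρ : ↥E ≃* Equiv.Perm (Fin (2 ^ n + 1))) (ψ : V →+ (Fin (2 ^ n + 1) → ZMod 2)),
    (∀ v, ∑ i, ψ v i = 0) ∧ (∀ w : Fin (2 ^ n + 1) → ZMod 2, ∑ i, w i = 0 → ∃ v, ψ v = w) ∧
    (∀ v, ψ v = 0 ↔ v ∈ fixed f E) ∧ ∀ (g : ↥E) v i, ψ (f g v) i = ψ v ((ρ g)⁻¹ i)

/-- The decomposition into blocks. -/
structure Decomp (f : Representation (ZMod p) P V) (S : Subgroup P) {ι : Type*} (E : ι → Subgroup P) : Prop where
  comm : ∀ i j, i ≠ j → ∀ x ∈ E i, ∀ y ∈ E j, x * y = y * x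
  orth : ∀ i j, i ≠ j → ∀ x ∈ E j, ∀ v, f x v - v ∈ fixed f (E i)
  top : (⨆ i, E i) ⊔ S = ⊤
  normal : (⨆ i, E i).Normal
  trans : ∀ i j, ∃ s ∈ S, cg s (E i) = E j
  model : ∀ i, SL2Model f (E i) ∨ PermModel f (E i)

/-- The commutator space of a subgroup. -/
def commSpace (f : Representation (ZMod p) P V) (E : Subgroup P) : Submodule (ZMod p) V :=
  Submodule.span (ZMod p) {x | ∃ g ∈ E, ∃ v, f g v - v = x}

variable {f : Representation (ZMod p) P V}

theorem mem_commSpace {E : Subgroup P} {g : P} (hg : g ∈ E) (v : V) : f g v - v ∈ commSpace f E :=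
  Submodule.subset_span ⟨g, hg, v, rfl⟩

theorem SL2Model.cover {E : Subgroup P} (h : SL2Model f E) (v : V) :
    ∃ u ∈ commSpace f E, v - u ∈ fixed f E := by
  obtain ⟨n, -, K, iK, iKt, -, ρ, ψ, hs, hk, hψ⟩ := h
  let I : AddSubgroup (Fin 2 → K) := (commSpace f E).toAddSubgroup.map ψ
  have key : ∀ (N : Matrix.SpecialLinearGroup (Fin 2) K) (w : Fin 2 → K),
      (N : Matrix (Fin 2) (Fin 2) K).mulVec w - w ∈ I := fun N w => by
    obtain ⟨u, rfl⟩ := hs w
    exact ⟨f (ρ.symm N) u - u, mem_commSpace (ρ.symm N).2 u, by rw [map_sub, hψ, ρ.apply_symm_apply]⟩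
  have hall : ψ v ∈ I := by
    have h1 := key (Classical.GL2.uniSL (ψ v 0)) ![0, 1]
    have h2 := key (Classical.GL2.lowSL (ψ v 1)) ![1, 0]
    convert add_mem h1 h2 using 1
    funext i
    fin_cases i <;> simp [Matrix.mulVec, dotProduct, Fin.sum_univ_two, Classical.GL2.uniSL, Classical.GL2.lowSL, Matrix.vecHead, Matrix.vecTail]
  obtain ⟨u, hu, e⟩ := hall
  exact ⟨u, hu, (hk _).1 (by rw [map_sub, e, sub_self])⟩

theorem PermModel.cover {E : Subgroup P} (h : PermModel f E) (v : V) :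
    ∃ u ∈ commSpace f E, v - u ∈ fixed f E := by
  obtain ⟨-, n, hn, ρ, ψ, heven, hs, hk, hψ⟩ := h
  let I : AddSubgroup (Fin (2 ^ n + 1) → ZMod 2) := (commSpace f E).toAddSubgroup.map ψ
  have h2n : 2 ≤ 2 ^ n := by
    calc 2 = 2 ^ 1 := (pow_one 2).symm
      _ ≤ 2 ^ n := Nat.pow_le_pow_right (by norm_num) hn
  have hchar : ∀ c : ZMod 2, c + c = 0 := CharTwo.add_self_eq_zero
  have hpair : ∀ s : Fin (2 ^ n + 1), s ≠ 0 → (Pi.single s 1 + Pi.single 0 1 : Fin (2 ^ n + 1) → ZMod 2) ∈ I := by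
    intro s hs0
    obtain ⟨u₀, -, hu₀⟩ : ∃ u₀ ∈ (Finset.univ : Finset (Fin (2 ^ n + 1))), u₀ ∉ ({s, 0} : Finset _) := by
      refine Finset.exists_mem_notMem_of_card_lt_card ?_
      rw [Finset.card_univ, Fintype.card_fin]
      exact Finset.card_le_two.trans_lt (by omega)
    simp only [Finset.mem_insert, Finset.mem_singleton, not_or] at hu₀
    obtain ⟨u, hu⟩ := hs (Pi.single s 1 + Pi.single u₀ 1) (by
      simp [Finset.sum_add_distrib, Finset.sum_pi_single', hchar])
    refine ⟨f (ρ.symm (Equiv.swap s 0)) u - u, mem_commSpace (ρ.symm _).2 u, ?_⟩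
    funext i
    rw [map_sub, Pi.sub_apply, hψ, ρ.apply_symm_apply, Equiv.swap_inv, hu, CharTwo.sub_eq_add]
    simp only [Pi.add_apply]
    by_cases h1 : i = s
    · subst h1
      rw [Equiv.swap_apply_left]
      simp [hs0, Ne.symm hs0, hu₀.1, Ne.symm hu₀.1, Ne.symm hu₀.2]
    by_cases h2 : i = 0
    · subst h2
      rw [Equiv.swap_apply_right]
      simp [hs0, Ne.symm hs0, hu₀.1, Ne.symm hu₀.1, Ne.symm hu₀.2]
    rw [Equiv.swap_apply_of_ne_of_ne h1 h2]
    simp [h1, h2, hchar]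
  have hall : ψ v ∈ I := by
    have e : ψ v = ∑ s ∈ Finset.univ.erase (0 : Fin (2 ^ n + 1)), ψ v s • (Pi.single s 1 + Pi.single 0 1 : Fin (2 ^ n + 1) → ZMod 2) := by
      funext i
      simp only [Finset.sum_apply, Pi.smul_apply, Pi.add_apply, smul_add, smul_eq_mul, Finset.sum_add_distrib]
      by_cases h0 : i = 0
      · subst h0
        rw [Finset.sum_eq_zero (f := fun s => ψ v s * (Pi.single s 1 : Fin (2 ^ n + 1) → ZMod 2) 0)
          fun s hs => by simp [(Finset.ne_of_mem_erase hs).symm], zero_add]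
        simp only [Pi.single_eq_same, mul_one]
        have := heven v
        rw [← Finset.add_sum_erase _ _ (Finset.mem_univ (0 : Fin (2 ^ n + 1))), CharTwo.add_eq_zero] at this
        exact this
      · rw [Finset.sum_eq_zero (f := fun s => ψ v s * (Pi.single 0 1 : Fin (2 ^ n + 1) → ZMod 2) i)
          fun s hs => by simp [h0], add_zero, Finset.sum_eq_single i (fun s _ hsi => by simp [Ne.symm hsi])
            fun h => absurd (Finset.mem_erase.2 ⟨h0, Finset.mem_univ i⟩) h]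
        simp
    rw [e]
    refine sum_mem fun s hs => ?_
    rcases (show ∀ c : ZMod 2, c = 0 ∨ c = 1 by decide) (ψ v s) with h0 | h1
    · rw [h0, zero_smul]; exact zero_mem _
    · rw [h1, one_smul]; exact hpair s (Finset.ne_of_mem_erase hs)
  obtain ⟨u, hu, e⟩ := hall
  exact ⟨u, hu, (hk _).1 (by rw [map_sub, e, sub_self])⟩

theorem SL2Model.injective {E : Subgroup P} (h : SL2Model f E) {g : P} (hg : g ∈ E)
    (hm : ∀ v, f g v - v ∈ fixed f E) : g = 1 := by
  obtain ⟨n, -, K, iK, iKt, -, ρ, ψ, hs, hk, hψ⟩ := h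
  have h1 : (ρ ⟨g, hg⟩ : Matrix.SpecialLinearGroup (Fin 2) K) = 1 := by
    refine Subtype.ext (Matrix.ext fun i j => ?_)
    obtain ⟨v, hv⟩ := hs (Pi.single j 1)
    have h2 := (hk _).2 (hm v)
    rw [map_sub, hψ ⟨g, hg⟩, hv, sub_eq_zero] at h2
    simpa [Matrix.one_apply, Pi.single_apply] using congrFun h2 i
  rw [← map_one ρ] at h1
  exact congrArg Subtype.val (ρ.injective h1)

theorem PermModel.injective {E : Subgroup P} (h : PermModel f E) {g : P} (hg : g ∈ E)
    (hm : ∀ v, f g v - v ∈ fixed f E) : g = 1 := by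
  obtain ⟨-, n, hn, ρ, ψ, -, hs, hk, hψ⟩ := h
  have h2n : 2 ≤ 2 ^ n := by
    calc 2 = 2 ^ 1 := (pow_one 2).symm
      _ ≤ 2 ^ n := Nat.pow_le_pow_right (by norm_num) hn
  have h1 : (ρ ⟨g, hg⟩)⁻¹ = 1 := by
    refine Equiv.ext fun i => ?_
    by_contra hne
    simp only [Equiv.Perm.coe_one, id_eq] at hne
    obtain ⟨b, -, hb⟩ : ∃ b ∈ (Finset.univ : Finset (Fin (2 ^ n + 1))), b ∉ ({i, (ρ ⟨g, hg⟩)⁻¹ i} : Finset _) := by
      refine Finset.exists_mem_notMem_of_card_lt_card ?_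
      rw [Finset.card_univ, Fintype.card_fin]
      exact Finset.card_le_two.trans_lt (by omega)
    simp only [Finset.mem_insert, Finset.mem_singleton, not_or] at hb
    obtain ⟨v, hv⟩ := hs (Pi.single i 1 + Pi.single b 1) (by
      simp [Finset.sum_add_distrib, Finset.sum_pi_single', CharTwo.add_self_eq_zero])
    have h2 := congrFun ((hk _).2 (hm v)) i
    rw [map_sub, Pi.sub_apply, hψ ⟨g, hg⟩, hv] at h2
    rw [Pi.add_apply, Pi.add_apply, Pi.single_eq_of_ne hne, Pi.single_eq_of_ne (Ne.symm hb.2),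
      Pi.single_eq_same, Pi.single_eq_of_ne (Ne.symm hb.1)] at h2
    simp at h2
  rw [inv_eq_one, ← map_one ρ] at h1
  exact congrArg Subtype.val (ρ.injective h1)

namespace Decomp

variable {S : Subgroup P} {ι : Type*} {E : ι → Subgroup P} (D : Decomp f S E)
include D

theorem cover_one (i : ι) (v : V) : ∃ u ∈ commSpace f (E i), v - u ∈ fixed f (E i) :=
  (D.model i).elim (fun h => h.cover v) fun h => h.cover v

theorem commSpace_le {i j : ι} (h : i ≠ j) : commSpace f (E j) ≤ fixed f (E i) :=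
  Submodule.span_le.2 (by rintro _ ⟨g, hg, v, rfl⟩; exact D.orth i j h g hg v)

theorem cover [Fintype ι] : fixed f (⨆ i, E i) ⊔ (⨆ i, commSpace f (E i)) = ⊤ := by
  classical
  refine eq_top_iff.2 fun v _ => ?_
  choose u hu hvu using fun i => D.cover_one i v
  have h1 : ∀ i, v - ∑ j, u j ∈ fixed f (E i) := fun i => by
    rw [← Finset.add_sum_erase _ _ (Finset.mem_univ i), ← sub_sub]
    exact sub_mem (hvu i) (sum_mem fun j hj => D.commSpace_le (Finset.ne_of_mem_erase hj).symm (hu j))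
  have h2 : ∑ j, u j ∈ ⨆ i, commSpace f (E i) := sum_mem fun j _ => Submodule.mem_iSup_of_mem j (hu j)
  exact sub_add_cancel v (∑ j, u j) ▸ add_mem (Submodule.mem_sup_left (fix_iSup E h1)) (Submodule.mem_sup_right h2)

theorem inter (i : ι) : E i ⊓ (⨆ j ∈ {j | j ≠ i}, E j) = ⊥ := by
  rw [Subgroup.eq_bot_iff_forall]
  rintro g ⟨hgi, hgr⟩
  have hinv : ∀ j : ι, j ≠ i → ∀ x ∈ E j, ∀ z ∈ fixed f (E i), f x z ∈ fixed f (E i) := fun j hj x hx z hz y hy => by
    rw [← mul_app, ← D.comm j i hj x hx y hy, mul_app, hz y hy]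
  have hm : ∀ v, f g v - v ∈ fixed f (E i) :=
    move_iSup (fun j => ⨆ (_ : j ∈ {j | j ≠ i}), E j) (fixed f (E i)) (fun j x hx => by
      by_cases hj : j = i
      · rw [iSup_neg (by simpa using hj), Subgroup.mem_bot] at hx
        subst hx
        exact ⟨fun z hz => by simpa using hz, fun v => by simp⟩
      · rw [iSup_pos (by simpa using hj)] at hx
        exact ⟨hinv j hj x hx, D.orth i j (Ne.symm hj) x hx⟩) g hgr
  exact (D.model i).elim (fun h => h.injective hgi hm) fun h => h.injective hgi hm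

end Decomp

namespace Frame

variable {q : ℕ} {T : Sylow p P} {M : Subgroup P} (F : Frame f T M q) [Fact p.Prime] [Finite P] [Finite V]
include F

theorem exists_pow {A : Subgroup P} (hA : Gen f q A) : ∃ n, 1 ≤ n ∧ q = p ^ n := by
  obtain ⟨n, hn⟩ := IsPGroup.iff_card.1 hA.off.isPGroup
  refine ⟨n, Nat.one_le_iff_ne_zero.2 fun h0 => ?_, hA.card.symm.trans hn⟩
  have h2 := (Subgroup.one_lt_card_iff_ne_bot A).2 hA.off.ne_bot
  rw [hn, h0, pow_zero] at h2
  omega

theorem two_lt_orth (hq : 2 < q) {S A B : Subgroup P} (hS : IsSyl (T : Subgroup P) S)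
    (hA : Gen f q A) (hAS : A ≤ S) (hB : Gen f q B) (hBS : B ≤ S) (hne : A ≠ B) :
    ∀ l ∈ blockOf f q S A, ∀ v, f l v - v ∈ fixed f (blockOf f q S B) := by
  classical
  have hspec := F.block_spec hS hA hAS
  have hspecB := (F.block_spec hS hB hBS).1.sl2
  set LA := blockOf f q S A with hLA
  set LB := blockOf f q S B with hLB
  set R := others f q S A with hR
  obtain ⟨hnA, -, -, C₀, hC₀, hC₀L, hC₀A, hreg, hcov, hsup, hinf⟩ := hspec
  obtain ⟨K, iK, iKt, hK, ρ, ψ, hs, hk, hψ, hρA, hX⟩ := hspecB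
  obtain ⟨l0, -, hl0⟩ : ∃ x ∈ (Finset.univ : Finset K), x ∉ ({0, 1} : Finset K) := by
    refine Finset.exists_mem_notMem_of_card_lt_card ?_
    rw [Finset.card_univ, hK]
    exact Finset.card_le_two.trans_lt hq
  simp only [Finset.mem_insert, Finset.mem_singleton, not_or] at hl0
  let d : Matrix.SpecialLinearGroup (Fin 2) K :=
    ⟨!![l0, 0; 0, l0⁻¹], by rw [Matrix.det_fin_two_of]; simp [hl0.1]⟩
  have hdpow : ∀ n : ℕ, ((d ^ n : Matrix.SpecialLinearGroup (Fin 2) K) : Matrix (Fin 2) (Fin 2) K) =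
      !![l0 ^ n, 0; 0, l0⁻¹ ^ n] := by
    intro n
    induction n with
    | zero =>
      rw [pow_zero, Matrix.SpecialLinearGroup.coe_one, pow_zero, pow_zero]
      exact Matrix.one_fin_two
    | succ n ih =>
      rw [pow_succ, Matrix.SpecialLinearGroup.coe_mul, ih, show (d : Matrix (Fin 2) (Fin 2) K) = !![l0, 0; 0, l0⁻¹] from rfl,
        Matrix.mul_fin_two]
      simp [pow_succ]
  set h : P := ((ρ.symm d : ↥LB) : P) with hh
  have hhL : h ∈ LB := (ρ.symm d).2
  have hfix : ∀ v, f h v = v → v ∈ fixed f LB := by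
    intro v hv
    refine (hk v).1 ?_
    have h1 := hψ (ρ.symm d) v
    rw [ρ.apply_symm_apply, hv] at h1
    funext i
    have h0 := congrFun h1 0
    have h1' := congrFun h1 1
    simp only [d, Matrix.mulVec, dotProduct, Fin.sum_univ_two, Matrix.of_apply, Matrix.cons_val_zero,
      Matrix.cons_val_one, zero_mul, add_zero, zero_add] at h0 h1'
    fin_cases i
    · by_contra hne0
      exact hl0.2 ((mul_left_eq_self₀.1 h0.symm).resolve_right hne0)
    · by_contra hne0
      have := (mul_left_eq_self₀.1 h1'.symm).resolve_right hne0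
      exact hl0.2 (inv_eq_one.1 this)
  have hord : h ^ (q - 1) = 1 := by
    have h1 : d ^ (q - 1) = 1 := by
      refine Subtype.ext ?_
      rw [hdpow, inv_pow, ← hK, FiniteField.pow_card_sub_one_eq_one l0 hl0.1, inv_one,
        Matrix.SpecialLinearGroup.coe_one, Matrix.one_fin_two]
    rw [hh, ← Subgroup.coe_pow, ← map_pow, h1, map_one]
    rfl
  have hBnorm : cg h B = B := by
    have hB' : ∀ g : ↥LB, (∃ c, ρ g = Classical.GL2.uniSL c) → (g : P) ∈ B := by
      rintro g ⟨c, hc⟩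
      have hle := (F.block_spec hS hB hBS).1.le
      choose cc hcc using fun b : B => hρA ⟨b, hle b.2⟩ b.2
      have hi : Function.Injective cc := fun b b' e => by
        have : (⟨b, hle b.2⟩ : ↥LB) = ⟨b', hle b'.2⟩ := ρ.injective (by rw [hcc, hcc, e])
        exact Subtype.ext (congrArg (fun x : ↥LB => (x : P)) this)
      obtain ⟨b, hb⟩ := ((Nat.bijective_iff_injective_and_card cc).2 ⟨hi, by
        rw [hB.card, Nat.card_eq_fintype_card (α := K), hK]⟩).2 c
      have : g = ⟨b, hle b.2⟩ := ρ.injective (by rw [hc, hcc, hb])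
      rw [this]; exact b.2
    refine Subgroup.eq_of_le_of_card_ge ?_ (card_cg h B).ge
    rintro _ ⟨b, hb, rfl⟩
    have hle := (F.block_spec hS hB hBS).1.le
    obtain ⟨c, hc⟩ := hρA ⟨b, hle hb⟩ hb
    refine hB' (ρ.symm d * ⟨b, hle hb⟩ * (ρ.symm d)⁻¹) ⟨l0 * c * l0, ?_⟩
    rw [map_mul, map_mul, map_inv, ρ.apply_symm_apply, hc]
    refine Subtype.ext ?_
    rw [Matrix.SpecialLinearGroup.coe_mul, Matrix.SpecialLinearGroup.coe_mul, Matrix.SpecialLinearGroup.coe_inv]
    simp [d, Classical.GL2.uniSL, Matrix.adjugate_fin_two_of, Matrix.mul_fin_two, hl0.1]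
  have hcomm : ∀ D, Gen f q D → D ≤ S → D ≠ B → ∀ x ∈ D, x * h = h * x := fun D hD hDS hDB x hx =>
    (F.orth_gen hS hB hBS hD hDS hDB hx hhL).1
  have hcgself : ∀ D, Gen f q D → D ≤ S → D ≠ B → cg h D = D := fun D hD hDS hDB => by
    refine Subgroup.eq_of_le_of_card_ge ?_ (card_cg h D).ge
    rintro _ ⟨x, hx, rfl⟩
    rw [MulEquiv.coe_toMonoidHom, MulAut.conj_apply, ← hcomm D hD hDS hDB x hx, mul_inv_cancel_right]
    exact hx
  have hhR : cg h R = R := by
    refine Subgroup.eq_of_le_of_card_ge ?_ (card_cg h R).ge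
    rw [hR, others, cg, Subgroup.map_iSup]
    refine iSup_le fun D => le_trans (le_of_eq ?_) (le_others D.2.1 D.2.2.1 D.2.2.2)
    by_cases e : (D : Subgroup P) = B
    · rw [e]; exact hBnorm
    · exact hcgself D D.2.1 D.2.2.1 e
  have hhA : cg h A = A := hcgself A hA hAS hne
  have hhout : ∀ D, Out f q R D → Out f q R (cg h D) := fun D hD => hhR ▸ out_conj_iff h hD
  have hhC : cg h C₀ = C₀ := by
    obtain ⟨a₀, ha₀, he⟩ := hcov _ (hhout _ hC₀) fun e => hC₀A (by
      have := congrArg (cg h⁻¹) e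
      rw [cg_inv] at this
      rw [this]
      conv_lhs => rw [← hhA, cg_inv])
    have hit : ∀ n : ℕ, cg (h ^ n) C₀ = cg (a₀ ^ n) C₀ := by
      intro n
      induction n with
      | zero => rw [pow_zero, pow_zero]
      | succ n ih =>
        rw [pow_succ', ← cg_cg, ih, cg_cg, ← hcomm A hA hAS hne _ (A.pow_mem ha₀ n), ← cg_cg, ← he, cg_cg,
          ← pow_succ]
    have h1 : a₀ ^ (q - 1) = 1 := hreg _ (A.pow_mem ha₀ _) (by rw [← hit, hord, cg_one])
    obtain ⟨n, hn, hqn⟩ := F.exists_pow hA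
    have h2 : a₀ = 1 := by
      have hq : a₀ ^ q = 1 := by
        rw [hqn, show p ^ n = p * p ^ (n - 1) from by rw [← pow_succ', Nat.sub_add_cancel hn], pow_mul,
          hA.off.exp a₀ ha₀, one_pow]
      rwa [show q = q - 1 + 1 from (Nat.sub_add_cancel (by omega)).symm, pow_succ, h1, one_mul] at hq
    rw [← he, h2, cg_one]
  have hhLA : cg h LA = LA := by
    refine Subgroup.eq_of_le_of_card_ge ?_ (card_cg h LA).ge
    rw [hLA, blockOf, cg, Subgroup.map_iSup]
    exact iSup_le fun D => le_iSup_of_le ⟨cg h D, hhout D D.2⟩ le_rfl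
  have hWA : fixed f LA = (fixed f LA).map (f h) := by conv_lhs => rw [← hhLA, fixed_cg]
  have hWAinv : ∀ w ∈ fixed f LA, f h w ∈ fixed f LA := fun w hw => hWA.ge ⟨w, hw, rfl⟩
  obtain ⟨a, ha, ha1⟩ := A.bot_or_exists_ne_one.resolve_left hA.off.ne_bot
  have hta : ∀ a ∈ A, ∀ v, f h (f a v - v) = f a v - v := fun a ha v =>
    ((F.orth_gen hS hB hBS hA hAS hne ha hhL).2 v).1 h hhL
  have hmX : ∀ v, f h v - v ∈ fixed f A := fun v => hnA.free ha ha1 (by
    have h1 := hta a ha v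
    rw [map_sub, ← mul_app, ← hcomm A hA hAS hne a ha, mul_app] at h1
    have e : f a (f h v - v) - (f h v - v) = 0 := by
      rw [map_sub, sub_sub_sub_comm, sub_eq_zero]
      exact h1
    rw [e]; exact zero_mem _)
  have htriv : ∀ v, f h v - v ∈ fixed f LA := by
    intro v
    obtain ⟨u, hu, w, hw, rfl⟩ := Submodule.mem_sup.1 (hsup.ge (Submodule.mem_top (x := v)))
    rw [map_add, add_sub_add_comm]
    refine add_mem ?_ ?_
    · -- vectors fixed by `A` are commutators modulo fixed points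
      obtain ⟨K', iK', iKt', hK', ρ', ψ', hs', hk', hψ', hρA', hX'⟩ := hnA.sl2
      obtain ⟨u', hu'⟩ := hs' ![0, 1]
      let a' : K' := ψ' u 0
      choose cc hcc using fun b : A => hρA' ⟨b, hnA.le b.2⟩ b.2
      have hi : Function.Injective cc := fun b b' e => by
        have : (⟨b, hnA.le b.2⟩ : ↥LA) = ⟨b', hnA.le b'.2⟩ := ρ'.injective (by rw [hcc, hcc, e])
        exact Subtype.ext (congrArg (fun x : ↥LA => (x : P)) this)
      obtain ⟨b, hb⟩ := ((Nat.bijective_iff_injective_and_card cc).2 ⟨hi, by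
        rw [hA.card, Nat.card_eq_fintype_card (α := K'), hK']⟩).2 a'
      have hd : u - (f (b : P) u' - u') ∈ fixed f LA := by
        refine (hk' _).1 ?_
        rw [map_sub, map_sub, hψ' ⟨b, hnA.le b.2⟩, hcc, hb, hu']
        have h1 := (hX' u).1 hu
        funext i
        fin_cases i
        · simp [a', Matrix.mulVec, dotProduct, Fin.sum_univ_two, Classical.GL2.uniSL, Matrix.vecHead, Matrix.vecTail]
        · simpa [Matrix.mulVec, dotProduct, Fin.sum_univ_two, Classical.GL2.uniSL, Matrix.vecHead, Matrix.vecTail] using h1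
      have := sub_mem (hWAinv _ hd) hd
      rwa [map_sub, hta b b.2, sub_sub_sub_cancel_right] at this
    · refine hinf ⟨hmX w, ?_⟩
      have h1 : f h w ∈ fixed f C₀ := by
        rw [← hhC, fixed_cg]; exact ⟨w, hw, rfl⟩
      exact sub_mem h1 hw
  have hcent : ∀ l ∈ LA, h * l = l * h := by
    intro l hl
    have hl' : h * l * h⁻¹ ∈ LA := hhLA.le ⟨l, hl, rfl⟩
    have hinv' : ∀ w ∈ fixed f LA, ∀ x ∈ LA, f x w = w := fun w hw x hx => hw x hx
    have hmove : ∀ v, f (h * l * h⁻¹) v - f l v ∈ fixed f LA := by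
      intro v
      have e1 : f (h * l * h⁻¹) v = f (h * l) (f h⁻¹ v) := mul_app _ _ _
      set u := f h⁻¹ v with hu
      have hv : v = f h u := (app_inv h v).symm
      have h2 : f l v - f l u ∈ fixed f LA := by
        rw [← map_sub, hv, hinv' _ (htriv u) l hl]; exact htriv u
      rw [e1, mul_app, show f h (f l u) - f l v = (f h (f l u) - f l u) - (f l v - f l u) by abel]
      exact sub_mem (htriv _) h2
    have : l⁻¹ * (h * l * h⁻¹) = 1 := by
      have hm : ∀ v, f (l⁻¹ * (h * l * h⁻¹)) v - v ∈ fixed f LA := fun v => by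
        have := hinv' _ (hmove v) l⁻¹ (LA.inv_mem hl)
        rw [map_sub, inv_app, ← mul_app] at this
        rw [this]; exact hmove v
      obtain ⟨n, hn, hqn⟩ := F.exists_pow hA
      obtain ⟨K', iK', iKt', hK', ρ', ψ', hs', hk', hψ', -, -⟩ := hnA.sl2
      exact SL2Model.injective ⟨n, hn, K', iK', iKt', hK'.trans hqn, ρ', ψ', hs', hk', hψ'⟩
        (LA.mul_mem (LA.inv_mem hl) hl') hm
    rw [inv_mul_eq_one] at this
    conv_rhs => rw [this]
    group
  intro l hl v
  refine hfix _ ?_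
  rw [map_sub, ← mul_app, hcent l hl, mul_app]
  have h1 : f l (f h v - v) = f h v - v := htriv v l hl
  rw [map_sub] at h1
  exact sub_eq_sub_iff_sub_eq_sub.2 h1

theorem decomp_two_lt (hq : 2 < q) {S : Subgroup P} (hS : IsSyl (T : Subgroup P) S) :
    ∃ (r : ℕ) (E : Fin r → Subgroup P), 1 ≤ r ∧ Decomp f S E ∧
      (⨆ i, E i) = ⨆ A : {A : Subgroup P // Gen f q A ∧ A ≤ S}, blockOf f q S (A : Subgroup P) := by
  classical
  let ι := {A : Subgroup P // Gen f q A ∧ A ≤ S}
  obtain ⟨A₀, hA₀⟩ := F.gen_in_syl hS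
  have : Fintype ι := Fintype.ofFinite ι
  let e := Fintype.equivFin ι
  refine ⟨Fintype.card ι, fun i => blockOf f q S ((e.symm i : ι) : Subgroup P),
    Fintype.card_pos_iff.2 ⟨⟨A₀, hA₀⟩⟩, ?_, e.symm.surjective.iSup_comp (g := fun A : ι => blockOf f q S (A : Subgroup P))⟩
  have horth : ∀ i j : Fin (Fintype.card ι), i ≠ j → ∀ x ∈ blockOf f q S ((e.symm j : ι) : Subgroup P), ∀ v,
      f x v - v ∈ fixed f (blockOf f q S ((e.symm i : ι) : Subgroup P)) := fun i j hij =>
    F.two_lt_orth hq hS (e.symm j).2.1 (e.symm j).2.2 (e.symm i).2.1 (e.symm i).2.2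
      fun h => hij (e.symm.injective (Subtype.ext h.symm))
  have hsup : (⨆ i : Fin (Fintype.card ι), blockOf f q S ((e.symm i : ι) : Subgroup P)) =
      ⨆ A : ι, blockOf f q S (A : Subgroup P) := e.symm.surjective.iSup_comp (g := fun A : ι => blockOf f q S (A : Subgroup P))
  exact
    { comm := fun i j hij x hx y hy => comm_of_fix F.inj (fun v => horth j i hij.symm x hx v y hy)
        (fun v => horth i j hij y hy v x hx)
      orth := horth
      top := by rw [hsup]; exact (F.blocks_normal hS).2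
      normal := by rw [hsup]; exact (F.blocks_normal hS).1
      trans := fun i j => by
        obtain ⟨s, hs, hse⟩ := F.exists_smul_gen hS (e.symm i).2.1 (e.symm i).2.2 (e.symm j).2.1 (e.symm j).2.2
        exact ⟨s, hs, by rw [blockOf_conj hs, hse]⟩
      model := fun i => by
        obtain ⟨n, hn, hqn⟩ := F.exists_pow (e.symm i).2.1
        obtain ⟨K, iK, iKt, hK, ρ, ψ, hs, hk, hψ, -, -⟩ := (F.block_spec hS (e.symm i).2.1 (e.symm i).2.2).1.sl2
        exact Or.inl ⟨n, hn, K, iK, iKt, hK.trans hqn, ρ, ψ, hs, hk, hψ⟩ }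

end Frame

end Cfsg.Agent.FFNatural
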