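import Mathlib
import Cfsg.Agent.Lib.PLocal.Natural.Decomp

/-!
Offenders of order two: transvections, their clusters and the odd symmetric groups.
-/

set_option autoImplicit false
set_option linter.style.longLine false
set_option linter.unusedSectionVars false

namespace Cfsg.Agent.FFNatural

open Cfsg.Lib.Offender

variable {P V : Type*} [Group P] [AddCommGroup V] [Module (ZMod 2) V]

/-- `A` is generated by the transvection `a` with centre `x` and functional `φ`. -/
structure TV (f : Representation (ZMod 2) P V) (A : Subgroup P) (a : P) (x : V) (φ : V →+ ZMod 2) : Prop where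
  mem : a ∈ A
  all : ∀ g ∈ A, g = 1 ∨ g = a
  ne : a ≠ 1
  act : ∀ v, f a v = v + φ v • x
  ne_zero : x ≠ 0
  kill : φ x = 0
  fixedA : ∀ v, v ∈ fixed f A ↔ φ v = 0
  surj : ∃ v, φ v = 1

theorem zmod_two : ∀ c : ZMod 2, c = 0 ∨ c = 1 := by decide

theorem add_self (v : V) : v + v = 0 := by
  rw [← two_nsmul, ← Nat.cast_smul_eq_nsmul (ZMod 2)]
  exact zero_smul _ _

theorem hom_smul (φ : V →+ ZMod 2) (c : ZMod 2) (x : V) : φ (c • x) = c * φ x := by
  rcases zmod_two c with h | h <;> rw [h]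
  · rw [zero_smul, map_zero, zero_mul]
  · rw [one_smul, one_mul]

variable {f : Representation (ZMod 2) P V}

namespace TV

variable {A B : Subgroup P} {a b : P} {x y : V} {φ φ' : V →+ ZMod 2}

theorem app (h : TV f A a x φ) {v : V} (hv : φ v = 0) : f a v = v := by rw [h.act, hv, zero_smul, add_zero]

theorem app_one (h : TV f A a x φ) {v : V} (hv : φ v = 1) : f a v = v + x := by rw [h.act, hv, one_smul]

theorem mul_self (h : TV f A a x φ) : a * a = 1 := by
  rcases h.all _ (A.mul_mem h.mem h.mem) with e | e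
  · exact e
  · exact absurd (mul_left_cancel (e.trans (mul_one a).symm)) h.ne

theorem move_mem (h : TV f A a x φ) (v : V) : f a v - v = φ v • x := by rw [h.act]; abel

theorem centre_eq (h : TV f A a x φ) (h' : TV f A b y φ') : x = y := by
  have e : b = a := (h.all b h'.mem).resolve_left h'.ne
  subst e
  obtain ⟨v, hv⟩ := h.surj
  have h1 := (h.app_one hv).symm.trans (h'.act v)
  rcases zmod_two (φ' v) with h0 | h0
  · rw [h0, zero_smul] at h1; exact absurd (add_left_cancel h1) h.ne_zero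
  · rw [h0, one_smul] at h1; exact add_left_cancel h1

theorem conj [Finite P] (h : TV f A a x φ) (g : P) :
    TV f (cg g A) (g * a * g⁻¹) (f g x) (φ.comp (f g⁻¹).toAddMonoidHom) where
  mem := ⟨a, h.mem, rfl⟩
  all := by
    rintro _ ⟨b, hb, rfl⟩
    rcases h.all b hb with rfl | rfl
    · exact Or.inl (map_one _)
    · exact Or.inr rfl
  ne := fun e => h.ne (conj_eq_one_iff.1 e)
  act v := by
    show f (g * a * g⁻¹) v = v + φ (f g⁻¹ v) • f g x
    rw [mul_app, mul_app, h.act, map_add, app_inv, map_smul]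
  ne_zero := fun e => h.ne_zero (f_injective (f := f) g (e.trans (map_zero _).symm))
  kill := by show φ (f g⁻¹ (f g x)) = 0; rw [inv_app]; exact h.kill
  fixedA v := by
    show v ∈ fixed f (cg g A) ↔ φ (f g⁻¹ v) = 0
    rw [fixed_cg, ← h.fixedA]
    exact ⟨fun ⟨w, hw, e⟩ => by rw [← e, inv_app]; exact hw, fun hw => ⟨_, hw, app_inv g v⟩⟩
  surj := by
    obtain ⟨v, hv⟩ := h.surj
    exact ⟨f g v, by show φ (f g⁻¹ (f g v)) = 1; rw [inv_app]; exact hv⟩

theorem comm (h : TV f A a x φ) (h' : TV f B b y φ') (hinj : ∀ g, f g = 1 → g = 1) (h1 : φ' x = 0)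
    (h2 : φ y = 0) : ∀ u ∈ A, ∀ w ∈ B, u * w = w * u := by
  intro u hu w hw
  rcases h.all u hu with rfl | rfl
  · rw [one_mul, mul_one]
  rcases h'.all w hw with rfl | rfl
  · rw [one_mul, mul_one]
  refine comm_of_fix hinj (fun v => ?_) fun v => ?_
  · rw [h.move_mem, map_smul, h'.app h1]
  · rw [h'.move_mem, map_smul, h.app h2]

theorem kill_of_comm (h : TV f A a x φ) (h' : TV f B b y φ') (hc : a * b = b * a)
    (hne : x ≠ y) : φ' x = 0 := by
  obtain ⟨v, hv⟩ := h.surj
  have h1 : f a (f b v) = f b (f a v) := by rw [← mul_app, hc, mul_app]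
  rw [h'.act v, map_add, map_smul, h.act v, h.act y, map_add, map_smul, h'.act v, h'.act x, hv, one_smul,
    one_smul, smul_add, smul_smul] at h1
  rcases zmod_two (φ' x) with h0 | h0
  · exact h0
  rw [h0, one_smul] at h1
  rcases zmod_two (φ' v * φ y) with h3 | h3
  · rw [h3, zero_smul, add_zero] at h1
    have : y = 0 := by
      have h4 : v + x + φ' v • y = v + x + φ' v • y + y := h1.trans (by abel)
      exact left_eq_add.1 h4
    exact absurd this h'.ne_zero
  · rw [h3, one_smul] at h1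
    have h4 : v + x + φ' v • y + x = v + x + φ' v • y + y := by
      have : v + x + (φ' v • y + x) = v + φ' v • y + (x + y) := h1
      calc _ = v + x + (φ' v • y + x) := by abel
        _ = _ := this.trans (by abel)
    exact absurd (add_left_cancel h4) hne

theorem pow_four (h : TV f A a x φ) (h' : TV f B b y φ') (hinj : ∀ g, f g = 1 → g = 1) (h1 : φ' x = 0) :
    (a * b) ^ 4 = 1 := by
  refine hinj _ (LinearMap.ext fun v => ?_)
  have h2 : ∀ v, f ((a * b) ^ 2) v = v + (φ' v * φ y) • x := by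
    intro v
    rw [pow_two, mul_app, mul_app a b v, mul_app a b]
    have e1 : f a (f b v) = v + (φ v + φ' v * φ y) • x + φ' v • y := by
      rw [h'.act, map_add, map_smul, h.act, h.act, smul_add, smul_smul, add_smul]
      abel
    have e2 : f b (f a (f b v)) = v + (φ v + φ' v * φ y) • x := by
      rw [h'.act, e1, map_add, map_add, hom_smul, hom_smul, h1, h'.kill, mul_zero, mul_zero, add_zero,
        add_zero, add_assoc _ (φ' v • y), add_self, add_zero]
    rw [e2, h.act, map_add, hom_smul, h.kill, mul_zero, add_zero, add_assoc, ← add_smul,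
      add_right_comm (φ v), CharTwo.add_self_eq_zero, zero_add]
  rw [show (4 : ℕ) = 2 * 2 from rfl, pow_mul, pow_two, mul_app, h2, h2, map_add, hom_smul, h1, mul_zero,
    add_zero, add_assoc, add_self, add_zero]
  rfl

end TV

/-- The labelled model of a cluster with any number of pairs. -/
theorem perm_labelled_any {κ : Type*} [Fintype κ] [DecidableEq κ] [Nonempty κ]
    (A C : κ → Subgroup P) (a c : κ → P) (x y : κ → V) (φ φ' : κ → V →+ ZMod 2)
    (hA : ∀ i, TV f (A i) (a i) (x i) (φ i)) (hC : ∀ i, TV f (C i) (c i) (y i) (φ' i))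
    (hφx : ∀ i j, φ i (x j) = 0) (hφ'x : ∀ i j, φ' i (x j) = if i = j then 1 else 0)
    (hφy : ∀ i j, φ i (y j) = if i = j then 1 else 0) (hφ'y : ∀ i j, φ' i (y j) = if i = j then 0 else 1)
    (E : Subgroup P) (hE : E = ⨆ k : κ × Bool, if k.2 then C k.1 else A k.1)
    (hfaith : ∀ g ∈ E, (∀ v, f g v - v ∈ fixed f E) → g = 1) :
    ∃ (ρ : ↥E ≃* Equiv.Perm (Option (κ × Bool))) (ψ : V →+ (Option (κ × Bool) → ZMod 2)),
      ((∀ v, ψ v none = ∑ j, φ j v) ∧ (∀ v i, ψ v (some (i, true)) = φ' i v + ∑ j, φ j v) ∧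
        ∀ v i, ψ v (some (i, false)) = φ i v + (φ' i v + ∑ j, φ j v)) ∧
      ((∀ v, ∑ o, ψ v o = 0) ∧ (∀ w : Option (κ × Bool) → ZMod 2, ∑ o, w o = 0 → ∃ v, ψ v = w) ∧
        (∀ v, ψ v = 0 ↔ v ∈ fixed f E) ∧ ∀ (g : ↥E) v o, ψ (f g v) o = ψ v ((ρ g)⁻¹ o)) ∧
      (∀ i (h : a i ∈ E), ρ ⟨a i, h⟩ = Equiv.swap (some (i, false)) (some (i, true))) ∧
      ∀ i (h : c i ∈ E), ρ ⟨c i, h⟩ = Equiv.swap none (some (i, true)) := by
  classical
  let ψ : V →+ (Option (κ × Bool) → ZMod 2) := AddMonoidHom.mk' (fun v o => o.elim (∑ j, φ j v)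
      fun k => if k.2 then φ' k.1 v + ∑ j, φ j v else φ k.1 v + (φ' k.1 v + ∑ j, φ j v)) (by
    intro v w
    funext o
    rcases o with _ | ⟨i, _ | _⟩ <;>
      simp only [Option.elim, Pi.add_apply, map_add, Finset.sum_add_distrib, if_true, Bool.false_eq_true,
        if_false] <;> abel)
  have hn : ∀ v, ψ v none = ∑ j, φ j v := fun v => rfl
  have ht : ∀ v i, ψ v (some (i, true)) = φ' i v + ∑ j, φ j v := fun v i => rfl
  have hf' : ∀ v i, ψ v (some (i, false)) = φ i v + (φ' i v + ∑ j, φ j v) := fun v i => rfl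
  have hsumx : ∀ i, ∑ j, φ j (x i) = 0 := fun i => Finset.sum_eq_zero fun j _ => hφx j i
  have hsumy : ∀ i, ∑ j, φ j (y i) = 1 := fun i => by
    rw [Finset.sum_eq_single i (fun j _ hj => by rw [hφy, if_neg hj]) (fun h => absurd (Finset.mem_univ i) h),
      hφy, if_pos rfl]
  have hψx : ∀ i, ψ (x i) = Pi.single (some (i, false)) 1 + Pi.single (some (i, true)) 1 := by
    intro i
    funext o
    rcases o with _ | ⟨j, _ | _⟩
    · simp [hn, hsumx]
    · simp [hf', hsumx, hφx, hφ'x, Pi.single_apply]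
    · simp [ht, hsumx, hφ'x, Pi.single_apply]
  have hψy : ∀ i, ψ (y i) = Pi.single none 1 + Pi.single (some (i, true)) 1 := by
    intro i
    funext o
    rcases o with _ | ⟨j, _ | _⟩
    · simp [hn, hsumy]
    · by_cases hji : j = i <;> simp [hf', hsumy, hφy, hφ'y, hji, CharTwo.add_self_eq_zero]
    · by_cases hji : j = i <;> simp [ht, hsumy, hφ'y, hji, Pi.single_apply, CharTwo.add_self_eq_zero]
  have hswap : ∀ (s t : Option (κ × Bool)) (w : Option (κ × Bool) → ZMod 2) (o : Option (κ × Bool)), s ≠ t →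
      (w + (w s + w t) • (Pi.single s 1 + Pi.single t 1 : Option (κ × Bool) → ZMod 2)) o = w (Equiv.swap s t o) := by
    intro s t w o hst
    simp only [Pi.add_apply, Pi.smul_apply, smul_eq_mul]
    by_cases h1 : o = s
    · subst h1
      rw [Equiv.swap_apply_left, Pi.single_eq_same, Pi.single_eq_of_ne hst, add_zero, mul_one, ← add_assoc,
        CharTwo.add_self_eq_zero, zero_add]
    by_cases h2 : o = t
    · subst h2
      rw [Equiv.swap_apply_right, Pi.single_eq_same, Pi.single_eq_of_ne h1, zero_add, mul_one, add_left_comm,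
        CharTwo.add_self_eq_zero, add_zero]
    rw [Equiv.swap_apply_of_ne_of_ne h1 h2, Pi.single_eq_of_ne h1, Pi.single_eq_of_ne h2, add_zero, mul_zero,
      add_zero]
  let good : P → Equiv.Perm (Option (κ × Bool)) → Prop := fun g σ => ∀ v o, ψ (f g v) o = ψ v (σ⁻¹ o)
  have hga : ∀ i, good (a i) (Equiv.swap (some (i, false)) (some (i, true))) := fun i v o => by
    have e1 : ψ (f (a i) v) = ψ v + φ i v • ψ (x i) := by
      rw [(hA i).act, map_add]
      rcases zmod_two (φ i v) with h | h <;> simp [h]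
    have e2 : φ i v = ψ v (some (i, false)) + ψ v (some (i, true)) := by
      rw [hf', ht, add_assoc, CharTwo.add_self_eq_zero, add_zero]
    rw [e1, hψx, e2, Equiv.swap_inv]
    exact hswap _ _ _ o (by simp)
  have hgc : ∀ i, good (c i) (Equiv.swap none (some (i, true))) := fun i v o => by
    have e1 : ψ (f (c i) v) = ψ v + φ' i v • ψ (y i) := by
      rw [(hC i).act, map_add]
      rcases zmod_two (φ' i v) with h | h <;> simp [h]
    have e2 : φ' i v = ψ v none + ψ v (some (i, true)) := by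
      rw [hn, ht, add_left_comm, CharTwo.add_self_eq_zero, add_zero]
    rw [e1, hψy, e2, Equiv.swap_inv]
    exact hswap _ _ _ o (by simp)
  have hAE : ∀ i, A i ≤ E := fun i => hE ▸ le_iSup_of_le (i, false) le_rfl
  have hCE : ∀ i, C i ≤ E := fun i => hE ▸ le_iSup_of_le (i, true) le_rfl
  have hex : ∀ g : ↥E, ∃ σ, good g σ := by
    rintro ⟨g, hg⟩
    rw [hE] at hg
    refine Subgroup.iSup_induction (fun k : κ × Bool => if k.2 then C k.1 else A k.1)
      (C := fun g => ∃ σ, good g σ) hg ?_ ⟨1, fun v o => by simp⟩ ?_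
    · rintro ⟨i, _ | _⟩ g hg
      · rcases (hA i).all g (by simpa using hg) with rfl | rfl
        · exact ⟨1, fun v o => by simp⟩
        · exact ⟨_, hga i⟩
      · rcases (hC i).all g (by simpa using hg) with rfl | rfl
        · exact ⟨1, fun v o => by simp⟩
        · exact ⟨_, hgc i⟩
    · rintro g k ⟨σ, hσ⟩ ⟨τ, hτ⟩
      refine ⟨σ * τ, fun v o => ?_⟩
      rw [mul_app, hσ, hτ, mul_inv_rev, Equiv.Perm.mul_apply]
  choose σ hσ using hex
  have heven : ∀ v, ∑ o, ψ v o = 0 := by
    intro v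
    rw [Fintype.sum_option, hn, Fintype.sum_prod_type]
    simp only [Fintype.sum_bool, ht, hf']
    rw [← Finset.sum_add_distrib]
    refine Finset.sum_eq_zero fun i _ => ?_
    rw [add_left_comm (φ' i v + _) (φ i v), CharTwo.add_self_eq_zero, add_zero, CharTwo.add_self_eq_zero]
  have hon : ∀ o, o ≠ none → ∃ v, ψ v = Pi.single o 1 + Pi.single none 1 := by
    rintro (_ | ⟨i, _ | _⟩) ho
    · exact absurd rfl ho
    · refine ⟨x i + y i, ?_⟩
      rw [map_add, hψx, hψy]
      funext o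
      simp only [Pi.add_apply]
      rw [show ∀ a b c : ZMod 2, a + b + (c + b) = a + c from by decide]
    · exact ⟨y i, by rw [hψy, add_comm]⟩
  have hsurj : ∀ w : Option (κ × Bool) → ZMod 2, ∑ o, w o = 0 → ∃ v, ψ v = w := by
    intro w hw
    choose v hv using fun k : κ × Bool => hon (some k) (by simp)
    refine ⟨∑ k, w (some k) • v k, ?_⟩
    have hsm : ∀ (c : ZMod 2) (u : V), ψ (c • u) = c • ψ u := fun c u => by
      rcases zmod_two c with h | h <;> simp [h]
    funext o
    rw [map_sum, Finset.sum_apply]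
    simp only [hsm, hv, Pi.smul_apply, Pi.add_apply, smul_eq_mul, mul_add, Finset.sum_add_distrib]
    rcases o with _ | k
    · simp only [ne_eq, reduceCtorEq, not_false_eq_true, Pi.single_eq_of_ne', Pi.single_eq_same, mul_one,
        mul_zero, Finset.sum_const_zero, zero_add]
      rw [Fintype.sum_option, CharTwo.add_eq_zero] at hw
      exact hw.symm
    · simp [Pi.single_apply]
  have huniq : ∀ σ τ : Equiv.Perm (Option (κ × Bool)), (∀ v o, ψ v (σ⁻¹ o) = ψ v (τ⁻¹ o)) → σ = τ := by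
    intro σ τ h
    refine inv_injective (Equiv.ext fun o => ?_)
    by_contra hne
    obtain ⟨u, -, hu⟩ : ∃ u ∈ (Finset.univ : Finset (Option (κ × Bool))), u ∉ ({σ⁻¹ o, τ⁻¹ o} : Finset _) := by
      refine Finset.exists_mem_notMem_of_card_lt_card ?_
      rw [Finset.card_univ, Fintype.card_option, Fintype.card_prod, Fintype.card_bool]
      have := Fintype.card_pos (α := κ)
      exact Finset.card_le_two.trans_lt (by omega)
    simp only [Finset.mem_insert, Finset.mem_singleton, not_or] at hu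
    obtain ⟨v, hv⟩ := hsurj (Pi.single (σ⁻¹ o) 1 + Pi.single u 1)
      (by simp [Finset.sum_add_distrib, Finset.sum_pi_single', CharTwo.add_self_eq_zero])
    have h1 := h v o
    rw [hv, Pi.add_apply, Pi.add_apply, Pi.single_eq_same, Pi.single_eq_of_ne (Ne.symm hu.1),
      Pi.single_eq_of_ne (Ne.symm hne), Pi.single_eq_of_ne (Ne.symm hu.2)] at h1
    simp at h1
  have hker : ∀ v, ψ v = 0 ↔ v ∈ fixed f E := by
    intro v
    constructor
    · intro h
      have hφ : ∀ i, φ i v = 0 := fun i => by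
        have h1 := congrFun h (some (i, false))
        have h2 := congrFun h (some (i, true))
        rw [hf'] at h1; rw [ht] at h2
        rwa [h2, Pi.zero_apply, add_zero] at h1
      have hφ' : ∀ i, φ' i v = 0 := fun i => by
        have h2 := congrFun h (some (i, true))
        rwa [ht, Finset.sum_eq_zero (fun j _ => hφ j), add_zero] at h2
      rw [hE]
      refine fix_iSup _ ?_
      rintro ⟨i, _ | _⟩
      · simpa using ((hA i).fixedA v).2 (hφ i)
      · simpa using ((hC i).fixedA v).2 (hφ' i)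
    · intro h
      have hφ : ∀ i, φ i v = 0 := fun i => ((hA i).fixedA v).1 (fixed_anti (hAE i) h)
      have hφ' : ∀ i, φ' i v = 0 := fun i => ((hC i).fixedA v).1 (fixed_anti (hCE i) h)
      funext o
      rcases o with _ | ⟨i, _ | _⟩ <;> simp [hn, ht, hf', hφ, hφ']
  have hmul : ∀ g k : ↥E, σ (g * k) = σ g * σ k := fun g k => huniq _ _ fun v o => by
    rw [← hσ, Subgroup.coe_mul, mul_app, hσ, hσ, mul_inv_rev, Equiv.Perm.mul_apply]
  let ρ : ↥E →* Equiv.Perm (Option (κ × Bool)) := MonoidHom.mk' σ hmul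
  have hinj : Function.Injective ρ := by
    refine (injective_iff_map_eq_one ρ).2 fun g hg => Subtype.ext (hfaith g g.2 fun v => ?_)
    refine (hker _).1 ?_
    funext o
    rw [map_sub, Pi.sub_apply, hσ, show σ g = 1 from hg, inv_one, Equiv.Perm.one_apply, sub_self]
    rfl
  have hsurjρ : Function.Surjective ρ := by
    have hgood : ∀ (g : ↥E) τ, good g τ → τ ∈ ρ.range := fun g τ h =>
      ⟨g, show σ g = τ from huniq _ _ fun v o => by rw [← hσ, h]⟩
    have h1 : ∀ i, Equiv.swap (some (i, false)) (some (i, true)) ∈ ρ.range := fun i =>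
      hgood ⟨a i, hAE i (hA i).mem⟩ _ (hga i)
    have h2 : ∀ i, Equiv.swap none (some (i, true)) ∈ ρ.range := fun i =>
      hgood ⟨c i, hCE i (hC i).mem⟩ _ (hgc i)
    have h3 : ∀ o : Option (κ × Bool), o ≠ none → Equiv.swap none o ∈ ρ.range := by
      rintro (_ | ⟨i, _ | _⟩) ho
      · exact absurd rfl ho
      · have h4 := ρ.range.mul_mem (ρ.range.mul_mem (h1 i) (h2 i)) (h1 i)
        rw [Equiv.swap_comm (some (i, false)), Equiv.swap_mul_swap_mul_swap (by simp) (by simp), Equiv.swap_comm] at h4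
        exact h4
      · exact h2 i
    rw [← MonoidHom.range_eq_top, eq_top_iff, ← Equiv.Perm.closure_isSwap, Subgroup.closure_le]
    rintro τ ⟨s, t, hst, rfl⟩
    by_cases hs : s = none
    · subst hs; exact h3 t (Ne.symm hst)
    by_cases ht' : t = none
    · subst ht'; rw [Equiv.swap_comm]; exact h3 s hs
    have h4 := ρ.range.mul_mem (ρ.range.mul_mem (h3 s hs) (h3 t ht')) (h3 s hs)
    have e : Equiv.swap none s * Equiv.swap none t * Equiv.swap none s = Equiv.swap s t := by
      conv_lhs => arg 1; rw [Equiv.mul_swap_eq_swap_mul]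
      rw [Equiv.swap_apply_left, Equiv.swap_apply_of_ne_of_ne ht' (Ne.symm hst),
        mul_assoc, Equiv.swap_mul_self, mul_one]
    rw [e] at h4
    exact h4
  refine ⟨MulEquiv.ofBijective ρ ⟨hinj, hsurjρ⟩, ψ, ⟨hn, ht, hf'⟩, ⟨heven, hsurj, hker, fun g v o => hσ g v o⟩,
    fun i h => huniq _ _ fun v o => ?_, fun i h => huniq _ _ fun v o => ?_⟩
  · exact (hσ ⟨a i, h⟩ v o).symm.trans (hga i v o)
  · exact (hσ ⟨c i, h⟩ v o).symm.trans (hgc i v o)

/-- The labelled model of a cluster: `a i` and `c i` are transpositions. -/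
theorem perm_labelled {κ : Type*} [Fintype κ] [DecidableEq κ] [Nonempty κ] {b : ℕ} (_hb : Fintype.card κ = 2 ^ b)
    (A C : κ → Subgroup P) (a c : κ → P) (x y : κ → V) (φ φ' : κ → V →+ ZMod 2)
    (hA : ∀ i, TV f (A i) (a i) (x i) (φ i)) (hC : ∀ i, TV f (C i) (c i) (y i) (φ' i))
    (hφx : ∀ i j, φ i (x j) = 0) (hφ'x : ∀ i j, φ' i (x j) = if i = j then 1 else 0)
    (hφy : ∀ i j, φ i (y j) = if i = j then 1 else 0) (hφ'y : ∀ i j, φ' i (y j) = if i = j then 0 else 1)
    (E : Subgroup P) (hE : E = ⨆ k : κ × Bool, if k.2 then C k.1 else A k.1)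
    (hfaith : ∀ g ∈ E, (∀ v, f g v - v ∈ fixed f E) → g = 1) :
    ∃ (ρ : ↥E ≃* Equiv.Perm (Option (κ × Bool))) (ψ : V →+ (Option (κ × Bool) → ZMod 2)),
      ((∀ v, ψ v none = ∑ j, φ j v) ∧ (∀ v i, ψ v (some (i, true)) = φ' i v + ∑ j, φ j v) ∧
        ∀ v i, ψ v (some (i, false)) = φ i v + (φ' i v + ∑ j, φ j v)) ∧
      ((∀ v, ∑ o, ψ v o = 0) ∧ (∀ w : Option (κ × Bool) → ZMod 2, ∑ o, w o = 0 → ∃ v, ψ v = w) ∧
        (∀ v, ψ v = 0 ↔ v ∈ fixed f E) ∧ ∀ (g : ↥E) v o, ψ (f g v) o = ψ v ((ρ g)⁻¹ o)) ∧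
      (∀ i (h : a i ∈ E), ρ ⟨a i, h⟩ = Equiv.swap (some (i, false)) (some (i, true))) ∧
      ∀ i (h : c i ∈ E), ρ ⟨c i, h⟩ = Equiv.swap none (some (i, true)) :=
  perm_labelled_any A C a c x y φ φ' hA hC hφx hφ'x hφy hφ'y E hE hfaith

/-- A cluster of transvection pairs is a symmetric group on its even permutation module. -/
theorem perm_model {κ : Type*} [Fintype κ] [DecidableEq κ] [Nonempty κ] {b : ℕ} (hb : Fintype.card κ = 2 ^ b)
    (A C : κ → Subgroup P) (a c : κ → P) (x y : κ → V) (φ φ' : κ → V →+ ZMod 2)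
    (hA : ∀ i, TV f (A i) (a i) (x i) (φ i)) (hC : ∀ i, TV f (C i) (c i) (y i) (φ' i))
    (hφx : ∀ i j, φ i (x j) = 0) (hφ'x : ∀ i j, φ' i (x j) = if i = j then 1 else 0)
    (hφy : ∀ i j, φ i (y j) = if i = j then 1 else 0) (hφ'y : ∀ i j, φ' i (y j) = if i = j then 0 else 1)
    (E : Subgroup P) (hE : E = ⨆ k : κ × Bool, if k.2 then C k.1 else A k.1)
    (hfaith : ∀ g ∈ E, (∀ v, f g v - v ∈ fixed f E) → g = 1) : PermModel f E := by
  classical
  let e : Fin (2 ^ (b + 1) + 1) ≃ Option (κ × Bool) := (Fintype.equivFinOfCardEq (by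
    rw [Fintype.card_option, Fintype.card_prod, Fintype.card_bool, hb, pow_succ])).symm
  obtain ⟨ρ, ψ, -, ⟨heven, hsurj, hker, heq⟩, -, -⟩ :=
    perm_labelled hb A C a c x y φ φ' hA hC hφx hφ'x hφy hφ'y E hE hfaith
  refine ⟨rfl, b + 1, Nat.le_add_left 1 b, ρ.trans e.symm.permCongrHom,
    AddMonoidHom.mk' (fun v i => ψ v (e i)) (fun v w => by funext i; simp), fun v => ?_, fun w hw => ?_,
    fun v => ?_, fun g v i => ?_⟩
  · show ∑ i, ψ v (e i) = 0
    rw [Equiv.sum_comp e (ψ v)]; exact heven v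
  · obtain ⟨v, hv⟩ := hsurj (fun o => w (e.symm o)) (by rw [Equiv.sum_comp e.symm w]; exact hw)
    exact ⟨v, funext fun i => by show ψ v (e i) = w i; rw [hv]; simp⟩
  · rw [← hker]
    exact ⟨fun h => funext fun o => by simpa using congrFun h (e.symm o), fun h => funext fun i => congrFun h (e i)⟩
  · show ψ (f g v) (e i) = _
    rw [heq]
    refine congrArg (ψ v) ?_
    show (ρ g)⁻¹ (e i) = e ((e.symm.permCongrHom (ρ g))⁻¹ i)
    rw [← map_inv]
    simp [Equiv.permCongrHom, Equiv.permCongr_def]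

end Cfsg.Agent.FFNatural
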