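import Mathlib
import Cfsg.Agent.Lib.PLocal.Natural.Transvection

/-!
Linked transvection pairs form clusters.
-/

set_option autoImplicit false
set_option linter.style.longLine false
set_option linter.unusedSectionVars false

namespace Cfsg.Agent.FFNatural

open Cfsg.Lib.Offender

universe v

variable {P : Type v} {V : Type*} [Group P] [AddCommGroup V] [Module (ZMod 2) V]
variable {f : Representation (ZMod 2) P V}

/-- A cluster of linked transvection pairs. -/
structure Clust (f : Representation (ZMod 2) P V) (S : Subgroup P) {κ : Type v} [Fintype κ] [DecidableEq κ]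
    (A C : κ → Subgroup P) (a c : κ → P) (x y : κ → V) (φ φ' : κ → V →+ ZMod 2) (E : Subgroup P) : Prop where
  gen : ∀ i, Gen f 2 (A i) ∧ A i ≤ S
  cmem : ∀ i, C i ≤ blockOf f 2 S (A i)
  ble : ∀ i, blockOf f 2 S (A i) ≤ A i ⊔ C i
  tvA : ∀ i, TV f (A i) (a i) (x i) (φ i)
  tvC : ∀ i, TV f (C i) (c i) (y i) (φ' i)
  phi_x : ∀ i j, φ i (x j) = 0
  phi'_x : ∀ i j, φ' i (x j) = if i = j then 1 else 0
  phi_y : ∀ i j, φ i (y j) = if i = j then 1 else 0
  phi'_y : ∀ i j, φ' i (y j) = if i = j then 0 else 1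
  eq : E = ⨆ k : κ × Bool, if k.2 then C k.1 else A k.1
  faith : ∀ g ∈ E, (∀ v, f g v - v ∈ fixed f E) → g = 1
  card : ∃ b, Fintype.card κ = 2 ^ b
  nonempty : Nonempty κ

namespace Frame

variable {T : Sylow 2 P} {M : Subgroup P} (F : Frame f T M 2) [Fact (Nat.Prime 2)] [Finite P] [Finite V]
include F

theorem exists_tv {A : Subgroup P} (hA : Gen f 2 A) : ∃ a x φ, TV f A a x φ := by
  classical
  obtain ⟨a, ha, ha1⟩ := A.bot_or_exists_ne_one.resolve_left hA.off.ne_bot
  have hall : ∀ g ∈ A, g = 1 ∨ g = a := by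
    intro g hg
    refine or_iff_not_imp_left.2 fun hg1 => ?_
    obtain ⟨z, -, hz⟩ := (Nat.card_eq_two_iff' (1 : ↥A)).1 hA.card
    exact congrArg Subtype.val ((hz ⟨g, hg⟩ fun e => hg1 (congrArg Subtype.val e)).trans
      (hz ⟨a, ha⟩ fun e => ha1 (congrArg Subtype.val e)).symm)
  set X := fixed f A with hX
  have hmemX : ∀ v, v ∈ X ↔ f a v = v := fun v => ⟨fun h => h a ha, fun h g hg => by
    rcases hall g hg with rfl | rfl
    · simp
    · exact h⟩
  obtain ⟨v₀, hv₀⟩ : ∃ v, v ∉ X := by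
    by_contra hno
    push Not at hno
    exact ha1 (F.inj a (LinearMap.ext fun v => (hmemX v).1 (hno v)))
  have hq : Nat.card (V ⧸ X) ≤ 2 := by
    have h1 := Submodule.card_eq_card_quotient_mul_card X
    have h2 := hA.off.bound
    rw [hA.card, h1, mul_comm] at h2
    exact Nat.le_of_mul_le_mul_left (by linarith) (Nat.card_pos (α := ↥X))
  have hsum : ∀ v w, v ∉ X → w ∉ X → v + w ∈ X := by
    intro v w hv hw
    have : Finite (V ⧸ X) := Finite.of_surjective _ (Submodule.mkQ_surjective _)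
    have hiff : ∀ u, X.mkQ u = 0 ↔ u ∈ X := fun u => Submodule.Quotient.mk_eq_zero X
    have h2 : Nat.card (V ⧸ X) = 2 := by
      have : Nontrivial (V ⧸ X) := ⟨⟨X.mkQ v, 0, fun e => hv ((hiff v).1 e)⟩⟩
      have := Finite.one_lt_card (α := V ⧸ X)
      omega
    obtain ⟨z, -, hz⟩ := (Nat.card_eq_two_iff' (0 : V ⧸ X)).1 h2
    refine (hiff _).1 ?_
    rw [map_add, hz (X.mkQ v) fun e => hv ((hiff v).1 e), hz (X.mkQ w) fun e => hw ((hiff w).1 e)]
    exact add_self z
  let φ : V →+ ZMod 2 := AddMonoidHom.mk' (fun v => if v ∈ X then 0 else 1) fun v w => by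
    by_cases hv : v ∈ X <;> by_cases hw : w ∈ X <;> simp only [hv, hw, if_true, if_false]
    · simp [X.add_mem hv hw]
    · rw [if_neg fun h => hw ((X.add_mem_iff_right hv).1 h), zero_add]
    · rw [if_neg fun h => hv ((X.add_mem_iff_left hw).1 h), add_zero]
    · simp [hsum v w hv hw, CharTwo.add_self_eq_zero]
  have hφ : ∀ v, φ v = if v ∈ X then 0 else 1 := fun v => rfl
  have haa : a * a = 1 := by rw [← pow_two]; exact hA.off.exp a ha
  refine ⟨a, f a v₀ - v₀, φ, ha, hall, ha1, fun v => ?_, fun e => hv₀ ((hmemX v₀).2 (sub_eq_zero.1 e)), ?_,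
    fun v => ?_, v₀, by rw [hφ, if_neg hv₀]⟩
  · by_cases hv : v ∈ X
    · rw [hφ, if_pos hv, zero_smul, add_zero]; exact (hmemX v).1 hv
    · rw [hφ, if_neg hv, one_smul]
      have h1 := (hmemX _).1 (hsum v v₀ hv hv₀)
      rw [map_add] at h1
      have e : f a v = v + v₀ - f a v₀ := eq_sub_of_add_eq h1
      have hneg : ∀ u : V, -u = u := fun u => neg_eq_of_add_eq_zero_left (add_self u)
      rw [e, sub_eq_add_neg, sub_eq_add_neg, hneg, hneg]
      abel
  · rw [hφ, if_pos ((hmemX _).2 ?_)]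
    have hneg : ∀ u : V, -u = u := fun u => neg_eq_of_add_eq_zero_left (add_self u)
    rw [map_sub, ← mul_app, haa, map_one, Module.End.one_apply, sub_eq_add_neg, sub_eq_add_neg, hneg, hneg,
      add_comm]
  · rw [hφ]
    by_cases hv : v ∈ X
    · simp [hv]; exact hv
    · simp [hv]; exact hv

theorem tv_symm {A B : Subgroup P} {a b : P} {x y : V} {φ φ' : V →+ ZMod 2} (hA : Gen f 2 A) (hB : Gen f 2 B)
    (h : TV f A a x φ) (h' : TV f B b y φ') (h0 : φ' x = 0) : φ y = 0 := by
  by_cases e : y = x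
  · rw [e]; exact h.kill
  set Z := Subgroup.zpowers (a * b) with hZ
  have hZp : IsPGroup 2 Z := by
    rintro ⟨g, n, rfl⟩
    refine ⟨2, Subtype.ext ?_⟩
    rw [Subgroup.coe_pow]
    show ((a * b) ^ n) ^ (2 ^ 2 : ℕ) = 1
    rw [← zpow_natCast, ← zpow_mul, mul_comm, zpow_mul, zpow_natCast, show (2 ^ 2 : ℕ) = 4 from rfl,
      h.pow_four h' F.inj h0, one_zpow]
  have hN : A ≤ Subgroup.normalizer (Z : Set P) := by
    intro g hg
    rcases h.all g hg with rfl | rfl
    · exact Subgroup.one_mem _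
    refine cg_eq_iff.1 ?_
    rw [hZ, cg, MonoidHom.map_zpowers]
    have : (MulAut.conj g).toMonoidHom (g * b) = (g * b)⁻¹ := by
      rw [MulEquiv.coe_toMonoidHom, MulAut.conj_apply, mul_inv_rev, ← mul_assoc g g, h.mul_self, one_mul,
        inv_eq_of_mul_eq_one_left h.mul_self, inv_eq_of_mul_eq_one_left h'.mul_self]
    rw [this, Subgroup.zpowers_inv]
  have hX : IsPGroup 2 ↥(Z ⊔ A : Subgroup P) := hZp.to_sup_of_normal_left' hA.off.isPGroup hN
  have hBX : B ≤ Z ⊔ A := by
    intro g hg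
    rcases h'.all g hg with rfl | rfl
    · exact one_mem _
    have h2 := mul_mem (Subgroup.mem_sup_right h.mem : a ∈ Z ⊔ A) (Subgroup.mem_sup_left (Subgroup.mem_zpowers (a * g)) : a * g ∈ Z ⊔ A)
    rwa [← mul_assoc, h.mul_self, one_mul] at h2
  exact h'.kill_of_comm h (F.comm_of_pgroup hB hA hX hBX le_sup_right b h'.mem a h.mem) e

theorem pair_data {S A : Subgroup P} (hS : IsSyl (T : Subgroup P) S) (hA : Gen f 2 A) (hAS : A ≤ S) :
    ∃ C a x φ c y φ', Gen f 2 C ∧ C ≤ blockOf f 2 S A ∧ blockOf f 2 S A ≤ A ⊔ C ∧ TV f A a x φ ∧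
      TV f C c y φ' ∧ φ' x = 1 ∧ φ y = 1 := by
  obtain ⟨hn, -, -, C, hC, hCL, hCA, hreg, hcov, hsup, hinf⟩ := F.block_spec hS hA hAS
  obtain ⟨a, x, φ, hTA⟩ := F.exists_tv hA
  obtain ⟨c, y, φ', hTC⟩ := F.exists_tv hC.gen
  have hle : blockOf f 2 S A ≤ A ⊔ C := iSup_le fun D => by
    by_cases e : (D : Subgroup P) = A
    · exact e.le.trans le_sup_left
    · obtain ⟨a', ha', he⟩ := hcov D D.2 e
      rw [← he]
      exact cg_le_of_mem (Subgroup.mem_sup_left ha') le_sup_right
  have hnc : ¬ (φ' x = 0 ∧ φ y = 0) := by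
    rintro ⟨h1, h2⟩
    refine hTA.ne (hreg a hTA.mem (Subgroup.eq_of_le_of_card_ge ?_ (card_cg a C).ge))
    rintro _ ⟨u, hu, rfl⟩
    rw [MulEquiv.coe_toMonoidHom, MulAut.conj_apply, hTA.comm hTC F.inj h1 h2 a hTA.mem u hu,
      mul_inv_cancel_right]
    exact hu
  have h1 : φ' x = 1 := (zmod_two _).resolve_left fun h => hnc ⟨h, F.tv_symm hA hC.gen hTA hTC h⟩
  have h2 : φ y = 1 := (zmod_two _).resolve_left fun h => hnc ⟨F.tv_symm hC.gen hA hTC hTA h, h⟩
  exact ⟨C, a, x, φ, c, y, φ', hC.gen, hCL, hle, hTA, hTC, h1, h2⟩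

theorem decomp_clusters {S : Subgroup P} (hS : IsSyl (T : Subgroup P) S) :
    ∃ (r : ℕ) (E : Fin r → Subgroup P), 1 ≤ r ∧ Decomp f S E ∧
      (⨆ i, E i) = (⨆ A : {A : Subgroup P // Gen f 2 A ∧ A ≤ S}, blockOf f 2 S (A : Subgroup P)) ∧
      ∀ i, ∃ (κ : Type v) (_ : Fintype κ) (_ : DecidableEq κ) (A C : κ → Subgroup P) (a c : κ → P)
        (x y : κ → V) (φ φ' : κ → V →+ ZMod 2), Clust f S A C a c x y φ φ' (E i) := by
  classical
  let ι := {A : Subgroup P // Gen f 2 A ∧ A ≤ S}
  obtain ⟨A₀, hA₀⟩ := F.gen_in_syl hS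
  have : Fintype ι := Fintype.ofFinite ι
  have : Nonempty ι := ⟨⟨A₀, hA₀⟩⟩
  choose C a x φ c y φ' hGC hCL hLle hTA hTC hφ'x0 hφy0 using
    fun i : ι => F.pair_data hS i.2.1 i.2.2
  set L : ι → Subgroup P := fun i => blockOf f 2 S (i : Subgroup P) with hL
  have hAL : ∀ i : ι, (i : Subgroup P) ≤ L i := fun i => (F.block_spec hS i.2.1 i.2.2).1.le
  -- relations between different pairs
  have hrel : ∀ i j : ι, i ≠ j → φ i (x j) = 0 ∧ φ' i (x j) = 0 ∧ φ j (y i) = 0 := by
    intro i j hij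
    have hij' : (j : Subgroup P) ≠ i := fun e => hij (Subtype.ext e.symm)
    obtain ⟨v, hv⟩ := (hTA j).surj
    obtain ⟨w, hw⟩ := (hTC i).surj
    obtain ⟨-, ho⟩ := F.orth_gen hS i.2.1 i.2.2 j.2.1 j.2.2 hij' (hTA j).mem (hCL i (hTC i).mem)
    have hxm : x j ∈ fixed f (L i) := by
      have := (ho v).1
      rwa [(hTA j).move_mem, hv, one_smul] at this
    refine ⟨((hTA i).fixedA _).1 (fixed_anti (hAL i) hxm), ((hTC i).fixedA _).1 (fixed_anti (hCL i) hxm), ?_⟩
    have h1 := (ho w).2
    rw [(hTC i).move_mem, hw, one_smul] at h1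
    have h2 := (hTA j).move_mem (y i)
    rw [h1, sub_self] at h2
    rcases zmod_two (φ j (y i)) with h | h
    · exact h
    · rw [h, one_smul] at h2; exact absurd h2.symm (hTA j).ne_zero
  have hcomm_of : ∀ i j : ι, i ≠ j → φ' j (y i) = 0 → ∀ u ∈ L i, ∀ w ∈ L j, u * w = w * u := by
    intro i j hij h0
    have h0' : φ' i (y j) = 0 := F.tv_symm (hGC i) (hGC j) (hTC i) (hTC j) h0
    have hgen : ∀ U W : Subgroup P, (∀ u ∈ U, ∀ w ∈ W, u * w = w * u) → U ≤ Subgroup.centralizer (W : Set P) :=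
      fun U W h u hu w hw => (h u hu w hw).symm
    have key : L i ≤ Subgroup.centralizer (L j : Set P) := by
      refine (hLle i).trans ?_
      rw [Subgroup.le_centralizer_iff]
      refine (hLle j).trans (sup_le ?_ ?_) <;> rw [Subgroup.le_centralizer_iff] <;>
        refine sup_le ?_ ?_ <;> refine hgen _ _ ?_
      · exact (hTA i).comm (hTA j) F.inj (hrel j i hij.symm).1 (hrel i j hij).1
      · exact (hTC i).comm (hTA j) F.inj (hrel i j hij).2.2 (hrel i j hij).2.1
      · exact (hTA i).comm (hTC j) F.inj (hrel j i hij.symm).2.1 (hrel j i hij.symm).2.2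
      · exact (hTC i).comm (hTC j) F.inj h0 h0'
    exact fun u hu w hw => (key hu w hw).symm
  let lnk : ι → ι → Prop := fun i j => ¬ ∀ u ∈ L i, ∀ w ∈ L j, u * w = w * u
  have hlnk : ∀ i j, i ≠ j → (lnk i j ↔ φ' j (y i) = 1) := by
    intro i j hij
    refine ⟨fun h => (zmod_two _).resolve_left fun h0 => h (hcomm_of i j hij h0), fun h1 hc => ?_⟩
    have hne : y i ≠ y j := fun e => by
      rw [e, (hTC j).kill] at h1
      exact zero_ne_one h1
    have := (hTC i).kill_of_comm (hTC j) (hc _ (hCL i (hTC i).mem) _ (hCL j (hTC j).mem)) hne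
    rw [h1] at this
    exact one_ne_zero this
  have hrefl : ∀ i, lnk i i := by
    intro i hc
    have hne : x i ≠ y i := fun e => by
      have := hφy0 i
      rw [← e, (hTA i).kill] at this
      exact zero_ne_one this
    have := (hTA i).kill_of_comm (hTC i) (hc _ (hAL i (hTA i).mem) _ (hCL i (hTC i).mem)) hne
    rw [hφ'x0 i] at this
    exact one_ne_zero this
  have hsymm : ∀ i j, lnk i j → lnk j i := fun i j h hc => h fun u hu w hw => (hc w hw u hu).symm
  have htrans : ∀ i j k, lnk i j → lnk j k → lnk i k := by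
    intro i j k hij hjk
    by_cases e1 : i = j
    · exact e1 ▸ hjk
    by_cases e2 : j = k
    · exact e2 ▸ hij
    by_cases e3 : i = k
    · exact e3 ▸ hrefl i
    by_contra hik
    have hji1 : φ' j (y i) = 1 := (hlnk i j e1).1 hij
    have hij1 : φ' i (y j) = 1 := (hlnk j i (Ne.symm e1)).1 (hsymm i j hij)
    have hkj1 : φ' k (y j) = 1 := (hlnk j k e2).1 hjk
    have hjk1 : φ' j (y k) = 1 := (hlnk k j (Ne.symm e2)).1 (hsymm j k hjk)
    have hki0 : φ' k (y i) = 0 := (zmod_two _).resolve_right fun h => (hlnk i k e3).2 h hik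
    have hik0 : φ' i (y k) = 0 := (zmod_two _).resolve_right fun h => hsymm k i ((hlnk k i (Ne.symm e3)).2 h) hik
    set g := c j * (c k * (c i * a j)) with hg
    set v := f g (y j) with hvdef
    have hv : v = x j + y i + y k := by
      have s1 : f (a j) (y j) = y j + x j := (hTA j).app_one (hφy0 j)
      have s2 : f (c i) (y j + x j) = y j + x j + y i :=
        (hTC i).app_one (by rw [map_add, hij1, (hrel i j e1).2.1, add_zero])
      have s3 : f (c k) (y j + x j + y i) = y j + x j + y i + y k :=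
        (hTC k).app_one (by rw [map_add, map_add, hkj1, (hrel k j (Ne.symm e2)).2.1, hki0, add_zero, add_zero])
      have s4 : f (c j) (y j + x j + y i + y k) = y j + x j + y i + y k + y j :=
        (hTC j).app_one (by
          rw [map_add, map_add, map_add, (hTC j).kill, hφ'x0 j, hji1, hjk1, zero_add, CharTwo.add_self_eq_zero, zero_add])
      rw [hvdef, hg, mul_app, mul_app, mul_app, s1, s2, s3, s4]
      have := add_self (y j)
      calc y j + x j + y i + y k + y j = (y j + y j) + (x j + y i + y k) := by abel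
        _ = _ := by rw [this, zero_add]
    have hD := (hTC j).conj g
    have hGD : Gen f 2 (cg g (C j)) := (hGC j).conj g
    let inIK : ι → Prop := fun m => m = i ∨ m = k
    let Fm : ι → Subgroup P := fun m => if inIK m then C m else (m : Subgroup P)
    let am : ι → P := fun m => if inIK m then c m else a m
    let zm : ι → V := fun m => if inIK m then y m else x m
    let ξ : ι → V →+ ZMod 2 := fun m => if inIK m then φ' m else φ m
    have hF : ∀ m, TV f (Fm m) (am m) (zm m) (ξ m) ∧ Gen f 2 (Fm m) := fun m => by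
      by_cases hm : inIK m
      · simp only [Fm, am, zm, ξ, hm, if_true]; exact ⟨hTC m, hGC m⟩
      · simp only [Fm, am, zm, ξ, hm, if_false]; exact ⟨hTA m, m.2.1⟩
    have hξ : ∀ m m', m ≠ m' → ξ m (zm m') = 0 := by
      intro m m' hne
      by_cases hm : inIK m <;> by_cases hm' : inIK m' <;> simp only [ξ, zm, hm, hm', if_true, if_false]
      · rcases hm with rfl | rfl <;> rcases hm' with rfl | rfl
        · exact absurd rfl hne
        · exact hik0
        · exact hki0
        · exact absurd rfl hne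
      · exact (hrel m m' hne).2.1
      · exact (hrel m' m (Ne.symm hne)).2.2
      · exact (hrel m m' hne).1
    have hξv : ∀ m, ξ m v = 0 := by
      intro m
      by_cases hm : inIK m <;> simp only [ξ, hm, if_true, if_false] <;> rw [hv, map_add, map_add]
      · rcases hm with rfl | rfl
        · rw [(hrel _ j e1).2.1, (hTC _).kill, hik0, add_zero, add_zero]
        · rw [(hrel _ j (Ne.symm e2)).2.1, hki0, (hTC _).kill, add_zero, add_zero]
      · have hmi : m ≠ i := fun e => hm (Or.inl e)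
        have hmk : m ≠ k := fun e => hm (Or.inr e)
        rw [(hrel i m (Ne.symm hmi)).2.2, (hrel k m (Ne.symm hmk)).2.2, add_zero, add_zero]
        by_cases hmj : m = j
        · subst hmj; exact (hTA m).kill
        · exact (hrel m j hmj).1
    have hFinj : Function.Injective Fm := by
      intro m m' e
      by_contra hne
      have ez : zm m = zm m' := (hF m).1.centre_eq (e ▸ (hF m').1)
      by_cases hm : inIK m <;> by_cases hm' : inIK m' <;> simp only [zm, hm, hm', if_true, if_false] at ez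
      · have h := hφy0 m; rw [ez, (hrel m' m (Ne.symm hne)).2.2] at h; exact zero_ne_one h
      · have h := hφy0 m; rw [ez, (hrel m m' hne).1] at h; exact zero_ne_one h
      · have h := hφy0 m'; rw [← ez, (hrel m' m (Ne.symm hne)).1] at h; exact zero_ne_one h
      · have h := hφ'x0 m; rw [ez, (hrel m m' hne).2.1] at h; exact zero_ne_one h
    have hDne : ∀ m, cg g (C j) ≠ Fm m := by
      intro m e
      have ev : v = zm m := hD.centre_eq (e.symm ▸ (hF m).1)
      have hiv : φ i v = 1 := by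
        rw [hv, map_add, map_add, (hrel i j e1).1, hφy0, (hrel k i (Ne.symm e3)).2.2, zero_add, add_zero]
      have hkv : φ k v = 1 := by
        rw [hv, map_add, map_add, (hrel k j (Ne.symm e2)).1, hφy0, (hrel i k e3).2.2, zero_add, zero_add]
      rw [ev] at hiv hkv
      by_cases hm : inIK m <;> simp only [zm, hm, if_true, if_false] at hiv hkv
      · rcases hm with rfl | rfl
        · rw [(hrel _ k e3).2.2] at hkv; exact zero_ne_one hkv
        · rw [(hrel _ i (Ne.symm e3)).2.2] at hiv; exact zero_ne_one hiv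
      · rw [(hrel i m fun e => hm (Or.inl e.symm)).1] at hiv; exact zero_ne_one hiv
    have hDF : ∀ m, ∀ u ∈ cg g (C j), ∀ w ∈ Fm m, u * w = w * u := fun m =>
      hD.comm (hF m).1 F.inj (hξv m) (F.tv_symm hGD (hF m).2 hD (hF m).1 (hξv m))
    have h := F.card_commuting hS (insert (cg g (C j)) (Set.range Fm)) (by
      rintro _ (rfl | ⟨m, rfl⟩)
      · exact hGD
      · exact (hF m).2) (by
      rintro _ (rfl | ⟨m, rfl⟩) _ (rfl | ⟨m', rfl⟩)
      · exact hGD.off.comm
      · exact hDF m'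
      · exact fun u hu w hw => (hDF m w hw u hu).symm
      · by_cases hmm : m = m'
        · subst hmm; exact (hF m).2.off.comm
        · exact (hF m).1.comm (hF m').1 F.inj (hξ m' m (Ne.symm hmm)) (hξ m m' hmm))
    rw [Set.ncard_insert_of_notMem (show cg g (C j) ∉ Set.range Fm from fun ⟨m, e⟩ => hDne m e.symm) (Set.toFinite _),
      ← Set.image_univ, Set.ncard_image_of_injective _ hFinj, Set.ncard_univ, ← Nat.card_coe_set_eq] at h
    exact absurd h (by simp only [ι]; exact Nat.not_succ_le_self _)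
  let st : Setoid ι := ⟨lnk, hrefl, fun {i j} => hsymm i j, fun {i j k} => htrans i j k⟩
  let Q := Quotient st
  have : Fintype Q := Fintype.ofFinite Q
  let G : ι × Bool → Subgroup P := fun k => if k.2 then C k.1 else (k.1 : Subgroup P)
  let E : Q → Subgroup P := fun o => ⨆ k : {i : ι // Quotient.mk st i = o} × Bool,
    if k.2 then C (k.1 : ι) else ((k.1 : ι) : Subgroup P)
  have hmk : ∀ i j, (Quotient.mk st i = Quotient.mk st j ↔ lnk i j) := fun i j =>
    ⟨fun h => Quotient.exact h, fun h => Quotient.sound h⟩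
  have hLE : ∀ i, L i ≤ E (Quotient.mk st i) := fun i => (hLle i).trans (sup_le
    (le_iSup_of_le ((⟨i, rfl⟩ : {j : ι // Quotient.mk st j = Quotient.mk st i}), false) le_rfl)
    (le_iSup_of_le ((⟨i, rfl⟩ : {j : ι // Quotient.mk st j = Quotient.mk st i}), true) le_rfl))
  have hEL : ∀ o, E o = ⨆ k : {i : ι // Quotient.mk st i = o}, L k := by
    intro o
    refine le_antisymm (iSup_le fun k => ?_) (iSup_le fun k => (hLE k).trans (le_of_eq (congrArg E k.2)))
    rcases k with ⟨k, _ | _⟩
    · exact le_iSup_of_le k (hAL k)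
    · exact le_iSup_of_le k (hCL k)
  have hsup : (⨆ o, E o) = ⨆ A : ι, blockOf f 2 S (A : Subgroup P) := by
    refine le_antisymm (iSup_le fun o => ?_) (iSup_le fun i => le_iSup_of_le (Quotient.mk st i) (hLE i))
    rw [hEL]
    exact iSup_le fun k => le_iSup_of_le (k : ι) le_rfl
  obtain ⟨hNn, hNtop⟩ := F.blocks_normal hS
  rw [← hsup] at hNn hNtop
  have hout : ∀ i j, Quotient.mk st i ≠ Quotient.mk st j → i ≠ j ∧ φ' j (y i) = 0 := fun i j h => by
    have hij : i ≠ j := fun e => h (e ▸ rfl)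
    exact ⟨hij, (zmod_two _).resolve_right fun h1 => h ((hmk i j).2 ((hlnk i j hij).2 h1))⟩
  have hcommE : ∀ o o', o ≠ o' → ∀ u ∈ E o, ∀ w ∈ E o', u * w = w * u := by
    intro o o' hne
    have key : E o ≤ Subgroup.centralizer (E o' : Set P) := by
      rw [hEL]
      refine iSup_le fun i => ?_
      rw [Subgroup.le_centralizer_iff, hEL]
      refine iSup_le fun j => ?_
      intro w hw u hu
      obtain ⟨hij, h0⟩ := hout i j (by rw [i.2, j.2]; exact hne)
      exact hcomm_of i j hij h0 u hu w hw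
    exact fun u hu w hw => (key hu w hw).symm
  have horth : ∀ o o', o ≠ o' → ∀ u ∈ E o', ∀ v, f u v - v ∈ fixed f (E o) := by
    intro o o' hne
    have hinv : ∀ u ∈ E o', ∀ z ∈ fixed f (E o), f u z ∈ fixed f (E o) := fun u hu z hz w hw => by
      rw [← mul_app, hcommE o o' hne w hw u hu, mul_app, hz w hw]
    refine move_iSup _ (fixed f (E o)) ?_
    intro k u hu
    refine ⟨hinv u (Subgroup.mem_iSup_of_mem k hu), fun v => ?_⟩
    have hz : x (k.1 : ι) ∈ fixed f (E o) ∧ y (k.1 : ι) ∈ fixed f (E o) := by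
      constructor <;> refine fix_iSup _ ?_ <;> rintro ⟨⟨i, hi⟩, _ | _⟩ <;>
        obtain ⟨hki, h0⟩ := hout k.1 i (by rw [k.1.2, hi]; exact hne.symm)
      · simpa using ((hTA i).fixedA _).2 (hrel i k.1 hki.symm).1
      · simpa using ((hTC i).fixedA _).2 (hrel i k.1 hki.symm).2.1
      · simpa using ((hTA i).fixedA _).2 (hrel k.1 i hki).2.2
      · simpa using ((hTC i).fixedA _).2 h0
    rcases k with ⟨k, _ | _⟩
    · rcases (hTA (k : ι)).all u (by simpa using hu) with rfl | rfl
      · simp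
      · rw [(hTA (k : ι)).move_mem]; exact Submodule.smul_mem _ _ hz.1
    · rcases (hTC (k : ι)).all u (by simpa using hu) with rfl | rfl
      · simp
      · rw [(hTC (k : ι)).move_mem]; exact Submodule.smul_mem _ _ hz.2
  have hfaith : ∀ o, ∀ g ∈ E o, (∀ v, f g v - v ∈ fixed f (E o)) → g = 1 := by
    intro o g hg hm
    refine F.eq_one_of_move hNn (Subgroup.mem_iSup_of_mem o hg) fun v => fix_iSup E fun o' => ?_
    by_cases e : o' = o
    · exact e ▸ hm v
    · exact horth o' o e g hg v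
  -- the Sylow subgroup permutes the pairs and the clusters transitively
  letI : MulAction ↥S ι :=
    { smul := fun s i => ⟨cg (s : P) i, gens_conj s.2 i.2⟩
      one_smul := fun i => Subtype.ext (cg_one _)
      mul_smul := fun s t i => Subtype.ext (cg_cg _ _ _).symm }
  have hLs : ∀ (s : ↥S) i, cg (s : P) (L i) = L (s • i) := fun s i => blockOf_conj s.2
  have hlnks : ∀ (s : ↥S) i j, lnk i j → lnk (s • i) (s • j) := by
    intro s i j h hc
    refine h fun u hu w hw => ?_
    have := hc (s * u * (s : P)⁻¹) (hLs s i ▸ ⟨u, hu, rfl⟩) (s * w * (s : P)⁻¹) (hLs s j ▸ ⟨w, hw, rfl⟩)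
    exact (MulAut.conj (s : P)).injective (by rw [map_mul, map_mul]; exact this)
  have hQs : ∀ (s : ↥S) i j, Quotient.mk st i = Quotient.mk st j → Quotient.mk st (s • i) = Quotient.mk st (s • j) :=
    fun s i j h => (hmk _ _).2 (hlnks s i j ((hmk i j).1 h))
  have hcgE : ∀ (s : ↥S) i, cg (s : P) (E (Quotient.mk st i)) = E (Quotient.mk st (s • i)) := by
    intro s i
    rw [hEL, hEL, cg, Subgroup.map_iSup]
    refine le_antisymm (iSup_le fun k => le_iSup_of_le ⟨s • (k : ι), hQs s _ _ k.2⟩ (hLs s k).le)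
      (iSup_le fun k => le_iSup_of_le ⟨s⁻¹ • (k : ι), ?_⟩ ?_)
    · have := hQs s⁻¹ _ _ k.2
      rwa [inv_smul_smul] at this
    · show L k ≤ cg (s : P) (L (s⁻¹ • (k : ι)))
      rw [hLs, smul_inv_smul]
  have hpre : ∀ i j : ι, ∃ s : ↥S, s • i = j := fun i j => by
    obtain ⟨s, hs, hse⟩ := F.exists_smul_gen hS i.2.1 i.2.2 j.2.1 j.2.2
    exact ⟨⟨s, hs⟩, Subtype.ext hse⟩
  have htr : ∀ o o', ∃ s ∈ S, cg s (E o) = E o' := by
    rintro ⟨i⟩ ⟨j⟩
    obtain ⟨s, rfl⟩ := hpre i j
    exact ⟨s, s.2, hcgE s i⟩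
  have hpow : ∀ o, ∃ b, Nat.card {i : ι // Quotient.mk st i = o} = 2 ^ b := by
    rintro ⟨i₀⟩
    obtain ⟨n, hn⟩ := IsPGroup.iff_card.1 (F.syl_isPGroup hS)
    have hι : Nat.card ι ∣ 2 ^ n := by
      have horb : MulAction.orbit ↥S i₀ = Set.univ := Set.eq_univ_of_forall fun j => hpre i₀ j
      rw [← hn, ← Nat.card_univ (α := ι), ← horb, Nat.card_congr (MulAction.orbitEquivQuotientStabilizer ↥S i₀)]
      exact Subgroup.card_quotient_dvd_card _
    have hfib : ∀ o : Q, Nat.card {i : ι // Quotient.mk st i = o} = Nat.card {i : ι // Quotient.mk st i = Quotient.mk st i₀} := by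
      rintro ⟨j⟩
      obtain ⟨s, rfl⟩ := hpre i₀ j
      refine Nat.card_congr ⟨fun k => ⟨s⁻¹ • (k : ι), ?_⟩, fun k => ⟨s • (k : ι), hQs s _ _ k.2⟩,
        fun k => Subtype.ext (smul_inv_smul s (k : ι)), fun k => Subtype.ext (inv_smul_smul s (k : ι))⟩
      have := hQs s⁻¹ _ _ k.2
      rwa [inv_smul_smul] at this
    have hd : Nat.card {i : ι // Quotient.mk st i = Quotient.mk st i₀} ∣ Nat.card ι := by
      rw [← Nat.card_congr (Equiv.sigmaFiberEquiv (Quotient.mk st : ι → Q)), Nat.card_sigma,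
        Finset.sum_congr rfl (fun o _ => hfib o), Finset.sum_const, smul_eq_mul]
      exact dvd_mul_left _ _
    obtain ⟨b, -, hb⟩ := (Nat.dvd_prime_pow Nat.prime_two).1 (hd.trans hι)
    exact ⟨b, hb⟩
  have hclust : ∀ o, ∃ (κ : Type v) (_ : Fintype κ) (_ : DecidableEq κ) (A C : κ → Subgroup P) (a c : κ → P)
      (x y : κ → V) (φ φ' : κ → V →+ ZMod 2), Clust f S A C a c x y φ φ' (E o) := by
    intro o
    obtain ⟨b, hb⟩ := hpow o
    have : Nonempty {i : ι // Quotient.mk st i = o} := by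
      obtain ⟨i, rfl⟩ := Quotient.exists_rep o
      exact ⟨⟨i, rfl⟩⟩
    refine ⟨{i : ι // Quotient.mk st i = o}, inferInstance, inferInstance, fun k => ((k : ι) : Subgroup P),
      fun k => C (k : ι), fun k => a (k : ι), fun k => c (k : ι), fun k => x (k : ι), fun k => y (k : ι),
      fun k => φ (k : ι), fun k => φ' (k : ι),
      { gen := fun k => (k : ι).2
        cmem := fun k => hCL k
        ble := fun k => hLle k
        tvA := fun k => hTA k
        tvC := fun k => hTC k
        phi_x := ?_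
        phi'_x := ?_
        phi_y := ?_
        phi'_y := ?_
        eq := rfl
        faith := hfaith o
        card := ⟨b, Fintype.card_eq_nat_card.trans hb⟩
        nonempty := this }⟩
    · intro i j
      by_cases e : i = j
      · subst e; exact (hTA i).kill
      · exact (hrel i j fun h => e (Subtype.ext h)).1
    · intro i j
      by_cases e : i = j
      · subst e; rw [if_pos rfl]; exact hφ'x0 i
      · rw [if_neg e]; exact (hrel i j fun h => e (Subtype.ext h)).2.1
    · intro i j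
      by_cases e : i = j
      · subst e; rw [if_pos rfl]; exact hφy0 i
      · rw [if_neg e]; exact (hrel j i fun h => e (Subtype.ext h.symm)).2.2
    · intro i j
      by_cases e : i = j
      · subst e; rw [if_pos rfl]; exact (hTC i).kill
      · rw [if_neg e]
        exact (hlnk j i fun h => e (Subtype.ext h.symm)).1 ((hmk j i).1 (j.2.trans i.2.symm))
  have hmodel : ∀ o, SL2Model f (E o) ∨ PermModel f (E o) := by
    intro o
    obtain ⟨κ, iκ, iκd, A', C', a', c', x', y', φA, φC, K⟩ := hclust o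
    obtain ⟨b, hb⟩ := K.card
    haveI := K.nonempty
    exact Or.inr (perm_model hb A' C' a' c' x' y' φA φC K.tvA K.tvC K.phi_x K.phi'_x K.phi_y K.phi'_y (E o) K.eq K.faith)
  let e := Fintype.equivFin Q
  refine ⟨Fintype.card Q, fun i => E (e.symm i), Fintype.card_pos_iff.2 ⟨Quotient.mk st ⟨A₀, hA₀⟩⟩, ?_,
    (e.symm.surjective.iSup_comp (g := E)).trans hsup, fun i => hclust _⟩
  have hre : (⨆ i, E (e.symm i)) = ⨆ o, E o := e.symm.surjective.iSup_comp (g := E)
  exact
    { comm := fun i j hij => hcommE _ _ fun h => hij (e.symm.injective h)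
      orth := fun i j hij => horth _ _ fun h => hij (e.symm.injective h)
      top := by rw [hre]; exact hNtop
      normal := by rw [hre]; exact hNn
      trans := fun i j => htr _ _
      model := fun i => hmodel _ }

theorem decomp_two {S : Subgroup P} (hS : IsSyl (T : Subgroup P) S) :
    ∃ (r : ℕ) (E : Fin r → Subgroup P), 1 ≤ r ∧ Decomp f S E ∧
      (⨆ i, E i) = ⨆ A : {A : Subgroup P // Gen f 2 A ∧ A ≤ S}, blockOf f 2 S (A : Subgroup P) := by
  obtain ⟨r, E, hr, hD, hs, -⟩ := F.decomp_clusters hS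
  exact ⟨r, E, hr, hD, hs⟩

end Frame

end Cfsg.Agent.FFNatural
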