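import Mathlib
import Cfsg.Agent.Lib.PLocal.Natural.Clusters

/-!
The structure theorem for a `p`-minimal linear group generated with offenders.
-/

set_option autoImplicit false
set_option linter.style.longLine false
set_option linter.unusedSectionVars false

namespace Cfsg.Agent.FFNatural

open Cfsg.Lib.Offender

variable {p : ℕ} {P V : Type*} [Group P] [AddCommGroup V] [Module (ZMod p) V]
variable {f : Representation (ZMod p) P V}

theorem Frame.decomp {q : ℕ} {T : Sylow p P} {M : Subgroup P} (F : Frame f T M q) [Fact p.Prime] [Finite P]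
    [Finite V] {S : Subgroup P} (hS : IsSyl (T : Subgroup P) S) :
    ∃ (r : ℕ) (E : Fin r → Subgroup P), 1 ≤ r ∧ Decomp f S E ∧
      (⨆ i, E i) = ⨆ A : {A : Subgroup P // Gen f q A ∧ A ≤ S}, blockOf f q S (A : Subgroup P) := by
  obtain ⟨A, hA⟩ := F.exists_gen
  have hq : 1 < q := hA.card ▸ (Subgroup.one_lt_card_iff_ne_bot A).2 hA.off.ne_bot
  obtain ⟨n, hn, hqn⟩ := F.exists_pow hA
  rcases eq_or_lt_of_le (Nat.succ_le_of_lt hq) with h2 | h2
  · have h2' : q = 2 := h2.symm
    have hp : p = 2 := by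
      have hdvd : p ∣ 2 := h2' ▸ hqn ▸ dvd_pow_self p (by omega)
      exact (Nat.prime_dvd_prime_iff_eq Fact.out Nat.prime_two).1 hdvd
    subst hp h2'
    exact F.decomp_two hS
  · exact F.decomp_two_lt h2 hS

/-- A normal subgroup containing an offender of minimal order contains all blocks. -/
theorem Frame.blocks_le {q : ℕ} {T : Sylow p P} {M : Subgroup P} (F : Frame f T M q) [Fact p.Prime] [Finite P]
    [Finite V] {S : Subgroup P} (hS : IsSyl (T : Subgroup P) S) {N : Subgroup P} (hN : N.Normal) {A : Subgroup P}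
    (hA : Gen f q A) (hAS : A ≤ S) (hAN : A ≤ N) :
    (⨆ B : {B : Subgroup P // Gen f q B ∧ B ≤ S}, blockOf f q S (B : Subgroup P)) ≤ N := by
  refine iSup_le fun B => iSup_le fun C => ?_
  obtain ⟨S', -, hS', -, hCS', -⟩ := F.exists_syl C.2.gen.off.isPGroup
  obtain ⟨g, hg⟩ := hS
  obtain ⟨g', hg'⟩ := hS'
  have h1 : cg (g * g'⁻¹) (C : Subgroup P) ≤ S := by
    refine (cg_mono hCS' _).trans (le_of_eq ?_)
    rw [← hg', cg_cg, inv_mul_cancel_right, hg]
  obtain ⟨s, -, hs⟩ := F.exists_smul_gen ⟨g, hg⟩ hA hAS (C.2.gen.conj (g * g'⁻¹)) h1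
  have h2 : cg (g * g'⁻¹) (C : Subgroup P) ≤ N := by
    rw [← hs]
    rintro _ ⟨a, ha, rfl⟩
    exact hN.conj_mem a (hAN ha) s
  intro c hc
  have h3 := hN.conj_mem _ (h2 ⟨c, hc, rfl⟩) (g * g'⁻¹)⁻¹
  simpa [mul_assoc] using h3

/-- A frame from any offender. -/
theorem exists_frame [Finite P] {T : Sylow p P} {M : Subgroup P} (hinj : ∀ g, f g = 1 → g = 1)
    (hM : IsCoatom M) (hle : (T : Subgroup P) ≤ M)
    (huniq : ∀ K : Subgroup P, IsCoatom K → (T : Subgroup P) ≤ K → K = M)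
    (hcore : ∀ N : Subgroup P, N.Normal → IsPGroup p N → N = ⊥)
    (hmove : ¬ fixed f (T : Subgroup P) ≤ fixed f ⊤) (hoff : ∃ A, IsOff f A) :
    ∃ q, Frame f T M q := by
  obtain ⟨A, hA, hmin⟩ := Set.exists_min_image {A : Subgroup P | IsOff f A} (fun A => Nat.card A)
    (Set.toFinite _) hoff
  exact ⟨Nat.card A, hinj, hM, hle, huniq, hcore, hmove, hmin, A, hA, rfl⟩

end Cfsg.Agent.FFNatural
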