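import Mathlib
import Cfsg.Agent.Lib.PLocal.Natural.Structure

/-!
Elements of a Sylow subgroup normalizing an offender of minimal order act semilinearly on its
natural module.
-/

set_option autoImplicit false
set_option linter.style.longLine false
set_option linter.unusedSectionVars false

namespace Cfsg.Agent.FFNatural

open Cfsg.Lib.Offender

variable {p : ℕ} {P V : Type*} [Group P] [AddCommGroup V] [Module (ZMod p) V]
variable {f : Representation (ZMod p) P V} {q : ℕ}

namespace Frame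

variable {T : Sylow p P} {M : Subgroup P} (F : Frame f T M q) [Fact p.Prime] [Finite P] [Finite V]
include F

/-- Coordinates for the stabilizer of an offender. -/
theorem stab_coord {S A : Subgroup P} (hS : IsSyl (T : Subgroup P) S) (hA : Gen f q A) (hAS : A ≤ S)
    {K : Type} [Field K] [Fintype K] (hK : Fintype.card K = q)
    (ρ : ↥(blockOf f q S A) ≃* Matrix.SpecialLinearGroup (Fin 2) K) (ψ : V →+ (Fin 2 → K))
    (hs : Function.Surjective ψ) (hk : ∀ v, ψ v = 0 ↔ v ∈ fixed f (blockOf f q S A))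
    (hψ : ∀ (g : ↥(blockOf f q S A)) v, ψ (f g v) = ((ρ g : Matrix.SpecialLinearGroup (Fin 2) K) : Matrix (Fin 2) (Fin 2) K).mulVec (ψ v))
    (hρA : ∀ g : ↥(blockOf f q S A), (g : P) ∈ A → ∃ c, ρ g = Classical.GL2.uniSL c)
    (hX : ∀ v, v ∈ fixed f A ↔ ψ v 1 = 0) {b : P} (hb : b ∈ S) (hbA : cg b A = A) :
    ∃ (θ η δ : K →+ K) (π : K → K), (∀ v, ψ (f b v) = ![θ (ψ v 0) + δ (ψ v 1), η (ψ v 1)]) ∧
      Function.Injective θ ∧ (∀ α y, θ (α * y) = π α * η y) ∧
      ((∀ a ∈ A, b * a = a * b) → ∀ α, π α = α) := by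
  classical
  have hAL : A ≤ (blockOf f q S A) := le_iSup_of_le ⟨A, (F.others_spec hS hA hAS).2.2⟩ le_rfl
  have hbL : cg b (blockOf f q S A) = (blockOf f q S A) := by rw [blockOf_conj hb, hbA]
  have hW : ∀ v, v ∈ fixed f (blockOf f q S A) → f b v ∈ fixed f (blockOf f q S A) := fun v hv => by
    rw [← hbL, fixed_cg]; exact ⟨v, hv, rfl⟩
  have hXb : ∀ v, v ∈ fixed f A → f b v ∈ fixed f A := fun v hv => by
    rw [← hbA, fixed_cg]; exact ⟨v, hv, rfl⟩
  have hW' : ∀ v, f b v ∈ fixed f (blockOf f q S A) → v ∈ fixed f (blockOf f q S A) := fun v hv => by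
    rw [← hbL, fixed_cg] at hv
    obtain ⟨w, hw, e⟩ := hv
    exact f_injective (f := f) b e ▸ hw
  have hcong : ∀ u v, ψ u = ψ v → ψ (f b u) = ψ (f b v) := fun u v e => by
    rw [← sub_eq_zero, ← map_sub, ← map_sub, hk]
    exact hW _ ((hk _).1 (by rw [map_sub, e, sub_self]))
  have h01 : ∀ x : K, ∃ v, ψ v = ![x, 0] := fun x => hs _
  have h10 : ∀ y : K, ∃ v, ψ v = ![0, y] := fun y => hs _
  choose e0 he0 using h01
  choose e1 he1 using h10
  have hadd0 : ∀ x x', ψ (f b (e0 (x + x'))) = ψ (f b (e0 x)) + ψ (f b (e0 x')) := fun x x' => by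
    rw [← map_add, ← map_add]
    refine hcong _ _ ?_
    rw [map_add, he0, he0, he0]
    funext i; fin_cases i <;> simp
  have hadd1 : ∀ x x', ψ (f b (e1 (x + x'))) = ψ (f b (e1 x)) + ψ (f b (e1 x')) := fun x x' => by
    rw [← map_add, ← map_add]
    refine hcong _ _ ?_
    rw [map_add, he1, he1, he1]
    funext i; fin_cases i <;> simp
  let θ : K →+ K := AddMonoidHom.mk' (fun x => ψ (f b (e0 x)) 0) fun x x' => congrFun (hadd0 x x') 0
  let δ : K →+ K := AddMonoidHom.mk' (fun y => ψ (f b (e1 y)) 0) fun x x' => congrFun (hadd1 x x') 0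
  let η : K →+ K := AddMonoidHom.mk' (fun y => ψ (f b (e1 y)) 1) fun x x' => congrFun (hadd1 x x') 1
  have hθ0 : ∀ x, ψ (f b (e0 x)) 1 = 0 := fun x =>
    (hX _).1 (hXb _ ((hX _).2 (by rw [he0]; rfl)))
  have hform : ∀ v, ψ (f b v) = ![θ (ψ v 0) + δ (ψ v 1), η (ψ v 1)] := by
    intro v
    have h1 : ψ (f b v) = ψ (f b (e0 (ψ v 0))) + ψ (f b (e1 (ψ v 1))) := by
      rw [← map_add, ← map_add]
      refine hcong _ _ ?_
      rw [map_add, he0, he1]
      funext i; fin_cases i <;> simp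
    rw [h1]
    funext i
    fin_cases i
    · rfl
    · show ψ (f b (e0 (ψ v 0))) 1 + ψ (f b (e1 (ψ v 1))) 1 = η (ψ v 1)
      rw [hθ0, zero_add]; rfl
  have hθinj : Function.Injective θ := (injective_iff_map_eq_zero θ).2 fun x hx => by
    have h1 : ψ (f b (e0 x)) = 0 := funext fun i => by fin_cases i; exacts [hx, hθ0 x]
    have h2 := (hk _).2 (hW' _ ((hk _).1 h1))
    rw [he0] at h2
    exact congrFun h2 0
  have hsur : ∀ α, ∃ a : ↥(blockOf f q S A), (a : P) ∈ A ∧ ρ a = Classical.GL2.uniSL α := by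
    intro α
    choose cc hcc using fun a : A => hρA ⟨a, hAL a.2⟩ a.2
    have hi : Function.Injective cc := fun a a' e => by
      have : (⟨a, hAL a.2⟩ : ↥(blockOf f q S A)) = ⟨a', hAL a'.2⟩ := ρ.injective (by rw [hcc, hcc, e])
      exact Subtype.ext (congrArg (fun x : ↥(blockOf f q S A) => (x : P)) this)
    obtain ⟨a, ha⟩ := ((Nat.bijective_iff_injective_and_card cc).2 ⟨hi, by
      rw [hA.card, Nat.card_eq_fintype_card (α := K), hK]⟩).2 α
    exact ⟨⟨a, hAL a.2⟩, a.2, by rw [hcc, ha]⟩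
  choose av hav havρ using hsur
  have hconjA : ∀ α, b * (av α : P) * b⁻¹ ∈ A := fun α => hbA.le ⟨_, hav α, rfl⟩
  choose π hπ using fun α => hρA ⟨b * (av α : P) * b⁻¹, hAL (hconjA α)⟩ (hconjA α)
  refine ⟨θ, η, δ, π, hform, hθinj, fun α y => ?_, fun hc α => ?_⟩
  · have h1 : f (b * (av α : P) * b⁻¹) (f b (e1 y)) = f b (f (av α : P) (e1 y)) := by
      rw [mul_app, mul_app, inv_app]
    have h2 := congrArg ψ h1
    rw [hψ ⟨_, hAL (hconjA α)⟩, hπ, hform (f (av α : P) (e1 y)), hψ (av α), havρ, hform, he1] at h2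
    have h3 := congrFun h2 0
    simp [Matrix.mulVec, dotProduct, Fin.sum_univ_two, Classical.GL2.uniSL, Matrix.vecHead, Matrix.vecTail] at h3
    linear_combination -h3
  · have e : (⟨b * (av α : P) * b⁻¹, hAL (hconjA α)⟩ : ↥(blockOf f q S A)) = av α :=
      Subtype.ext (by show b * (av α : P) * b⁻¹ = av α; rw [hc _ (hav α), mul_inv_cancel_right])
    have h := hπ α
    rw [e, havρ] at h
    have h' := congrFun (congrFun (congrArg (fun m : Matrix.SpecialLinearGroup (Fin 2) K => (m : Matrix (Fin 2) (Fin 2) K)) h) 0) 1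
    simpa [Classical.GL2.uniSL] using h'.symm

theorem pow_trivial {K : Type} [Field K] [Fintype K] {n : ℕ} (hn : Fintype.card K = p ^ n) (hn1 : 1 ≤ n)
    {c : K} {k : ℕ} (h : c ^ p ^ k = 1) : c = 1 := by
  have hc0 : c ≠ 0 := fun e => by
    rw [e, zero_pow (pow_pos (Fact.out : p.Prime).pos k).ne'] at h
    exact zero_ne_one h
  have h1 := FiniteField.pow_card_sub_one_eq_one c hc0
  have hg : Nat.gcd (p ^ k) (Fintype.card K - 1) = 1 := by
    refine Nat.Coprime.pow_left k ?_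
    rw [(Fact.out : p.Prime).coprime_iff_not_dvd]
    intro hd
    have h2 : p ∣ Fintype.card K := hn ▸ dvd_pow_self p (by omega)
    have h3 := Nat.dvd_sub h2 hd
    have hpos := Fintype.card_pos (α := K)
    rw [show Fintype.card K - (Fintype.card K - 1) = 1 by omega] at h3
    exact (Fact.out : p.Prime).one_lt.ne' (Nat.dvd_one.1 h3)
  rw [← pow_one c, ← hg]
  exact pow_gcd_eq_one.2 ⟨h, h1⟩

/-- An element trivial on the fixed space or on the quotient acts like an element of the offender. -/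
theorem stab_trivial {S A : Subgroup P} (hS : IsSyl (T : Subgroup P) S) (hA : Gen f q A) (hAS : A ≤ S)
    {b : P} (hb : b ∈ S) (hbA : cg b A = A)
    (h : (∀ x ∈ fixed f A, f b x - x ∈ fixed f (blockOf f q S A)) ∨ (∀ v, f b v - v ∈ fixed f A) ∨
      ∀ a ∈ A, b * a = a * b) :
    (∀ x ∈ fixed f A, f b x - x ∈ fixed f (blockOf f q S A)) ∧ (∀ v, f b v - v ∈ fixed f A) ∧
      ∃ a ∈ A, ∀ v, f (a⁻¹ * b) v - v ∈ fixed f (blockOf f q S A) := by
  classical
  obtain ⟨hn, -, -, C₀, hC₀, -, hC₀A, -, hcov, hsup, hinf⟩ := F.block_spec hS hA hAS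
  obtain ⟨K, iK, iKt, hK, ρ, ψ, hs, hk, hψ, hρA, hX⟩ := hn.sl2
  obtain ⟨θ, η, δ, π, hform, hθinj, hπ, hπc⟩ := F.stab_coord hS hA hAS hK ρ ψ hs hk hψ hρA hX hb hbA
  obtain ⟨n, hn1, hqn⟩ := F.exists_pow hA
  obtain ⟨k, hk'⟩ := (F.syl_isPGroup hS) ⟨b, hb⟩
  have hbk : b ^ p ^ k = 1 := by simpa using congrArg Subtype.val hk'
  have hx0 : ∀ x : K, ∃ v, ψ v = ![x, 0] := fun x => hs _
  have hscalθ : ∀ μ : K, (∀ x, θ x = μ * x) → μ = 1 := by
    intro μ hμ
    refine F.pow_trivial (hK.trans hqn) hn1 (k := k) ?_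
    obtain ⟨v, hv⟩ := hx0 1
    have hit : ∀ m : ℕ, ψ (f (b ^ m) v) = ![μ ^ m, 0] := by
      intro m
      induction m with
      | zero => rw [pow_zero, pow_zero, map_one, Module.End.one_apply, hv]
      | succ m ih =>
        rw [pow_succ', mul_app, hform, ih]
        simp [hμ, pow_succ']
    have := congrFun (hit (p ^ k)) 0
    rw [hbk, map_one, Module.End.one_apply, hv] at this
    simpa using this.symm
  have hscalη : ∀ c : K, (∀ y, η y = c * y) → c = 1 := by
    intro c hc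
    refine F.pow_trivial (hK.trans hqn) hn1 (k := k) ?_
    obtain ⟨v, hv⟩ := hs ![0, 1]
    have hit : ∀ m : ℕ, ψ (f (b ^ m) v) 1 = c ^ m := by
      intro m
      induction m with
      | zero => rw [pow_zero, pow_zero, map_one, Module.End.one_apply, hv]; rfl
      | succ m ih =>
        rw [pow_succ', mul_app, hform]
        show η (ψ (f (b ^ m) v) 1) = c ^ (m + 1)
        rw [ih, hc, pow_succ']
    have := hit (p ^ k)
    rw [hbk, map_one, Module.End.one_apply, hv] at this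
    simpa using this.symm
  have hπ1 : π 1 ≠ 0 := fun e => by
    have := hπ 1 1
    rw [e, zero_mul, mul_one] at this
    exact one_ne_zero (hθinj (this.trans (map_zero θ).symm))
  have hb1 : ∀ y, θ y = π 1 * η y := fun y => by have := hπ 1 y; rwa [one_mul] at this
  have hb2 : ∀ α, θ α = π α * η 1 := fun α => by have := hπ α 1; rwa [mul_one] at this
  have hid : (∀ x, θ x = x) ∧ ∀ y, η y = y := by
    have hfromθ : (∀ x, θ x = x) → (∀ x, θ x = x) ∧ ∀ y, η y = y := fun hθ => by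
      refine ⟨hθ, fun y => ?_⟩
      have hy : ∀ y, η y = (π 1)⁻¹ * y := fun y => by
        have := hb1 y; rw [hθ] at this
        rw [this, ← mul_assoc, inv_mul_cancel₀ hπ1, one_mul, ← this]
      rw [hy, hscalη _ hy, one_mul]
    rcases h with h | h | h
    · refine hfromθ fun x => ?_
      obtain ⟨v, hv⟩ := hx0 x
      have h1 := (hk _).2 (h v ((hX v).2 (by rw [hv]; rfl)))
      rw [map_sub, sub_eq_zero, hform, hv] at h1
      simpa using congrFun h1 0
    · have hη : ∀ y, η y = y := fun y => by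
        obtain ⟨v, hv⟩ := hs ![0, y]
        have h1 := (hX _).1 (h v)
        rw [map_sub, Pi.sub_apply, sub_eq_zero, hform, hv] at h1
        simpa using h1
      have hθ : ∀ x, θ x = π 1 * x := fun x => by rw [hb1, hη]
      refine ⟨fun x => ?_, hη⟩
      rw [hθ, hscalθ _ hθ, one_mul]
    · have hθ : ∀ x, θ x = η 1 * x := fun x => by rw [hb2, hπc h, mul_comm]
      refine hfromθ fun x => ?_
      rw [hθ, hscalθ _ hθ, one_mul]
  obtain ⟨hθ, hη⟩ := hid
  have hT2 : ∀ v, f b v - v ∈ fixed f A := fun v => (hX _).2 (by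
    rw [map_sub, Pi.sub_apply, hform]
    simp [hη])
  refine ⟨fun x hx => (hk _).1 ?_, hT2, ?_⟩
  · have h1 := (hX x).1 hx
    rw [map_sub, hform, sub_eq_zero]
    funext i
    fin_cases i <;> simp [hθ, hη, h1]
  have hbR : cg b (others f q S A) = others f q S A := by rw [others_conj hb, hbA]
  obtain ⟨a, ha, he⟩ := hcov (cg b C₀) (hbR ▸ out_conj_iff b hC₀) fun e => hC₀A (by
    have := congrArg (cg b⁻¹) e
    rwa [cg_inv, show cg b⁻¹ A = A from by conv_lhs => rw [← hbA, cg_inv]] at this)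
  refine ⟨a, ha, fun v => ?_⟩
  set g := a⁻¹ * b with hg
  have hgC : cg g C₀ = C₀ := by rw [hg, ← cg_cg, ← he, cg_inv]
  have hmv : ∀ u, f g u - u ∈ fixed f A := fun u => by
    have h1 : f g u - u = (f a⁻¹ (f b u) - f b u) + (f b u - u) := by rw [hg, mul_app]; abel
    rw [h1]
    exact add_mem (hn.move _ (A.inv_mem ha) _) (hT2 u)
  obtain ⟨x, hx, w, hw, rfl⟩ := Submodule.mem_sup.1 (hsup.ge (Submodule.mem_top (x := v)))
  rw [map_add, add_sub_add_comm]
  refine add_mem ?_ (hinf ⟨hmv w, sub_mem ?_ hw⟩)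
  · have h1 : f b x - x ∈ fixed f (blockOf f q S A) := (hk _).1 (by
      have h1 := (hX x).1 hx
      rw [map_sub, hform, sub_eq_zero]
      funext i
      fin_cases i <;> simp [hθ, hη, h1])
    have h2 : f g x = f b x := by
      rw [hg, mul_app]
      have h3 : f b x ∈ fixed f A := by simpa using add_mem hx (hn.fixed_le h1)
      exact h3 a⁻¹ (A.inv_mem ha)
    rw [h2]; exact h1
  · rw [← hgC, fixed_cg]; exact ⟨w, hw, rfl⟩

/-- A functional separating the action of an abelian subgroup of the stabilizer on the fixed space. -/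
theorem stab_functional {S A B : Subgroup P} (hS : IsSyl (T : Subgroup P) S) (hA : Gen f q A) (hAS : A ≤ S)
    (hBS : B ≤ S) :
    ∃ χ : V →+ ZMod p, (∀ w ∈ fixed f (blockOf f q S A), χ w = 0) ∧ (∃ a ∈ A, ∃ v, χ (f a v - v) ≠ 0) ∧
      ∀ b ∈ B, cg b A = A → (∀ x ∈ fixed f A, χ (f b x) = χ x) →
        ∀ x ∈ fixed f A, f b x - x ∈ fixed f (blockOf f q S A) := by
  classical
  obtain ⟨hn, -⟩ := F.block_spec hS hA hAS
  obtain ⟨K, iK, iKt, hK, ρ, ψ, hs, hk, hψ, hρA, hX⟩ := hn.sl2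
  obtain ⟨n, hn1, hqn⟩ := F.exists_pow hA
  have hp0 : (p : K) = 0 := by
    refine eq_zero_of_pow_eq_zero (n := n) ?_
    rw [← Nat.cast_pow, ← hqn, ← hK, Nat.cast_card_eq_zero]
  have : CharP K p := (CharP.charP_iff_prime_eq_zero Fact.out).2 hp0
  letI : Algebra (ZMod p) K := ZMod.algebra K p
  have : Module.Finite (ZMod p) K := Module.Finite.of_finite
  have hnd : ∀ a : K, a ≠ 0 → ∃ c, Algebra.trace (ZMod p) K (a * c) ≠ 0 := fun a ha => by
    by_contra hall
    push Not at hall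
    exact ha ((traceForm_nondegenerate (ZMod p) K).1 a fun c => hall c)
  let H : Subgroup P := B ⊓ Subgroup.normalizer (A : Set P)
  have hHA : ∀ h : ↥H, cg (h : P) A = A := fun h => cg_eq_iff.2 h.2.2
  choose θ η δ π hform hθinj hπ hπc using fun h : ↥H => F.stab_coord hS hA hAS hK ρ ψ hs hk hψ hρA hX (hBS h.2.1) (hHA h)
  have hθeq : ∀ (h : ↥H) v, v ∈ fixed f A → θ h (ψ v 0) = ψ (f (h : P) v) 0 := fun h v hv => by
    rw [hform, (hX v).1 hv]; simp
  have hxv : ∀ x : K, ∃ v ∈ fixed f A, ψ v 0 = x := fun x => by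
    obtain ⟨v, hv⟩ := hs ![x, 0]
    exact ⟨v, (hX v).2 (by rw [hv]; rfl), by rw [hv]; rfl⟩
  letI : MulAction ↥H K :=
    { smul := fun h x => θ h x
      one_smul := fun x => by
        show θ 1 x = x
        obtain ⟨v, hv, rfl⟩ := hxv x
        rw [hθeq 1 v hv, Subgroup.coe_one, map_one, Module.End.one_apply]
      mul_smul := fun g h x => by
        show θ (g * h) x = θ g (θ h x)
        obtain ⟨v, hv, rfl⟩ := hxv x
        have hbv : f (h : P) v ∈ fixed f A := by rw [← hHA h, fixed_cg]; exact ⟨v, hv, rfl⟩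
        rw [hθeq _ v hv, hθeq h v hv, hθeq g _ hbv, Subgroup.coe_mul, mul_app] }
  obtain ⟨x0, hx0, hx0ne⟩ := ((F.syl_isPGroup hS).to_le (inf_le_left.trans hBS :
      H ≤ S)).exists_fixed_point_of_prime_dvd_card_of_fixed_point K
    (by rw [Nat.card_eq_fintype_card, hK, hqn]; exact dvd_pow_self p (by omega)) (a := (0 : K))
    (fun h => map_zero (θ h))
  obtain ⟨u, hu⟩ := IsCyclic.exists_generator (α := Kˣ)
  let χ : V →+ ZMod p := AddMonoidHom.mk' (fun v => Algebra.trace (ZMod p) K ((u : K) * (x0⁻¹ * ψ v 0)))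
    fun v w => by simp only [map_add, Pi.add_apply, mul_add]
  refine ⟨χ, fun w hw => ?_, ?_, fun b hb hbA hfix => ?_⟩
  · show Algebra.trace (ZMod p) K _ = 0
    rw [(hk w).2 hw]; simp
  · obtain ⟨z, hz⟩ : ∃ z : K, Algebra.trace (ZMod p) K z ≠ 0 := by
      by_contra hall
      push Not at hall
      obtain ⟨b, hb⟩ := hnd _ (one_ne_zero : (1 : K) ≠ 0)
      exact hb (hall _)
    obtain ⟨v, hv⟩ := hs ![0, 1]
    choose cc hcc using fun a : A => hρA ⟨a, hn.le a.2⟩ a.2
    have hi : Function.Injective cc := fun a a' e => by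
      have : (⟨a, hn.le a.2⟩ : ↥(blockOf f q S A)) = ⟨a', hn.le a'.2⟩ := ρ.injective (by rw [hcc, hcc, e])
      exact Subtype.ext (congrArg (fun x : ↥(blockOf f q S A) => (x : P)) this)
    obtain ⟨a, ha⟩ := ((Nat.bijective_iff_injective_and_card cc).2 ⟨hi, by
      rw [hA.card, Nat.card_eq_fintype_card (α := K), hK]⟩).2 (x0 * ((u : K)⁻¹ * z))
    refine ⟨a, a.2, v, ?_⟩
    show Algebra.trace (ZMod p) K ((u : K) * (x0⁻¹ * ψ (f (a : P) v - v) 0)) ≠ 0
    have hcomp : ψ (f (a : P) v - v) 0 = x0 * ((u : K)⁻¹ * z) := by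
      rw [map_sub, Pi.sub_apply, hψ ⟨a, hn.le a.2⟩, hcc, ha, hv]
      simp [Matrix.mulVec, dotProduct, Fin.sum_univ_two, Classical.GL2.uniSL, Matrix.vecHead, Matrix.vecTail]
    rw [hcomp, inv_mul_cancel_left₀ hx0ne.symm, mul_inv_cancel_left₀ u.ne_zero]
    exact hz
  · set h : ↥H := ⟨b, hb, cg_eq_iff.1 hbA⟩
    have hx0' : θ h x0 = x0 := hx0 h
    let σ0 : K → K := fun z => x0⁻¹ * θ h (z * x0)
    have hπ1 : π h 1 ≠ 0 := fun e => by
      have := hπ h 1 1
      rw [e, zero_mul, mul_one] at this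
      exact one_ne_zero (hθinj h (this.trans (map_zero _).symm))
    have hθ1 : θ h 1 ≠ 0 := fun e => one_ne_zero (hθinj h (e.trans (map_zero _).symm))
    have hm : ∀ α y, θ h (α * y) * θ h 1 = θ h α * θ h y := fun α y => by
      have e2 : θ h α = π h α * η h 1 := by have := hπ h α 1; rwa [mul_one] at this
      have e3 : θ h y = π h 1 * η h y := by have := hπ h 1 y; rwa [one_mul] at this
      have e4 : θ h 1 = π h 1 * η h 1 := by have := hπ h 1 1; rwa [one_mul] at this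
      rw [hπ h α y, e2, e3, e4]; ring
    have hσmul : ∀ z w, σ0 (z * w) = σ0 z * σ0 w := fun z w => by
      have e1 : θ h (z * w * x0) * θ h 1 = θ h z * θ h (w * x0) := by rw [mul_assoc]; exact hm z (w * x0)
      have e2 : θ h (z * x0) * θ h 1 = θ h z * x0 := by rw [hm z x0, hx0']
      apply mul_right_cancel₀ hθ1
      show x0⁻¹ * θ h (z * w * x0) * θ h 1 = x0⁻¹ * θ h (z * x0) * (x0⁻¹ * θ h (w * x0)) * θ h 1
      rw [show x0⁻¹ * θ h (z * w * x0) * θ h 1 = x0⁻¹ * (θ h (z * w * x0) * θ h 1) by ring, e1,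
        show x0⁻¹ * θ h (z * x0) * (x0⁻¹ * θ h (w * x0)) * θ h 1 = x0⁻¹ * (θ h (z * x0) * θ h 1) * x0⁻¹ * θ h (w * x0) by ring,
        e2, show x0⁻¹ * (θ h z * x0) * x0⁻¹ = x0⁻¹ * θ h z * (x0 * x0⁻¹) by ring, mul_inv_cancel₀ hx0ne.symm, mul_one, mul_assoc]
    let σ : K →+* K :=
      { toFun := σ0
        map_one' := by show x0⁻¹ * θ h (1 * x0) = 1; rw [one_mul, hx0', inv_mul_cancel₀ hx0ne.symm]
        map_mul' := hσmul
        map_zero' := by show x0⁻¹ * θ h (0 * x0) = 0; rw [zero_mul, map_zero, mul_zero]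
        map_add' := fun z w => by show x0⁻¹ * θ h ((z + w) * x0) = _; rw [add_mul, map_add, mul_add] }
    have hσb : Function.Bijective σ := Finite.injective_iff_bijective.1 σ.injective
    let σa : K ≃ₐ[ZMod p] K := AlgEquiv.ofBijective
      { σ with commutes' := fun c => RingHom.congr_fun (Subsingleton.elim (σ.comp (algebraMap (ZMod p) K)) _) c } hσb
    have hσu : σ (u : K) = (u : K) := by
      by_contra hne
      obtain ⟨w, hw⟩ := hnd _ (sub_ne_zero.2 hne)
      refine hw ?_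
      obtain ⟨z, rfl⟩ := hσb.2 w
      obtain ⟨v, hv, hv0⟩ := hxv (z * x0)
      have h1 := hfix v hv
      change Algebra.trace (ZMod p) K ((u : K) * (x0⁻¹ * ψ (f b v) 0)) =
        Algebra.trace (ZMod p) K ((u : K) * (x0⁻¹ * ψ v 0)) at h1
      rw [show ψ (f b v) 0 = θ h (z * x0) from by rw [← hv0]; exact (hθeq h v hv).symm, hv0,
        show x0⁻¹ * (z * x0) = z * (x0⁻¹ * x0) by ring, inv_mul_cancel₀ hx0ne.symm, mul_one] at h1
      have h2 : Algebra.trace (ZMod p) K (σ ((u : K) * z)) = Algebra.trace (ZMod p) K ((u : K) * z) :=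
        Algebra.trace_eq_of_algEquiv σa _
      rw [map_mul] at h2
      rw [sub_mul, map_sub, h2, sub_eq_zero]
      exact h1.symm
    have hσid : ∀ z, σ z = z := by
      intro z
      rcases eq_or_ne z 0 with rfl | hz
      · exact map_zero σ
      · obtain ⟨m, hm'⟩ := Subgroup.mem_zpowers_iff.1 (hu (Units.mk0 z hz))
        have : z = (u : K) ^ m := by rw [← Units.val_zpow_eq_zpow_val, hm']; rfl
        rw [this, map_zpow₀, hσu]
    intro x hx
    refine (hk _).1 ?_
    have h1 : θ h (ψ x 0) = ψ x 0 := by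
      have h2 := hσid (ψ x 0 * x0⁻¹)
      change x0⁻¹ * θ h (ψ x 0 * x0⁻¹ * x0) = ψ x 0 * x0⁻¹ at h2
      rw [mul_assoc, inv_mul_cancel₀ hx0ne.symm, mul_one, mul_comm (ψ x 0)] at h2
      exact mul_left_cancel₀ (inv_ne_zero hx0ne.symm) h2
    rw [map_sub, sub_eq_zero]
    funext i
    fin_cases i
    · exact (hθeq h x hx).symm.trans h1
    · show ψ (f b x) 1 = ψ x 1
      rw [(hX x).1 hx, ← hX, ← hbA, fixed_cg]; exact ⟨x, hx, rfl⟩

end Frame

end Cfsg.Agent.FFNatural
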