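import Mathlib
import Cfsg.Agent.Lib.PLocal.Natural.Semilinear

/-!
Every offender of a Sylow subgroup is a product of offenders of minimal order.
-/

set_option autoImplicit false
set_option linter.style.longLine false
set_option linter.unusedSectionVars false

namespace Cfsg.Agent.FFNatural

open Cfsg.Lib.Offender

variable {p : ℕ} {P V : Type*} [Group P] [AddCommGroup V] [Module (ZMod p) V]
variable {f : Representation (ZMod p) P V} {q : ℕ}

theorem mem_sup_of_comm {H K : Subgroup P} (h : ∀ x ∈ H, ∀ y ∈ K, x * y = y * x) {z : P} (hz : z ∈ H ⊔ K) :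
    ∃ x ∈ H, ∃ y ∈ K, x * y = z := by
  let HK : Subgroup P :=
    { carrier := {z | ∃ x ∈ H, ∃ y ∈ K, x * y = z}
      one_mem' := ⟨1, one_mem H, 1, one_mem K, one_mul 1⟩
      mul_mem' := by
        rintro _ _ ⟨a, ha, b, hb, rfl⟩ ⟨a', ha', b', hb', rfl⟩
        refine ⟨a * a', mul_mem ha ha', b * b', mul_mem hb hb', ?_⟩
        calc a * a' * (b * b') = a * (a' * b) * b' := by group
          _ = a * (b * a') * b' := by rw [h a' ha' b hb]
          _ = a * b * (a' * b') := by group
      inv_mem' := by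
        rintro _ ⟨a, ha, b, hb, rfl⟩
        refine ⟨a⁻¹, inv_mem ha, b⁻¹, inv_mem hb, ?_⟩
        rw [mul_inv_rev]
        exact h _ (inv_mem ha) _ (inv_mem hb) }
  have hle : H ⊔ K ≤ HK := sup_le (fun x hx => ⟨x, hx, 1, one_mem K, mul_one x⟩)
    fun y hy => ⟨1, one_mem H, y, hy, one_mul y⟩
  exact hle hz

theorem card_sup_of_comm [Finite P] {H K : Subgroup P} (h : ∀ x ∈ H, ∀ y ∈ K, x * y = y * x) :
    Nat.card ↥(H ⊔ K : Subgroup P) ≤ Nat.card ↥H * Nat.card ↥K := by
  rw [← Nat.card_prod]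
  refine Nat.card_le_card_of_surjective (fun z : ↥H × ↥K =>
    (⟨(z.1 : P) * z.2, mul_mem (Subgroup.mem_sup_left z.1.2) (Subgroup.mem_sup_right z.2.2)⟩ : ↥(H ⊔ K : Subgroup P)))
    fun z => ?_
  obtain ⟨x, hx, y, hy, e⟩ := mem_sup_of_comm h z.2
  exact ⟨(⟨x, hx⟩, ⟨y, hy⟩), Subtype.ext e⟩

namespace Frame

variable {T : Sylow p P} {M : Subgroup P} (F : Frame f T M q) [Fact p.Prime] [Finite P] [Finite V]
include F

/-- An element of a Sylow subgroup trivial modulo the fixed points of the blocks is trivial. -/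
theorem eq_one_of_move_syl {S : Subgroup P} (hS : IsSyl (T : Subgroup P) S) {g : P}
    (h : ∀ v, f g v - v ∈ fixed f (⨆ A : {A : Subgroup P // Gen f q A ∧ A ≤ S}, blockOf f q S A)) : g = 1 := by
  obtain ⟨hN, htop⟩ := F.blocks_normal hS
  set N := ⨆ A : {A : Subgroup P // Gen f q A ∧ A ≤ S}, blockOf f q S A with hNdef
  have hinv : ∀ x : P, ∀ z ∈ fixed f N, f x z ∈ fixed f N := fun x z hz n hn => by
    have h1 := hz (x⁻¹ * n * x) (by simpa using hN.conj_mem n hn x⁻¹)
    rw [mul_app, mul_app] at h1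
    exact f_injective x⁻¹ (h1.trans (inv_app x z).symm)
  set C := moveInto f (fixed f N) ⊤ fun x _ z hz => hinv x z hz with hC
  have hCn : C.Normal := ⟨fun c hc x => ⟨trivial, fun v => by
    have := hinv x _ (hc.2 (f x⁻¹ v))
    rwa [map_sub, app_inv, ← mul_app, ← mul_app] at this⟩⟩
  have hquot : IsPGroup p (P ⧸ N) := (F.syl_isPGroup hS).of_surjective ((QuotientGroup.mk' N).comp S.subtype) fun x => by
    obtain ⟨x, rfl⟩ := QuotientGroup.mk'_surjective N x
    obtain ⟨n, hn, s, hs, rfl⟩ := Subgroup.mem_sup_of_normal_left.1 (htop.ge (Subgroup.mem_top x))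
    refine ⟨⟨s, hs⟩, ?_⟩
    show QuotientGroup.mk' N s = QuotientGroup.mk' N (n * s)
    rw [map_mul, (QuotientGroup.eq_one_iff n).2 hn |> fun e => (show QuotientGroup.mk' N n = 1 from e), one_mul]
  have hCp : IsPGroup p C := hquot.of_injective ((QuotientGroup.mk' N).comp C.subtype)
    ((injective_iff_map_eq_one _).2 fun c hc =>
      Subtype.ext (F.eq_one_of_move hN ((QuotientGroup.eq_one_iff _).1 hc) c.2.2))
  have := F.core C hCn hCp
  exact Subgroup.mem_bot.1 (this ▸ (⟨trivial, h⟩ : g ∈ C))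

/-- Every offender of a Sylow subgroup lies in the product of those of minimal order, is the product of those it
contains, and contains one. -/
theorem offender_full {S B : Subgroup P} (hS : IsSyl (T : Subgroup P) S) (hB : IsOff f B) (hBS : B ≤ S) :
    (B ≤ genJoin f q S ∧ (∃ A, Gen f q A ∧ A ≤ B) ∧ Nat.card V = Nat.card ↥B * Nat.card ↥(fixed f B)) ∧
      B ≤ genJoin f q B := by
  classical
  let ι := {A : Subgroup P // Gen f q A ∧ A ≤ S}
  have : Fintype ι := Fintype.ofFinite ι
  let L : ι → Subgroup P := fun i => blockOf f q S (i : Subgroup P)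
  let X : ι → Submodule (ZMod p) V := fun i => fixed f (i : Subgroup P)
  have hnat : ∀ i : ι, NatSL2 f q (i : Subgroup P) (L i) := fun i => (F.block_spec hS i.2.1 i.2.2).1
  have horth : ∀ i j : ι, i ≠ j → ∀ a ∈ (j : Subgroup P),
      (∀ l ∈ L i, a * l = l * a ∧ ∀ v, f a (f l v - v) = f l v - v) ∧ ∀ v, f a v - v ∈ fixed f (L i) :=
    fun i j hij a ha => ⟨fun l hl =>
      ⟨(F.orth_gen hS i.2.1 i.2.2 j.2.1 j.2.2 (fun e => hij (Subtype.ext e.symm)) ha hl).1,
        fun v => ((F.orth_gen hS i.2.1 i.2.2 j.2.1 j.2.2 (fun e => hij (Subtype.ext e.symm)) ha hl).2 v).2⟩,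
      fun v => ((F.orth_gen hS i.2.1 i.2.2 j.2.1 j.2.2 (fun e => hij (Subtype.ext e.symm)) ha (L i).one_mem).2 v).1⟩
  have hu : ∀ (i : ι) v, ∃ u, v - u ∈ fixed f (L i) ∧ ∀ k, k ≠ i → u ∈ X k := by
    intro i v
    obtain ⟨n, hn, hqn⟩ := F.exists_pow i.2.1
    obtain ⟨K, iK, iKt, hK, ρ, ψ, hs, hk, hψ, -, -⟩ := (hnat i).sl2
    obtain ⟨u, hu, hvu⟩ := SL2Model.cover ⟨n, hn, K, iK, iKt, hK.trans hqn, ρ, ψ, hs, hk, hψ⟩ v
    refine ⟨u, hvu, fun k hk' => (Submodule.span_le.2 ?_ : commSpace f (L i) ≤ X k) hu⟩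
    rintro _ ⟨l, hl, w, rfl⟩ a ha
    exact ((horth i k (Ne.symm hk') a ha).1 l hl).2 w
  let DS : Finset ι → Subgroup P := fun s => s.sup fun i => (i : Subgroup P)
  have hDins : ∀ i s, DS (insert i s) = (i : Subgroup P) ⊔ DS s := fun i s => Finset.sup_insert
  have hDmem : ∀ {i : ι} {s}, i ∈ s → (i : Subgroup P) ≤ DS s := fun {i s} h => Finset.le_sup (f := fun i : ι => (i : Subgroup P)) h
  have hDS : DS Finset.univ = genJoin f q S := le_antisymm (Finset.sup_le fun i _ => le_genJoin i.2.1 i.2.2)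
    (iSup_le fun i => hDmem (Finset.mem_univ (i : ι)))
  have hDcent : ∀ s, ∀ i : ι, DS s ≤ Subgroup.centralizer ((i : Subgroup P) : Set P) := fun s i =>
    Finset.sup_le fun j _ x hx y hy => F.gens_comm hS i.2.1 i.2.2 j.2.1 j.2.2 y hy x hx
  have hDcomm : ∀ s (i : ι), ∀ x ∈ (i : Subgroup P), ∀ y ∈ DS s, x * y = y * x :=
    fun s i x hx y hy => hDcent s i hy x hx
  have hDmove : ∀ s i, i ∉ s → ∀ d ∈ DS s, ∀ v, f d v - v ∈ fixed f (L i) := by
    intro s i hi d hd
    have hH : ∀ g ∈ Subgroup.centralizer (L i : Set P), ∀ z ∈ fixed f (L i), f g z ∈ fixed f (L i) := fun g hg z hz l hl => by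
      rw [← mul_app, hg l hl, mul_app, hz l hl]
    have hle : DS s ≤ moveInto f (fixed f (L i)) (Subgroup.centralizer (L i : Set P)) hH :=
      Finset.sup_le fun j hj a ha =>
        have hij : i ≠ j := fun e => hi (e ▸ hj)
        ⟨fun l hl => (((horth i j hij a ha).1 l hl).1).symm, (horth i j hij a ha).2⟩
    exact (hle hd).2
  have hDfix : ∀ s, ∀ v, v ∈ fixed f (DS s) ↔ ∀ i ∈ s, v ∈ X i := fun s v => by
    refine ⟨fun h i hi => fixed_anti (hDmem hi) h, fun h d hd => ?_⟩
    have hle : DS s ≤ vecStab f v := Finset.sup_le fun i hi a ha => h i hi a ha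
    exact hle hd
  have hDcard : ∀ s, Nat.card ↥(DS s) ≤ q ^ s.card ∧ Nat.card V = q ^ s.card * Nat.card ↥(fixed f (DS s)) := by
    intro s
    induction s using Finset.induction_on with
    | empty =>
      refine ⟨by simp [DS], ?_⟩
      rw [Finset.card_empty, pow_zero, one_mul,
        show fixed f (DS ∅) = ⊤ from top_le_iff.1 fun v _ => (hDfix _ v).2 fun i hi => by simp at hi]
      exact (Nat.card_congr (Submodule.topEquiv (R := ZMod p) (M := V)).toEquiv).symm
    | insert i s hi ih =>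
      rw [Finset.card_insert_of_notMem hi, hDins, pow_succ]
      refine ⟨?_, ?_⟩
      · refine (card_sup_of_comm (hDcomm s i)).trans ?_
        rw [i.2.1.card, mul_comm]
        exact Nat.mul_le_mul_right q ih.1
      · have hsup : X i ⊔ fixed f (DS s) = ⊤ := top_le_iff.1 fun v _ => by
          obtain ⟨u, hvu, huk⟩ := hu i v
          exact sub_add_cancel v u ▸ add_mem (Submodule.mem_sup_left ((hnat i).fixed_le hvu))
            (Submodule.mem_sup_right ((hDfix s u).2 fun k hk => huk k fun e => hi (e ▸ hk)))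
        have hinf : fixed f ((i : Subgroup P) ⊔ DS s) = X i ⊓ fixed f (DS s) :=
          le_antisymm (le_inf (fixed_anti le_sup_left) (fixed_anti le_sup_right)) fun v hv => mem_fixed_sup hv.1 hv.2
        have h1 := card_sup_inf (X i) (fixed f (DS s))
        rw [hsup, Nat.card_congr (Submodule.topEquiv (R := ZMod p) (M := V)).toEquiv, (hnat i).cardV] at h1
        rw [hinf, mul_assoc]
        rw [ih.2]
        have hX0 : 0 < Nat.card ↥(X i) := Nat.card_pos
        refine congrArg (q ^ s.card * ·) (Nat.eq_of_mul_eq_mul_left hX0 ?_)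
        calc Nat.card ↥(X i) * Nat.card ↥(fixed f (DS s))
            = q * Nat.card ↥(X i) * Nat.card ↥(X i ⊓ fixed f (DS s)) := h1.symm
          _ = _ := by ring
  set D := DS Finset.univ with hD
  set X0 := fixed f D with hX0
  have hX0i : ∀ i, X0 ≤ X i := fun i => fixed_anti (hDmem (Finset.mem_univ i))
  have hSX0 : ∀ b ∈ S, ∀ x ∈ X0, f b x ∈ X0 := fun b hb x hx => by
    have hbD : cg b D = D := by rw [show D = genJoin f q S from hDS, cg_genJoin, cg_self hb]
    rw [hX0, ← hbD, fixed_cg]; exact ⟨x, hx, rfl⟩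
  have hSi : ∀ b ∈ S, ∀ i : ι, ∃ j : ι, cg b (i : Subgroup P) = j := fun b hb i => ⟨⟨_, gens_conj hb i.2⟩, rfl⟩
  have hXcg : ∀ b (i j : ι), cg b (i : Subgroup P) = j → X j = (X i).map (f b) := fun b i j e => by
    show fixed f (j : Subgroup P) = _
    rw [← e, fixed_cg]
  have hdiff : ∀ i j : ι, j ≠ i → ∀ v, v ∉ X i → ∃ u, u ∈ X j ∧ u ∉ X i ∧ ∀ k, k ≠ i → u ∈ X k := by
    intro i j hji v hv
    obtain ⟨u, hvu, huk⟩ := hu i v
    refine ⟨u, huk j hji, fun hu' => hv ?_, huk⟩
    simpa using add_mem ((hnat i).fixed_le hvu) hu'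
  have hproper : ∀ i : ι, ∃ v, v ∉ X i := fun i => by
    by_contra hall
    push Not at hall
    obtain ⟨a, ha, ha1⟩ := (i : Subgroup P).bot_or_exists_ne_one.resolve_left i.2.1.off.ne_bot
    exact ha1 (F.inj a (LinearMap.ext fun v => hall v a ha))
  -- elements acting trivially block by block
  have hmem : ∀ b ∈ S, (∀ i : ι, cg b (i : Subgroup P) = i) →
      (∀ i : ι, (∀ x ∈ X i, f b x - x ∈ fixed f (L i)) ∨ (∀ v, f b v - v ∈ X i) ∨
        ∀ a ∈ (i : Subgroup P), b * a = a * b) → b ∈ D := by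
    intro b hb hfix halt
    choose a ha hat using fun i : ι => (F.stab_trivial hS i.2.1 i.2.2 hb (hfix i) (halt i)).2.2
    have key : ∀ s : Finset ι, ∃ d ∈ DS s, ∀ i ∈ s, ∀ v, f (d⁻¹ * b) v - v ∈ fixed f (L i) := by
      intro s
      induction s using Finset.induction_on with
      | empty => exact ⟨1, one_mem _, fun i hi => by simp at hi⟩
      | insert i s hi ih =>
        obtain ⟨d, hd, hdk⟩ := ih
        refine ⟨a i * d, by rw [hDins]; exact mul_mem (Subgroup.mem_sup_left (ha i)) (Subgroup.mem_sup_right hd),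
          fun k hk v => ?_⟩
        have hc := hDcomm s i _ (ha i) _ hd
        rcases Finset.mem_insert.1 hk with rfl | hk'
        · have e : f ((a k * d)⁻¹ * b) v - v =
              (f d⁻¹ (f ((a k)⁻¹ * b) v) - f ((a k)⁻¹ * b) v) + (f ((a k)⁻¹ * b) v - v) := by
            rw [mul_inv_rev, mul_assoc, mul_app]; abel
          rw [e]
          exact add_mem (hDmove s k hi _ (inv_mem hd) _) (hat k v)
        · have hik : k ≠ i := fun e => hi (e ▸ hk')
          have e : f ((a i * d)⁻¹ * b) v - v =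
              (f (a i)⁻¹ (f (d⁻¹ * b) v) - f (d⁻¹ * b) v) + (f (d⁻¹ * b) v - v) := by
            rw [hc, mul_inv_rev, mul_assoc, mul_app]; abel
          rw [e]
          exact add_mem ((horth k i hik _ (inv_mem (ha i))).2 _) (hdk k hk' v)
    obtain ⟨d, hd, hdk⟩ := key Finset.univ
    have h1 : d⁻¹ * b = 1 := F.eq_one_of_move_syl hS fun v =>
      fix_iSup _ fun i => hdk i (Finset.mem_univ _) v
    rw [← inv_mul_eq_one.1 h1]; exact hd
  -- the part inside `D`
  set B1 := B ⊓ D with hB1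
  let s : Finset ι := Finset.univ.filter fun i => fixed f B1 ≤ X i
  have hB1s : B1 ≤ DS s := by
    have key : ∀ r : Finset ι, (∀ i ∈ r, i ∉ s) → B1 ≤ DS (Finset.univ \ r) := by
      intro r
      induction r using Finset.induction_on with
      | empty => intro _; rw [Finset.sdiff_empty]; exact inf_le_right
      | insert i r hi ih =>
        intro hr d hd
        have h1 := ih (fun k hk => hr k (Finset.mem_insert_of_mem hk)) hd
        have e : Finset.univ \ r = insert i (Finset.univ \ insert i r) := by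
          ext k; by_cases hk : k = i <;> simp [hk, hi]
        rw [e, hDins] at h1
        obtain ⟨a, ha, d', hd', rfl⟩ := mem_sup_of_comm (hDcomm _ i) h1
        have his : ¬ fixed f B1 ≤ X i := fun h => hr i (Finset.mem_insert_self i r) (by simp [s, h])
        obtain ⟨v, hv, hvX⟩ := SetLike.not_le_iff_exists.1 his
        have hv1 := hv _ hd
        rw [mul_app] at hv1
        have hw := hDmove _ i (by simp) d' hd' v
        have hW1 : f a (f d' v - v) = f d' v - v := (hnat i).fixed_le hw a ha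
        rw [map_sub, hv1] at hW1
        have hm : f a v - v ∈ fixed f (L i) := by
          have : f a v - v = -(f d' v - v) := by
            have h3 : v - f a v = f d' v - v := hW1
            rw [← h3]; abel
          rw [this]; exact neg_mem hw
        by_cases ha1 : a = 1
        · rw [ha1, one_mul]; exact hd'
        · exact absurd ((hnat i).free ha ha1 hm) hvX
    have h2 := key (Finset.univ.filter fun i => i ∉ s) (by simp)
    rwa [show Finset.univ \ (Finset.univ.filter fun i => i ∉ s) = s by ext; simp] at h2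
  have hF1 : fixed f B1 = fixed f (DS s) := le_antisymm
    (fun v hv => (hDfix s v).2 fun i hi => (Finset.mem_filter.1 hi).2 hv) (fixed_anti hB1s)
  -- a functional separating the cosets
  let r : Setoid ι := ⟨fun i j => ∃ b ∈ B, cg b (i : Subgroup P) = j,
    fun i => ⟨1, one_mem B, cg_one _⟩,
    fun {i j} ⟨b, hb, e⟩ => ⟨b⁻¹, inv_mem hb, by rw [← e, cg_inv]⟩,
    fun {i j k} ⟨b, hb, e⟩ ⟨c, hc, e'⟩ => ⟨c * b, mul_mem hc hb, by rw [← cg_cg, e, e']⟩⟩
  let rep : ι → ι := fun i => (Quotient.mk r i).out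
  have hrep : ∀ i : ι, ∃ b ∈ B, cg b ((rep i : ι) : Subgroup P) = i := fun i => Quotient.exact (s := r) (Quotient.out_eq (Quotient.mk r i))
  have hrepc : ∀ i j : ι, (∃ b ∈ B, cg b (i : Subgroup P) = (j : ι)) → rep i = rep j := fun i j h =>
    congrArg Quotient.out (Quotient.sound (s := r) h)
  choose χ hχW hχne hχfix using fun i : ι => F.stab_functional hS i.2.1 i.2.2 hBS
  let Φ₀ : V →+ ZMod p := ∑ i ∈ Finset.univ.filter (fun i => rep i = i), χ i
  have hΦA : ∀ (j : ι), ∀ a ∈ (j : Subgroup P), ∀ v, Φ₀ (f a v - v) = if rep j = j then χ j (f a v - v) else 0 := by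
    intro j a ha v
    simp only [Φ₀, AddMonoidHom.finsetSum_apply]
    rw [Finset.sum_filter, Finset.sum_eq_single j (fun i _ hij => by rw [hχW i _ ((horth i j hij a ha).2 v)]; simp)
      fun h => absurd (Finset.mem_univ j) h]
  have hcommX : ∀ (j : ι), ∀ a ∈ (j : Subgroup P), ∀ v, f a v - v ∈ X0 := fun j a ha v => (hDfix _ _).2 fun k _ => by
    by_cases e : k = j
    · subst e; exact (hnat k).move a ha v
    · exact (hnat k).fixed_le ((horth k j e a ha).2 v)
  have hsep : ∀ b ∈ B, (∀ x ∈ X0, Φ₀ (f b x) = Φ₀ x) → b ∈ D := by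
    intro b hb hfix
    have hrepfix : ∀ i : ι, rep i = i → cg b (i : Subgroup P) = i ∧ ∀ x ∈ X i, f b x - x ∈ fixed f (L i) := by
      intro i hi
      obtain ⟨j, hj⟩ := hSi b (hBS hb) i
      obtain ⟨a, ha, v, hv⟩ := hχne i
      have hconj : f b (f a v - v) = f (b * a * b⁻¹) (f b v) - f b v := by
        rw [map_sub, mul_app, mul_app, inv_app]
      have h1 := hfix _ (hcommX i a ha v)
      rw [hconj, hΦA j _ (show b * a * b⁻¹ ∈ (j : Subgroup P) from hj.le ⟨a, ha, rfl⟩), hΦA i a ha, if_pos hi] at h1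
      have hjr : rep j = j := by
        by_contra h
        rw [if_neg h] at h1
        exact hv h1.symm
      have hij : j = i := hjr.symm.trans ((hrepc i j ⟨b, hb, hj⟩).symm.trans hi)
      subst hij
      refine ⟨hj, hχfix j b hb hj fun x hx => ?_⟩
      -- fixed vectors are commutators of the offender modulo the block fixed points
      obtain ⟨K, iK, iKt, hK, ρ, ψ, hs, hk, hψ, hρA, hX⟩ := (hnat j).sl2
      choose cc hcc using fun a : (j : Subgroup P) => hρA ⟨a, (hnat j).le a.2⟩ a.2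
      have hi' : Function.Injective cc := fun a a' e => by
        have : (⟨a, (hnat j).le a.2⟩ : ↥(L j)) = ⟨a', (hnat j).le a'.2⟩ := ρ.injective (by rw [hcc, hcc, e])
        exact Subtype.ext (congrArg (fun x : ↥(L j) => (x : P)) this)
      obtain ⟨a', ha'⟩ := ((Nat.bijective_iff_injective_and_card cc).2 ⟨hi', by
        rw [j.2.1.card, Nat.card_eq_fintype_card (α := K), hK]⟩).2 (ψ x 0)
      obtain ⟨v', hv'⟩ := hs ![0, 1]
      set w := f (a' : P) v' - v' with hw
      have hxw : x - w ∈ fixed f (L j) := (hk _).1 (by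
        have hψw : ψ w = ψ x := by
          rw [hw, map_sub, hψ ⟨(a' : P), (hnat j).le a'.2⟩, hcc, ha', hv']
          have := (hX x).1 hx
          funext i
          fin_cases i <;> simp [Matrix.mulVec, dotProduct, Fin.sum_univ_two, Classical.GL2.uniSL, Matrix.vecHead,
            Matrix.vecTail, this]
        rw [map_sub, hψw, sub_self])
      have hbw : f b (x - w) ∈ fixed f (L j) := by
        have e : cg b (L j) = L j := by
          show cg b (blockOf f q S (j : Subgroup P)) = _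
          rw [blockOf_conj (hBS hb), hj]
        rw [← e, fixed_cg]; exact ⟨_, hxw, rfl⟩
      have hchi : ∀ y z, y - z ∈ fixed f (L j) → χ j y = χ j z := fun y z h => by
        rw [← sub_eq_zero, ← map_sub]; exact hχW j _ h
      rw [hchi x w hxw, hchi (f b x) (f b w) (by rw [← map_sub]; exact hbw)]
      have h2 := hfix w (hcommX j _ a'.2 v')
      have hcb : f b w = f (b * a' * b⁻¹) (f b v') - f b v' := by
        rw [hw, map_sub, mul_app, mul_app, inv_app]
      rw [hcb, hΦA j _ (show b * (a' : P) * b⁻¹ ∈ (j : Subgroup P) from hj.le ⟨a', a'.2, rfl⟩), if_pos hjr, ← hcb, hΦA j _ a'.2, if_pos hjr] at h2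
      exact h2
    have hall : ∀ i : ι, cg b (i : Subgroup P) = i ∧ ∀ x ∈ X i, f b x - x ∈ fixed f (L i) := by
      intro i
      obtain ⟨c, hc, he⟩ := hrep i
      have hr : rep (rep i) = rep i := hrepc _ _ ⟨c, hc, he⟩
      obtain ⟨h1, h2⟩ := hrepfix _ hr
      have hbc : b * c = c * b := hB.comm b hb c hc
      refine ⟨by rw [← he, cg_cg, hbc, ← cg_cg, h1], fun x hx => ?_⟩
      rw [hXcg c _ _ he] at hx
      obtain ⟨y, hy, rfl⟩ := hx
      rw [← mul_app, hbc, mul_app, ← map_sub]
      have hL : cg c (L (rep i)) = L i := by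
        show cg c (blockOf f q S ((rep i : ι) : Subgroup P)) = _
        rw [blockOf_conj (hBS hc), he]
      rw [← hL, fixed_cg]
      exact ⟨_, h2 y hy, rfl⟩
    exact hmem b (hBS hb) (fun i => (hall i).1) fun i => Or.inl (hall i).2
  -- counting
  let Φ : V →ₗ[ZMod p] ZMod p := AddMonoidHom.toZModLinearMap p Φ₀
  set FB := fixed f B with hFB
  let Q := ↥X0 ⧸ (FB.comap X0.subtype)
  let β : ↥B → Module.Dual (ZMod p) Q := fun b =>
    Submodule.liftQ _ ((Φ.comp (f (b : P) - 1)).comp X0.subtype) fun x hx => by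
      show Φ (f (b : P) (x : V) - x) = 0
      rw [(show (x : V) ∈ FB from hx) b b.2, sub_self, map_zero]
  have hB1D : ∀ c ∈ B1, ∀ x ∈ X0, f c x = x := fun c hc x hx => hx c hc.2
  have hquotle : Nat.card ↥B ≤ Nat.card ↥B1 * Nat.card Q := by
    have hB1B : B1 ≤ B := inf_le_left
    have hfinQ : Finite Q := Finite.of_surjective _ (Submodule.mkQ_surjective _)
    have hdual : Nat.card (Module.Dual (ZMod p) Q) = Nat.card Q := by
      rw [Module.natCard_eq_pow_finrank (K := ZMod p), Module.natCard_eq_pow_finrank (K := ZMod p) (V := Q),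
        Subspace.dual_finrank_eq]
    have : Finite (Module.Dual (ZMod p) Q) := Finite.of_injective (fun φ => (φ : Q → ZMod p)) DFunLike.coe_injective
    have hwell : ∀ b c : ↥B, (b : P)⁻¹ * c ∈ B1 → β b = β c := fun b c h => by
      refine Submodule.linearMap_qext _ (LinearMap.ext fun x => ?_)
      show Φ (f (b : P) x - (x : V)) = Φ (f (c : P) x - (x : V))
      rw [show (c : P) = b * ((b : P)⁻¹ * c) by group, mul_app, hB1D _ h _ x.2]
    let β' : ↥B ⧸ B1.subgroupOf B → Module.Dual (ZMod p) Q := fun z =>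
      Quotient.liftOn' z β fun b c h => hwell b c (by simpa [Subgroup.mem_subgroupOf] using QuotientGroup.leftRel_apply.1 h)
    have hinj : Function.Injective β' := by
      intro z z' e
      induction z using Quotient.inductionOn' with
      | h b =>
        induction z' using Quotient.inductionOn' with
        | h c =>
          refine Quotient.sound' (QuotientGroup.leftRel_apply.2 ?_)
          rw [Subgroup.mem_subgroupOf]
          refine ⟨B.mul_mem (B.inv_mem b.2) c.2, ?_⟩
          refine hsep _ (B.mul_mem (B.inv_mem b.2) c.2) fun x hx => ?_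
          have hy : f (b : P)⁻¹ x ∈ X0 := hSX0 _ (S.inv_mem (hBS b.2)) x hx
          have h1 := LinearMap.congr_fun e (Submodule.Quotient.mk (⟨f (b : P)⁻¹ x, hy⟩ : ↥X0))
          change Φ₀ (f (b : P) (f (b : P)⁻¹ x) - f (b : P)⁻¹ x) = Φ₀ (f (c : P) (f (b : P)⁻¹ x) - f (b : P)⁻¹ x) at h1
          rw [app_inv, map_sub, map_sub, sub_left_inj] at h1
          show Φ₀ (f ((b : P)⁻¹ * c) x) = Φ₀ x
          rw [hB.comm _ (B.inv_mem b.2) _ c.2, mul_app]
          exact h1.symm
    have h1 := (Subgroup.card_eq_card_quotient_mul_card_subgroup (B1.subgroupOf B))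
    rw [Nat.card_congr (Subgroup.subgroupOfEquivOfLe hB1B).toEquiv] at h1
    rw [h1, mul_comm]
    exact Nat.mul_le_mul_left _ ((Nat.card_le_card_of_injective β' hinj).trans hdual.le)
  have hQ : Nat.card ↥X0 = Nat.card Q * Nat.card ↥(FB ⊓ X0) := by
    rw [Submodule.card_eq_card_quotient_mul_card (FB.comap X0.subtype), mul_comm]
    congr 1
    exact Nat.card_congr
      { toFun := fun w => ⟨w.1.1, w.2, w.1.2⟩
        invFun := fun w => ⟨⟨w.1, w.2.2⟩, w.2.1⟩
        left_inv := fun w => rfl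
        right_inv := fun w => rfl }
  have hsupF : FB ⊔ X0 ≤ fixed f B1 := sup_le (fixed_anti inf_le_left) (fixed_anti inf_le_right)
  have hB1card : Nat.card ↥B1 ≤ q ^ s.card :=
    (Subgroup.card_le_of_le hB1s).trans (hDcard s).1
  have hV : Nat.card V = q ^ s.card * Nat.card ↥(fixed f B1) := hF1.symm ▸ (hDcard s).2
  have hsi := card_sup_inf FB X0
  have hq0 : 0 < q := by
    obtain ⟨A, hA⟩ := F.exists_gen
    exact hA.card ▸ Nat.card_pos
  have hle2 : Nat.card ↥(FB ⊔ X0) ≤ Nat.card ↥(fixed f B1) :=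
    Nat.card_mono (Set.toFinite _) (SetLike.coe_subset_coe.2 hsupF)
  have hI : 0 < Nat.card ↥(FB ⊓ X0) := Nat.card_pos
  have hchain : q ^ s.card * Nat.card ↥(fixed f B1) ≤ Nat.card ↥B1 * Nat.card ↥(FB ⊔ X0) := by
    refine Nat.le_of_mul_le_mul_right (show q ^ s.card * Nat.card ↥(fixed f B1) * Nat.card ↥X0 ≤
      Nat.card ↥B1 * Nat.card ↥(FB ⊔ X0) * Nat.card ↥X0 from ?_) Nat.card_pos
    calc q ^ s.card * Nat.card ↥(fixed f B1) * Nat.card ↥X0
        ≤ Nat.card ↥B * Nat.card ↥FB * Nat.card ↥X0 := Nat.mul_le_mul_right _ (hV ▸ hB.bound)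
      _ = Nat.card ↥B * (Nat.card ↥(FB ⊔ X0) * Nat.card ↥(FB ⊓ X0)) := by rw [hsi, mul_assoc]
      _ ≤ Nat.card ↥B1 * Nat.card Q * (Nat.card ↥(FB ⊔ X0) * Nat.card ↥(FB ⊓ X0)) := Nat.mul_le_mul_right _ hquotle
      _ = Nat.card ↥B1 * Nat.card ↥(FB ⊔ X0) * (Nat.card Q * Nat.card ↥(FB ⊓ X0)) := by ring
      _ = _ := by rw [← hQ]
  have hB1eq : Nat.card ↥B1 = q ^ s.card := le_antisymm hB1card
    (Nat.le_of_mul_le_mul_right (hchain.trans (Nat.mul_le_mul_left _ hle2)) Nat.card_pos)
  have hFeq : FB ⊔ X0 = fixed f B1 := eq_of_le_of_card hsupF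
    (Nat.le_of_mul_le_mul_left (hchain.trans_eq (by rw [hB1eq])) (pow_pos hq0 _))
  have hDsB : DS s ≤ B1 := (Subgroup.eq_of_le_of_card_ge hB1s (by rw [hB1eq]; exact (hDcard s).1)).ge
  have hBD : B ≤ D := by
    intro b hb
    have htriv : ∀ v ∈ fixed f B1, f b v - v ∈ X0 := fun v hv => by
      obtain ⟨u, hu', w, hw, rfl⟩ := Submodule.mem_sup.1 (hFeq.ge hv)
      rw [map_add, hu' b hb, add_sub_add_left_eq_sub]
      exact sub_mem (hSX0 b (hBS hb) w hw) hw
    have hin : ∀ i ∈ s, ∀ a ∈ (i : Subgroup P), b * a = a * b := fun i hi a ha =>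
      hB.comm b hb a (hDsB (hDmem hi ha)).1
    have hF1mem : ∀ i ∉ s, ∀ u, (∀ k, k ≠ i → u ∈ X k) → u ∈ fixed f B1 := fun i hi u huk =>
      hF1.symm ▸ (hDfix s u).2 fun k hk => huk k fun e => hi (e ▸ hk)
    have hfixb : ∀ i : ι, cg b (i : Subgroup P) = i := by
      intro i
      by_cases hi : i ∈ s
      · refine Subgroup.eq_of_le_of_card_ge ?_ (card_cg b _).ge
        rintro _ ⟨a, ha, rfl⟩
        rw [MulEquiv.coe_toMonoidHom, MulAut.conj_apply, hin i hi a ha, mul_inv_cancel_right]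
        exact ha
      obtain ⟨j, hj⟩ := hSi b (hBS hb) i
      by_contra hne
      have hji : j ≠ i := fun e => hne (by rw [hj, e])
      obtain ⟨v, hv⟩ := hproper i
      obtain ⟨u, huj, hui, huk⟩ := hdiff i j hji v hv
      rw [hXcg b i j hj] at huj
      obtain ⟨y, hy, e⟩ := huj
      have h1 := htriv u (hF1mem i hi u huk)
      have h2 : f b⁻¹ (f b u - u) ∈ X0 := hSX0 _ (S.inv_mem (hBS hb)) _ h1
      rw [map_sub, inv_app] at h2
      refine hui ?_
      have h3 : f b⁻¹ u = y := by rw [← e, inv_app]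
      rw [h3] at h2
      simpa using add_mem (hX0i i h2) hy
    refine hmem b (hBS hb) hfixb fun i => ?_
    by_cases hi : i ∈ s
    · exact Or.inr (Or.inr (hin i hi))
    refine Or.inr (Or.inl fun v => ?_)
    obtain ⟨u, hvu, huk⟩ := hu i v
    have hXinv : f b (v - u) ∈ X i := by
      show _ ∈ fixed f (i : Subgroup P)
      rw [← hfixb i, fixed_cg]; exact ⟨_, (hnat i).fixed_le hvu, rfl⟩
    have e : f b v - v = (f b (v - u) - (v - u)) + (f b u - u) := by rw [map_sub]; abel
    rw [e]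
    exact add_mem (sub_mem hXinv ((hnat i).fixed_le hvu)) (hX0i i (htriv u (hF1mem i hi u huk)))
  have hBeq : B = B1 := le_antisymm (le_inf le_rfl hBD) inf_le_left
  refine ⟨?_, hBeq.le.trans (hB1s.trans (Finset.sup_le fun i hi =>
    le_genJoin i.2.1 ((hDmem hi).trans (hDsB.trans inf_le_left))))⟩
  refine ⟨hBD.trans hDS.le, ?_⟩
  obtain ⟨i, hi⟩ : s.Nonempty := by
    rw [Finset.nonempty_iff_ne_empty]
    intro e
    refine hB.ne_bot (le_bot_iff.1 (hBeq.le.trans (hB1s.trans ?_)))
    rw [e]; simp [DS]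
  refine ⟨⟨i, i.2.1, (hDmem hi).trans (hDsB.trans inf_le_left)⟩, ?_⟩
  rw [show FB = fixed f B1 from congrArg (fixed f) hBeq, hBeq, hB1eq]
  exact hV

/-- Every offender of a Sylow subgroup lies in the product of those of minimal order and contains one. -/
theorem offender_spec {S B : Subgroup P} (hS : IsSyl (T : Subgroup P) S) (hB : IsOff f B) (hBS : B ≤ S) :
    B ≤ genJoin f q S ∧ (∃ A, Gen f q A ∧ A ≤ B) ∧ Nat.card V = Nat.card ↥B * Nat.card ↥(fixed f B) :=
  (F.offender_full hS hB hBS).1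

/-- An offender of a Sylow subgroup is generated by those of minimal order in it. -/
theorem offender_le_genJoin {S B : Subgroup P} (hS : IsSyl (T : Subgroup P) S) (hB : IsOff f B) (hBS : B ≤ S) :
    B ≤ genJoin f q B :=
  (F.offender_full hS hB hBS).2

/-- A central element of a Sylow subgroup fixing only what all its offenders of minimal order fix. -/
theorem exists_central {S : Subgroup P} (hS : IsSyl (T : Subgroup P) S) :
    ∃ a, a ≠ 1 ∧ a ∈ genJoin f q S ∧ (∀ s ∈ S, s * a = a * s) ∧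
      ∀ v, f a v = v → v ∈ fixed f (genJoin f q S) := by
  classical
  set D := genJoin f q S with hD
  have hnorm : ∀ s ∈ S, cg s D = D := fun s hs => by rw [hD, cg_genJoin, cg_self hs]
  letI : MulAction ↥S ↥D :=
    { smul := fun s d => ⟨(s : P) * d * (s : P)⁻¹, (hnorm s s.2).le ⟨d, d.2, rfl⟩⟩
      one_smul := fun d => Subtype.ext (by show (1 : P) * d * (1 : P)⁻¹ = d; group)
      mul_smul := fun s t d => Subtype.ext (by
        show ((s : P) * t) * d * ((s : P) * t)⁻¹ = (s : P) * ((t : P) * d * (t : P)⁻¹) * (s : P)⁻¹; group) }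
  obtain ⟨A, hA, hAS⟩ := F.gen_in_syl hS
  have hdvd : p ∣ Nat.card ↥D := by
    obtain ⟨n, hn, hqn⟩ := F.exists_pow hA
    refine dvd_trans ?_ (Subgroup.card_dvd_of_le (le_genJoin hA hAS))
    rw [hA.card, hqn]; exact dvd_pow_self p (by omega)
  obtain ⟨⟨a, haD⟩, ha, hne⟩ := (F.syl_isPGroup hS).exists_fixed_point_of_prime_dvd_card_of_fixed_point ↥D hdvd
    (a := 1) (fun s => Subtype.ext (by show (s : P) * (1 : P) * (s : P)⁻¹ = 1; group))
  have hcomm : ∀ s ∈ S, s * a = a * s := fun s hs =>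
    mul_inv_eq_iff_eq_mul.1 (congrArg Subtype.val (ha ⟨s, hs⟩) : s * a * s⁻¹ = a)
  have ha1 : a ≠ 1 := fun e => hne (Subtype.ext e.symm)
  refine ⟨a, ha1, haD, hcomm, fun v hv => ?_⟩
  by_contra hvD
  obtain ⟨A, hvA⟩ : ∃ A : {A : Subgroup P // Gen f q A ∧ A ≤ S}, v ∉ fixed f (A : Subgroup P) := by
    by_contra hall
    push Not at hall
    exact hvD (fix_iSup _ hall)
  -- some vector fixed by `a` is moved by each offender
  have hmoved : ∀ B : {A : Subgroup P // Gen f q A ∧ A ≤ S}, ∃ w, f a w = w ∧ w ∉ fixed f (B : Subgroup P) := by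
    intro B
    obtain ⟨s, hs, hse⟩ := F.exists_smul_gen hS A.2.1 A.2.2 B.2.1 B.2.2
    refine ⟨f s v, by rw [← mul_app, ← hcomm s hs, mul_app, hv], fun h => hvA ?_⟩
    rw [← hse, fixed_cg] at h
    obtain ⟨u, hu, e⟩ := h
    exact f_injective (f := f) s e ▸ hu
  refine ha1 (F.eq_one_of_move_syl hS fun u => fix_iSup _ fun B => ?_)
  obtain ⟨hn, -, hR, -⟩ := F.block_spec hS B.2.1 B.2.2
  have hDle : D ≤ (B : Subgroup P) ⊔ others f q S B := iSup_le fun C => by
    by_cases e : (C : Subgroup P) = B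
    · exact e.le.trans le_sup_left
    · exact (le_others C.2.1 C.2.2 e).trans le_sup_right
  obtain ⟨α, hα, d, hd, e⟩ := mem_sup_of_comm
    (fun x hx y hy => ((hR y hy x (hn.le hx)).1).symm) (hDle haD)
  obtain ⟨w, hw, hwB⟩ := hmoved B
  have hdw := ((hR d hd 1 (one_mem _)).2 w).1
  have hα1 : α = 1 := by
    by_contra hne'
    refine hwB (hn.free hα hne' ?_)
    have h1 : f α (f d w) = w := by rw [← mul_app, e, hw]
    have h2 : f α (f d w - w) = f d w - w := hn.fixed_le hdw α hα
    rw [map_sub, h1] at h2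
    have h3 : f α w - w = -(f d w - w) := by rw [← h2]; abel
    rw [h3]; exact neg_mem hdw
  rw [← e, hα1, one_mul]
  exact ((hR d hd 1 (one_mem _)).2 u).1

end Frame

end Cfsg.Agent.FFNatural
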