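import Mathlib
import Cfsg.Prelude.Def_BaumannBlocks
import Cfsg.Agent.Lib.PLocal.Natural.Structure

/-!
Reading a decomposition of a linear group inside an ambient group.
-/

set_option autoImplicit false
set_option linter.style.longLine false
set_option linter.unusedSectionVars false

namespace Cfsg.Agent.FFNatural

open Cfsg.Lib.Offender
open scoped commutatorElement

variable {G : Type*} [Group G] {p : ℕ} {Q W : Type*} [Group Q] [AddCommGroup W] [Module (ZMod p) W]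

/-- `W` is the subgroup `V` written additively and `Q` is `H` acting by conjugation. -/
structure Amb (V H : Subgroup G) (f : Representation (ZMod p) Q W) (π : ↥H →* Q) (j : W → G) : Prop where
  norm : H ≤ Subgroup.normalizer (V : Set G)
  mem : ∀ w, j w ∈ V
  onto : ∀ x ∈ V, ∃ w, j w = x
  inj : Function.Injective j
  add : ∀ u w, j (u + w) = j u * j w
  conj : ∀ (h : ↥H) w, j (f (π h) w) = (h : G) * j w * (h : G)⁻¹
  surj : Function.Surjective π

/-- The full preimage, inside the ambient group. -/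
def lift {H : Subgroup G} (π : ↥H →* Q) (E : Subgroup Q) : Subgroup G := (E.comap π).map H.subtype

theorem lift_le {H : Subgroup G} (π : ↥H →* Q) (E : Subgroup Q) : lift π E ≤ H := Subgroup.map_subtype_le _

theorem mem_lift {H : Subgroup G} {π : ↥H →* Q} {E : Subgroup Q} {h : ↥H} (he : π h ∈ E) : (h : G) ∈ lift π E :=
  ⟨h, he, rfl⟩

namespace Amb

variable {V H : Subgroup G} {f : Representation (ZMod p) Q W} {π : ↥H →* Q} {j : W → G}

theorem zero (A : Amb V H f π j) : j 0 = 1 := by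
  have h := A.add 0 0
  rw [add_zero] at h
  exact left_eq_mul.1 h

theorem neg (A : Amb V H f π j) (w : W) : j (-w) = (j w)⁻¹ := by
  refine eq_inv_of_mul_eq_one_right ?_
  rw [← A.add, add_neg_cancel, A.zero]

theorem sub (A : Amb V H f π j) (u w : W) : j (u - w) = j u * (j w)⁻¹ := by
  rw [sub_eq_add_neg, A.add, A.neg]

/-- The image of a subspace. -/
def img (A : Amb V H f π j) (U : Submodule (ZMod p) W) : Subgroup G where
  carrier := {x | ∃ w ∈ U, j w = x}
  one_mem' := ⟨0, U.zero_mem, A.zero⟩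
  mul_mem' := by
    rintro _ _ ⟨u, hu, rfl⟩ ⟨w, hw, rfl⟩
    exact ⟨u + w, U.add_mem hu hw, A.add u w⟩
  inv_mem' := by
    rintro _ ⟨u, hu, rfl⟩
    exact ⟨-u, U.neg_mem hu, A.neg u⟩

variable (A : Amb V H f π j)
include A

theorem mem_img {U : Submodule (ZMod p) W} {w : W} : j w ∈ A.img U ↔ w ∈ U :=
  ⟨fun ⟨_, hu, e⟩ => A.inj e ▸ hu, fun h => ⟨w, h, rfl⟩⟩

theorem img_le (U : Submodule (ZMod p) W) : A.img U ≤ V := by rintro _ ⟨w, -, rfl⟩; exact A.mem w

theorem img_top : A.img ⊤ = V :=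
  le_antisymm (A.img_le _) fun x hx => by
    obtain ⟨w, rfl⟩ := A.onto x hx
    exact ⟨w, trivial, rfl⟩

theorem img_mono {U U' : Submodule (ZMod p) W} (h : U ≤ U') : A.img U ≤ A.img U' := by
  rintro _ ⟨w, hw, rfl⟩; exact ⟨w, h hw, rfl⟩

theorem img_sup (U U' : Submodule (ZMod p) W) : A.img (U ⊔ U') = A.img U ⊔ A.img U' := by
  refine le_antisymm ?_ (sup_le (A.img_mono le_sup_left) (A.img_mono le_sup_right))
  rintro _ ⟨w, hw, rfl⟩
  obtain ⟨u, hu, u', hu', rfl⟩ := Submodule.mem_sup.1 hw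
  rw [A.add]
  exact Subgroup.mul_mem _ (Subgroup.mem_sup_left ⟨u, hu, rfl⟩) (Subgroup.mem_sup_right ⟨u', hu', rfl⟩)

theorem img_iSup {ι : Type*} (U : ι → Submodule (ZMod p) W) : A.img (⨆ i, U i) = ⨆ i, A.img (U i) := by
  refine le_antisymm ?_ (iSup_le fun i => A.img_mono (le_iSup U i))
  rintro _ ⟨w, hw, rfl⟩
  refine Submodule.iSup_induction U (motive := fun w => j w ∈ ⨆ i, A.img (U i)) hw
    (fun i w hw => Subgroup.mem_iSup_of_mem i ⟨w, hw, rfl⟩) ?_ ?_
  · show j 0 ∈ _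
    rw [A.zero]; exact one_mem _
  · intro u w hu hw
    show j (u + w) ∈ _
    rw [A.add]; exact mul_mem hu hw

theorem fixed_iff (E : Subgroup Q) (w : W) :
    w ∈ fixed f E ↔ j w ∈ Subgroup.centralizer (lift π E : Set G) := by
  constructor
  · rintro h _ ⟨x, hx, rfl⟩
    have := A.conj x w
    rw [h (π x) hx] at this
    exact (eq_mul_inv_iff_mul_eq.1 this).symm
  · intro h e he
    obtain ⟨x, rfl⟩ := A.surj e
    refine A.inj ?_
    rw [A.conj, mul_inv_eq_iff_eq_mul]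
    exact h x ⟨x, he, rfl⟩

theorem inf_centralizer (E : Subgroup Q) :
    V ⊓ Subgroup.centralizer (lift π E : Set G) = A.img (fixed f E) := by
  refine le_antisymm ?_ ?_
  · rintro x ⟨hx, hxc⟩
    obtain ⟨w, rfl⟩ := A.onto x hx
    exact ⟨w, (A.fixed_iff E w).2 hxc, rfl⟩
  · rintro _ ⟨w, hw, rfl⟩
    exact ⟨A.mem w, (A.fixed_iff E w).1 hw⟩

theorem commutator_eq (E : Subgroup Q) : ⁅V, lift π E⁆ = A.img (commSpace f E) := by
  refine le_antisymm ?_ ?_
  · rw [Subgroup.commutator_le]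
    rintro x hx _ ⟨h, hh, rfl⟩
    obtain ⟨w, rfl⟩ := A.onto x hx
    refine ⟨-(f (π h) w - w), Submodule.neg_mem _ (mem_commSpace (show π h ∈ E from hh) w), ?_⟩
    rw [A.neg, A.sub, A.conj, commutatorElement_def, Subgroup.coe_subtype]
    group
  · let K : AddSubgroup W :=
      { carrier := {w | j w ∈ ⁅V, lift π E⁆}
        zero_mem' := by show j 0 ∈ ⁅V, lift π E⁆; rw [A.zero]; exact one_mem _
        add_mem' := fun {u w} hu hw => by show j (u + w) ∈ ⁅V, lift π E⁆; rw [A.add]; exact mul_mem hu hw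
        neg_mem' := fun {u} hu => by show j (-u) ∈ ⁅V, lift π E⁆; rw [A.neg]; exact inv_mem hu }
    have hle : commSpace f E ≤ AddSubgroup.toZModSubmodule p K := by
      refine Submodule.span_le.2 ?_
      rintro _ ⟨e, he, v, rfl⟩
      obtain ⟨h, rfl⟩ := A.surj e
      show j (f (π h) v - v) ∈ ⁅V, lift π E⁆
      have h1 : ⁅j v, (h : G)⁆⁻¹ ∈ ⁅V, lift π E⁆ :=
        inv_mem (Subgroup.commutator_mem_commutator (A.mem v) ⟨h, he, rfl⟩)
      convert h1 using 1
      rw [A.sub, A.conj, commutatorElement_def]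
      group
    rintro _ ⟨w, hw, rfl⟩
    exact hle hw

theorem norm_comm (E : Subgroup Q) : lift π E ≤ Subgroup.normalizer ((⁅V, lift π E⁆ : Subgroup G) : Set G) := by
  intro x hx
  rw [Subgroup.mem_normalizer_iff_map_conj_eq]
  rw [Subgroup.map_commutator]
  have h1 : V.map (MulAut.conj x).toMonoidHom = V :=
    Subgroup.mem_normalizer_iff_map_conj_eq.1 (A.norm (lift_le π E hx))
  have h2 : (lift π E).map (MulAut.conj x).toMonoidHom = lift π E :=
    Subgroup.mem_normalizer_iff_map_conj_eq.1 (Subgroup.le_normalizer hx)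
  exact congrArg₂ (fun a b : Subgroup G => ⁅a, b⁆) h1 h2

/-- The structure of one block. -/
theorem model {E : Subgroup Q} (h : SL2Model f E ∨ PermModel f E) :
    ∃ n, 1 ≤ n ∧
      ((∃ (F : Type) (_ : Field F) (_ : Fintype F), Fintype.card F = p ^ n ∧
          (∃ ρ : ↥(lift π E) →* Matrix.SpecialLinearGroup (Fin 2) F, Function.Surjective ρ ∧
            ρ.ker = (π.ker.map H.subtype).subgroupOf (lift π E)) ∧
          Cfsg.ActsAsSL2OnSection F ⊤ (lift π E) ⁅V, lift π E⁆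
            (⁅V, lift π E⁆ ⊓ Subgroup.centralizer ((lift π E : Subgroup G) : Set G))) ∨
        (p = 2 ∧ (∃ ρ : ↥(lift π E) →* Equiv.Perm (Fin (2 ^ n + 1)), Function.Surjective ρ ∧
            ρ.ker = (π.ker.map H.subtype).subgroupOf (lift π E)) ∧
          Cfsg.ActsAsOddPermModuleOnSection (2 ^ n + 1) ⊤ (lift π E) ⁅V, lift π E⁆
            (⁅V, lift π E⁆ ⊓ Subgroup.centralizer ((lift π E : Subgroup G) : Set G)))) := by
  classical
  set L := lift π E with hL
  let emb : ↥L →* ↥H := Subgroup.inclusion (lift_le π E)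
  have hemb : ∀ x : ↥L, π (emb x) ∈ E := fun x => by
    obtain ⟨h, hh, e⟩ := x.2
    rw [show emb x = h from Subtype.ext e.symm]
    exact hh
  let π₁ : ↥L →* ↥E := (π.comp emb).codRestrict E hemb
  have hπ₁ : Function.Surjective π₁ := fun e => by
    obtain ⟨h, hh⟩ := A.surj (e : Q)
    have hmem : π h ∈ E := by rw [hh]; exact e.2
    exact ⟨⟨h, mem_lift hmem⟩, Subtype.ext hh⟩
  have hker : ∀ {K : Type} [Group K] (ρ : ↥E ≃* K),
      (ρ.toMonoidHom.comp π₁).ker = (π.ker.map H.subtype).subgroupOf L := by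
    intro K _ ρ
    ext x
    rw [MonoidHom.mem_ker, MonoidHom.comp_apply, MulEquiv.coe_toMonoidHom, map_eq_one_iff ρ ρ.injective,
      Subgroup.mem_subgroupOf]
    constructor
    · intro h
      exact ⟨emb x, congrArg Subtype.val h, rfl⟩
    · rintro ⟨h, hh, e⟩
      refine Subtype.ext ?_
      show π (emb x) = 1
      rw [show emb x = h from Subtype.ext e.symm]
      exact hh
  have hU : ∀ u : ↥⁅V, L⁆, ∃ w, j w = u ∧ w ∈ commSpace f E := fun u => by
    obtain ⟨w, hw, e⟩ := (A.commutator_eq E).le u.2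
    exact ⟨w, e, hw⟩
  choose r hr hr' using hU
  have hradd : ∀ u v : ↥⁅V, L⁆, r (u * v) = r u + r v := fun u v => A.inj (by rw [hr, A.add, hr, hr]; rfl)
  have hact : ∀ (e : ↥L) (u : ↥⁅V, L⁆), ∃ w : ↥⁅V, L⁆, (w : G) = (e : G) * (u : G) * (e : G)⁻¹ ∧
      r w = f (π₁ e : Q) (r u) := fun e u => by
    have h0 : (e : G) * (u : G) * (e : G)⁻¹ ∈ ⁅V, L⁆ :=
      (Subgroup.mem_normalizer_iff.1 (A.norm_comm E e.2) _).1 u.2
    refine ⟨⟨_, h0⟩, rfl, A.inj ?_⟩
    rw [hr]
    exact (congrArg (fun t => (e : G) * t * (e : G)⁻¹) (hr u).symm).trans (A.conj (emb e) (r u)).symm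
  have hk : ∀ u : ↥⁅V, L⁆, r u ∈ fixed f E ↔ (u : G) ∈ ⁅V, L⁆ ⊓ Subgroup.centralizer (L : Set G) := fun u => by
    rw [A.fixed_iff, hr]
    exact ⟨fun h => ⟨u.2, h⟩, fun h => h.2⟩
  have hsur : ∀ w ∈ commSpace f E, ∃ u, r u = w := fun w hw =>
    ⟨⟨j w, (A.commutator_eq E).ge ⟨w, hw, rfl⟩⟩, A.inj (hr _)⟩
  rcases h with h | h
  · have hcov := h.cover
    obtain ⟨n, hn, K, iK, iKt, hK, ρ, ψ, hs, hψk, hψ⟩ := h
    refine ⟨n, hn, Or.inl ⟨K, iK, iKt, hK, ⟨ρ.toMonoidHom.comp π₁, ρ.surjective.comp hπ₁, hker ρ⟩,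
      A.norm_comm E, inf_le_left, ρ.toMonoidHom.comp π₁,
      { toFun := fun u => Multiplicative.ofAdd (ψ (r u))
        map_one' := by
          rw [show r 1 = 0 from A.inj (by rw [hr, A.zero]; rfl), map_zero]; rfl
        map_mul' := fun u v => by rw [hradd, map_add]; rfl },
      MonoidHom.range_eq_top.2 (ρ.surjective.comp hπ₁), fun c => ?_, fun u => ?_, fun e u => ?_⟩⟩
    · obtain ⟨v, hv⟩ := hs c.toAdd
      obtain ⟨w, hw, hvw⟩ := hcov v
      obtain ⟨u, hu⟩ := hsur w hw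
      refine ⟨u, congrArg Multiplicative.ofAdd (?_ : ψ (r u) = c.toAdd)⟩
      have h1 := (hψk _).2 hvw
      rw [map_sub, sub_eq_zero] at h1
      rw [hu, ← h1, hv]
    · rw [← hk, ← hψk]
      exact ⟨fun h => congrArg Multiplicative.toAdd h, fun h => congrArg Multiplicative.ofAdd h⟩
    · obtain ⟨w, hw, e'⟩ := hact e u
      refine ⟨w, hw, ?_⟩
      show ψ (r w) = _
      rw [e', hψ]
      rfl
  · have hcov := h.cover
    obtain ⟨hp, n, hn, ρ, ψ, hev, hs, hψk, hψ⟩ := h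
    refine ⟨n, hn, Or.inr ⟨hp, ⟨ρ.toMonoidHom.comp π₁, ρ.surjective.comp hπ₁, hker ρ⟩,
      A.norm_comm E, inf_le_left, ρ.toMonoidHom.comp π₁,
      { toFun := fun u => Multiplicative.ofAdd (ψ (r u))
        map_one' := by
          rw [show r 1 = 0 from A.inj (by rw [hr, A.zero]; rfl), map_zero]; rfl
        map_mul' := fun u v => by rw [hradd, map_add]; rfl },
      MonoidHom.range_eq_top.2 (ρ.surjective.comp hπ₁), fun u => hev _, fun c hc => ?_, fun u => ?_, fun e u => ?_⟩⟩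
    · obtain ⟨v, hv⟩ := hs c hc
      obtain ⟨w, hw, hvw⟩ := hcov v
      obtain ⟨u, hu⟩ := hsur w hw
      refine ⟨u, (?_ : ψ (r u) = c)⟩
      have h1 := (hψk _).2 hvw
      rw [map_sub, sub_eq_zero] at h1
      rw [hu, ← h1, hv]
    · rw [← hk, ← hψk]
      exact ⟨fun h => congrArg Multiplicative.toAdd h, fun h => congrArg Multiplicative.ofAdd h⟩
    · obtain ⟨w, hw, e'⟩ := hact e u
      refine ⟨w, hw, fun i => ?_⟩
      show ψ (r w) i = _
      rw [e', hψ]
      rfl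

theorem lift_iSup {ι : Type*} [Nonempty ι] (E : ι → Subgroup Q) : (⨆ i, lift π (E i)) = lift π (⨆ i, E i) := by
  have h : (⨆ i, (E i).comap π) = (⨆ i, E i).comap π := by
    have h1 : (⨆ i, (E i).comap π).map π = ⨆ i, E i := by
      rw [Subgroup.map_iSup]
      exact iSup_congr fun i => Subgroup.map_comap_eq_self_of_surjective A.surj _
    have i₀ : ι := Classical.arbitrary ι
    conv_rhs => rw [← h1]
    rw [Subgroup.comap_map_eq, eq_comm, sup_eq_left]
    exact le_iSup_of_le i₀ fun x hx => by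
      rw [Subgroup.mem_comap, MonoidHom.mem_ker.1 hx]; exact one_mem _
  simp only [lift]
  rw [← Subgroup.map_iSup, h]

variable {T : Subgroup ↥H} {ι : Type*} [Fintype ι] [Nonempty ι] {E : ι → Subgroup Q}
  (D : Decomp f (T.map π) E)
include D

theorem block_comm (i k : ι) (h : i ≠ k) : ⁅lift π (E i), lift π (E k)⁆ ≤ π.ker.map H.subtype := by
  rw [Subgroup.commutator_le]
  rintro _ ⟨x, hx, rfl⟩ _ ⟨y, hy, rfl⟩
  refine ⟨⁅x, y⁆, ?_, map_commutatorElement _ _ _⟩
  rw [SetLike.mem_coe, MonoidHom.mem_ker, map_commutatorElement, commutatorElement_eq_one_iff_mul_comm]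
  exact D.comm i k h _ hx _ hy

theorem block_inter (i : ι) :
    lift π (E i) ⊓ (⨆ k ∈ {k | k ≠ i}, lift π (E k)) ≤ π.ker.map H.subtype := by
  rintro x ⟨hx, hx'⟩
  obtain ⟨y, hy, rfl⟩ := hx
  refine ⟨y, ?_, rfl⟩
  rw [SetLike.mem_coe, MonoidHom.mem_ker, ← Subgroup.mem_bot, ← D.inter i]
  refine ⟨hy, ?_⟩
  have hsup : (⨆ k ∈ {k | k ≠ i}, lift π (E k)) = (⨆ k ∈ {k | k ≠ i}, (E k).comap π).map H.subtype := by
    simp only [lift, Subgroup.map_iSup]
  rw [hsup] at hx'
  obtain ⟨y', hy', e⟩ := hx'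
  rw [show y = y' from Subtype.ext e.symm]
  have : (⨆ k ∈ {k | k ≠ i}, (E k).comap π) ≤ (⨆ k ∈ {k | k ≠ i}, E k).comap π :=
    iSup₂_le fun k hk => Subgroup.comap_mono (le_biSup E hk)
  exact this hy'

theorem block_trans (i k : ι) : ∃ t ∈ T.map H.subtype,
    (lift π (E i)).map (MulAut.conj t).toMonoidHom = lift π (E k) := by
  obtain ⟨s, ⟨t, ht, rfl⟩, he⟩ := D.trans i k
  refine ⟨t, ⟨t, ht, rfl⟩, ?_⟩
  simp only [lift, ← he]
  rw [Subgroup.map_map,
    show (MulAut.conj ((t : ↥H) : G)).toMonoidHom.comp H.subtype = H.subtype.comp (MulAut.conj t).toMonoidHom from rfl,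
    ← Subgroup.map_map]
  refine congrArg (Subgroup.map H.subtype) (le_antisymm ?_ ?_)
  · rintro _ ⟨y, hy, rfl⟩
    exact ⟨π y, hy, by simp⟩
  · intro y hy
    obtain ⟨z, hz, e⟩ := hy
    refine ⟨t⁻¹ * y * t, ?_, by simp [mul_assoc]⟩
    rw [SetLike.mem_coe, Subgroup.mem_comap, map_mul, map_mul, map_inv, ← e]
    simpa [mul_assoc] using hz

theorem block_top : (⨆ i, lift π (E i)) ⊔ T.map H.subtype = H := by
  rw [A.lift_iSup, lift, ← Subgroup.map_sup]
  conv_rhs => rw [← H.range_subtype, MonoidHom.range_eq_map]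
  congr 1
  rw [eq_top_iff]
  intro x _
  have hx : π x ∈ ((⨆ i, E i).comap π ⊔ T).map π := by
    rw [Subgroup.map_sup, Subgroup.map_comap_eq_self_of_surjective A.surj, D.top]
    trivial
  obtain ⟨y, hy, e⟩ := hx
  have hk : y⁻¹ * x ∈ (⨆ i, E i).comap π := by
    rw [Subgroup.mem_comap, map_mul, map_inv, e, inv_mul_cancel]
    exact one_mem _
  simpa using mul_mem hy (Subgroup.mem_sup_left hk : y⁻¹ * x ∈ (⨆ i, E i).comap π ⊔ T)

theorem block_cover : (V ⊓ Subgroup.centralizer ((⨆ i, lift π (E i) : Subgroup G) : Set G)) ⊔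
    (⨆ i, ⁅V, lift π (E i)⁆) = V := by
  rw [A.lift_iSup, A.inf_centralizer, iSup_congr fun i => A.commutator_eq (E i), ← A.img_iSup, ← A.img_sup,
    D.cover, A.img_top]

theorem block_orth (i k : ι) (h : i ≠ k) : ⁅⁅V, lift π (E i)⁆, lift π (E k)⁆ = ⊥ := by
  rw [Subgroup.commutator_eq_bot_iff_le_centralizer, A.commutator_eq]
  exact (A.img_mono (D.commSpace_le h.symm)).trans ((A.inf_centralizer (E k)).ge.trans inf_le_right)

end Amb

end Cfsg.Agent.FFNatural
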