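import Mathlib
import Cfsg.Agent.Lib.PLocal.Natural.Offenders

/-!
With an offender, the group moves the fixed points of a Sylow subgroup.
-/

set_option autoImplicit false
set_option linter.style.longLine false
set_option linter.unusedSectionVars false

namespace Cfsg.Agent.FFNatural

open Cfsg.Lib.Offender

theorem exists_fixed_vector' {p : ℕ} [Fact p.Prime] {P V : Type*} [Group P] [AddCommGroup V] [Module (ZMod p) V]
    [Finite V] {f : Representation (ZMod p) P V} {S : Subgroup P} (hS : IsPGroup p S) {U : Submodule (ZMod p) V}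
    (hne : U ≠ ⊥) (hU : ∀ g ∈ S, ∀ u ∈ U, f g u ∈ U) :
    ∃ v ∈ U, v ≠ 0 ∧ ∀ g ∈ S, f g v = v := by
  letI : MulAction ↥S ↥U :=
    { smul := fun g w => ⟨f g w, hU g g.2 w w.2⟩
      one_smul := fun w => Subtype.ext (show f 1 (w : V) = w by rw [map_one, Module.End.one_apply])
      mul_smul := fun g g' w => Subtype.ext (show f ((g : P) * g') (w : V) = f g (f g' w) from mul_app _ _ _) }
  have : Nontrivial ↥U := Submodule.nontrivial_iff_ne_bot.2 hne
  have hdvd : p ∣ Nat.card ↥U := by
    rw [Module.natCard_eq_pow_finrank (K := ZMod p), Nat.card_zmod]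
    exact dvd_pow_self p Module.finrank_pos.ne'
  obtain ⟨w, hw, hw0⟩ := hS.exists_fixed_point_of_prime_dvd_card_of_fixed_point ↥U hdvd
    (a := 0) (fun g => Subtype.ext (map_zero (f g)))
  exact ⟨w, w.2, fun e => hw0 (Subtype.ext e.symm), fun g hg => congrArg Subtype.val (hw ⟨g, hg⟩)⟩

theorem sylow_fixed_not_le.{u, v} {p : ℕ} [Fact p.Prime] {P : Type u} [Group P] [Finite P] {T : Sylow p P}
    {M : Subgroup P} (hM : IsCoatom M) (hle : (T : Subgroup P) ≤ M)
    (huniq : ∀ K : Subgroup P, IsCoatom K → (T : Subgroup P) ≤ K → K = M)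
    (hcore : ∀ N : Subgroup P, N.Normal → IsPGroup p N → N = ⊥) :
    ∀ (V : Type v) [AddCommGroup V] [Module (ZMod p) V] [Finite V] (f : Representation (ZMod p) P V),
      (∀ g, f g = 1 → g = 1) → (∃ A, IsOff f A) → ¬ fixed f (T : Subgroup P) ≤ fixed f ⊤ := by
  suffices key : ∀ (n : ℕ) (V : Type v) [AddCommGroup V] [Module (ZMod p) V] [Finite V]
      (f : Representation (ZMod p) P V), Nat.card V = n → (∀ g, f g = 1 → g = 1) → (∃ A, IsOff f A) →
      ¬ fixed f (T : Subgroup P) ≤ fixed f ⊤ by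
    intro V _ _ _ f h1 h2
    exact key _ V f rfl h1 h2
  intro n
  induction n using Nat.strong_induction_on with
  | _ n ih =>
  intro V _ _ _ f hn hinj hoff hfix
  subst hn
  set W := fixed f (⊤ : Subgroup P) with hW
  -- an offender inside `T`
  obtain ⟨B, hB, hBT⟩ : ∃ B, IsOff f B ∧ B ≤ (T : Subgroup P) := by
    obtain ⟨A, hA⟩ := hoff
    obtain ⟨S, hS⟩ := hA.isPGroup.exists_le_sylow
    obtain ⟨g, hg⟩ := MulAction.exists_smul_eq P S T
    refine ⟨cg g A, hA.conj g, ?_⟩
    rw [← hg, Sylow.coe_subgroup_smul]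
    exact cg_mono hS g
  -- the fixed space is nonzero
  have hWne : W ≠ ⊥ := by
    intro hW0
    have hV : (⊤ : Submodule (ZMod p) V) ≠ ⊥ := by
      intro e
      obtain ⟨b, hb, hb1⟩ := B.bot_or_exists_ne_one.resolve_left hB.ne_bot
      refine hb1 (hinj b (LinearMap.ext fun v => ?_))
      have : v = 0 := (Submodule.mem_bot _).1 (e ▸ Submodule.mem_top)
      rw [this, map_zero, map_zero]
    obtain ⟨v, -, hv0, hv⟩ := exists_fixed_vector' (f := f) T.isPGroup' hV fun g _ u _ => trivial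
    have h1 : v ∈ W := hfix fun g hg => hv g hg
    rw [hW0, Submodule.mem_bot] at h1
    exact hv0 h1
  let fb := modFixed f
  have hπW : ∀ v, W.mkQ v = 0 ↔ v ∈ W := fun v => Submodule.Quotient.mk_eq_zero W
  have : Finite (V ⧸ W) := Finite.of_surjective _ (Submodule.mkQ_surjective W)
  have hcardV : Nat.card V = Nat.card ↥W * Nat.card (V ⧸ W) := Submodule.card_eq_card_quotient_mul_card W
  have hWinv : ∀ g : P, ∀ w ∈ W, f g w = w := fun g w hw => hw g trivial
  have hinjb : ∀ g, fb g = 1 → g = 1 := by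
    let C : Subgroup P := moveInto f W ⊤ fun g _ w hw => (hWinv g w hw).symm ▸ hw
    have hCn : C.Normal := ⟨fun c hc x => ⟨trivial, fun v => by
      have h1 := hc.2 (f x⁻¹ v)
      have h2 := (hWinv x _ h1).symm ▸ h1
      rwa [map_sub, app_inv, ← mul_app, ← mul_app] at h2⟩⟩
    have hCp : IsPGroup p C := fun c => ⟨1, Subtype.ext (by
      rw [pow_one, Subgroup.coe_pow]
      refine hinj _ (LinearMap.ext fun u => ?_)
      have hit : ∀ n : ℕ, f ((c : P) ^ n) u = u + n • (f (c : P) u - u) := by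
        intro n
        induction n with
        | zero => simp
        | succ n ih =>
          rw [pow_succ', mul_app, ih, map_add, map_nsmul, hWinv (c : P) _ (c.2.2 u), succ_nsmul]
          abel
      rw [hit, ← Nat.cast_smul_eq_nsmul (ZMod p), ZMod.natCast_self, zero_smul, add_zero]
      rfl)⟩
    intro g hg
    have hgC : g ∈ C := ⟨trivial, fun v => (hπW _).1 (by
      rw [map_sub, sub_eq_zero]
      exact LinearMap.congr_fun hg (W.mkQ v))⟩
    exact Subgroup.mem_bot.1 (hcore C hCn hCp ▸ hgC)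
  have hfixmap : ∀ A : Subgroup P, (fixed f A).map W.mkQ ≤ fixed fb A := by
    rintro A _ ⟨v, hv, rfl⟩ a ha
    show fb a (W.mkQ v) = W.mkQ v
    rw [modFixed_mk, hv a ha]
  have hcardle : ∀ A : Subgroup P, Nat.card ↥(fixed f A) ≤ Nat.card ↥W * Nat.card ↥((fixed f A).map W.mkQ) := by
    intro A
    let g := W.mkQ.comp (fixed f A).subtype
    have hr : LinearMap.range g = (fixed f A).map W.mkQ := by rw [LinearMap.range_comp, Submodule.range_subtype]
    rw [Submodule.card_eq_card_quotient_mul_card (LinearMap.ker g),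
      Nat.card_congr (LinearMap.quotKerEquivRange g).toEquiv, hr]
    refine Nat.mul_le_mul_right _ (Nat.card_le_card_of_injective
      (fun x : ↥(LinearMap.ker g) => (⟨(x.1 : V), (hπW _).1 (LinearMap.mem_ker.1 x.2)⟩ : ↥W)) fun x y e => ?_)
    exact Subtype.ext (Subtype.ext (congrArg Subtype.val e :))
  have hoffb : ∀ A, IsOff f A → IsOff fb A := fun A hA =>
    { ne_bot := hA.ne_bot
      comm := hA.comm
      exp := hA.exp
      bound := by
        refine Nat.le_of_mul_le_mul_left (show Nat.card ↥W * Nat.card (V ⧸ W) ≤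
          Nat.card ↥W * (Nat.card ↥A * Nat.card ↥(fixed fb A)) from ?_) Nat.card_pos
        rw [← hcardV, mul_left_comm]
        refine hA.bound.trans (Nat.mul_le_mul_left _ ((hcardle A).trans (Nat.mul_le_mul_left _ ?_)))
        exact Nat.card_mono (Set.toFinite _) (SetLike.coe_subset_coe.2 (hfixmap A)) }
  have hWcard : 1 < Nat.card ↥W := by
    have : Nontrivial ↥W := Submodule.nontrivial_iff_ne_bot.2 hWne
    exact Finite.one_lt_card
  have hlt : Nat.card (V ⧸ W) < Nat.card V := by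
    rw [hcardV]
    exact lt_mul_left Nat.card_pos hWcard
  have hmoveb := ih _ hlt (V ⧸ W) fb rfl hinjb ⟨B, hoffb B hB⟩
  obtain ⟨q, F⟩ := exists_frame (f := fb) (T := T) (M := M) hinjb hM hle huniq hcore hmoveb ⟨B, hoffb B hB⟩
  have hS : IsSyl (T : Subgroup P) (T : Subgroup P) := ⟨1, cg_one _⟩
  obtain ⟨-, ⟨A, hA, hAB⟩, hcardB⟩ := F.offender_spec hS (hoffb B hB) hBT
  -- fixed points of the offender are full preimages
  have hpre : ∀ v, W.mkQ v ∈ fixed fb B → v ∈ fixed f B := by
    have h1 : Nat.card ↥(fixed fb B) ≤ Nat.card ↥((fixed f B).map W.mkQ) := by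
      refine Nat.le_of_mul_le_mul_left (show Nat.card ↥W * Nat.card ↥B * Nat.card ↥(fixed fb B) ≤
        Nat.card ↥W * Nat.card ↥B * Nat.card ↥((fixed f B).map W.mkQ) from ?_) (Nat.mul_pos Nat.card_pos Nat.card_pos)
      rw [mul_assoc, ← hcardB, ← hcardV, mul_comm (Nat.card ↥W) (Nat.card ↥B), mul_assoc]
      exact hB.bound.trans (Nat.mul_le_mul_left _ (hcardle B))
    have h2 := eq_of_le_of_card (hfixmap B) h1
    intro v hv
    obtain ⟨u, hu, e⟩ := h2.ge hv
    have h3 : v - u ∈ W := (hπW _).1 (by rw [map_sub, e, sub_self])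
    have h4 := add_mem (fixed_anti le_top h3 : v - u ∈ fixed f B) hu
    rwa [sub_add_cancel] at h4
  have hDfix : ∀ v, W.mkQ v ∈ fixed fb (genJoin fb q (T : Subgroup P)) → v ∈ fixed f (genJoin fb q (T : Subgroup P)) := by
    intro v hv
    refine fix_iSup _ fun C => ?_
    obtain ⟨s, hs, hse⟩ := F.exists_smul_gen hS hA (hAB.trans hBT) C.2.1 C.2.2
    rw [← hse]
    refine fixed_anti (cg_mono hAB s) ?_
    have hB' : cg s B ≤ genJoin fb q (T : Subgroup P) := by
      rw [← cg_self hs]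
      have := F.offender_spec hS ((hoffb B hB).conj s) (cg_le_of_mem hs hBT)
      rw [cg_self hs]
      exact this.1
    have h5 : f s⁻¹ v ∈ fixed f B := hpre _ (by
      have h6 := fixed_anti hB' hv
      rw [fixed_cg] at h6
      obtain ⟨u, hu, e⟩ := h6
      have : fb s⁻¹ (W.mkQ v) = u := by rw [← e, inv_app]
      rw [← modFixed_mk, this]; exact hu)
    rw [fixed_cg]
    exact ⟨_, h5, app_inv s v⟩
  obtain ⟨a, ha1, haD, hac, hafull⟩ := F.exists_central hS
  have hcut : ∀ v, f a v - v ∈ W → f a v = v := fun v hv => hDfix v (hafull _ (by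
    rw [modFixed_mk, ← sub_eq_zero, ← map_sub]; exact (hπW _).2 hv)) a haD
  set N := LinearMap.range (f a - 1) with hN
  have hN0 : N ≠ ⊥ := fun e => ha1 (hinj a (sub_eq_zero.1 (LinearMap.range_eq_bot.1 e)))
  have hNinv : ∀ g ∈ (T : Subgroup P), ∀ u ∈ N, f g u ∈ N := by
    rintro g hg _ ⟨v, rfl⟩
    refine ⟨f g v, ?_⟩
    show f a (f g v) - f g v = f g (f a v - v)
    rw [map_sub, ← mul_app, ← hac g hg, mul_app]
  obtain ⟨w, hw, hw0, hwfix⟩ := exists_fixed_vector' (f := f) T.isPGroup' hN0 hNinv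
  obtain ⟨v, rfl⟩ := hw
  have h1 : f a v - v ∈ W := hfix fun g hg => hwfix g hg
  exact hw0 (sub_eq_zero.2 (hcut v h1))

end Cfsg.Agent.FFNatural
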